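import Cfsg.Agent.Lib.Invol.CycTI.Ree.Eigen

/-!
No equivariant alternating trilinear map of the shape `[[a, b], c]` between fixed point free modules of dimension
`e` for a group element of order dividing `m = (3^e - 1)/2`.
-/

set_option autoImplicit false
set_option linter.unusedSectionVars false
set_option linter.style.haveILetI false

namespace Cfsg.Agent.Invol.CycTI.Ree.Weights

open scoped _root_.Classical

/-- The congruence `3^i + 3^j ≡ 3^a + 3^b` determines the pair. -/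
theorem pair_unique {e m i j a b : ℕ} (hm : 2 * m + 1 = 3 ^ e) (he : 3 ≤ e) (hi : i < e) (hj : j < e) (ha : a < e)
    (hb : b < e) (hij : i ≠ j) (hab : a ≠ b) (h : 3 ^ i + 3 ^ j ≡ 3 ^ a + 3 ^ b [MOD m]) :
    (i = a ∧ j = b) ∨ (i = b ∧ j = a) := by
  have lt : ∀ x y : ℕ, x < e → y < e → x ≠ y → 2 * (3 ^ x + 3 ^ y) < 2 * m := by
    intro x y hx hy hxy
    obtain ⟨f, rfl⟩ : ∃ f, e = f + 2 := ⟨e - 2, by omega⟩
    have h3 : 3 ≤ 3 ^ f := Nat.le_self_pow (by omega) 3
    rw [pow_add] at hm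
    rcases Nat.lt_or_gt_of_ne hxy with h | h
    · have h1 := Nat.pow_le_pow_right (show 0 < 3 by norm_num) (show x ≤ f by omega)
      have h2 := Nat.pow_le_pow_right (show 0 < 3 by norm_num) (show y ≤ f + 1 by omega)
      rw [pow_succ] at h2
      omega
    · have h1 := Nat.pow_le_pow_right (show 0 < 3 by norm_num) (show y ≤ f by omega)
      have h2 := Nat.pow_le_pow_right (show 0 < 3 by norm_num) (show x ≤ f + 1 by omega)
      rw [pow_succ] at h2
      omega
  have heq : 3 ^ i + 3 ^ j = 3 ^ a + 3 ^ b := by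
    have h2 := h.mul_left' (c := 2)
    have := Nat.ModEq.eq_of_lt_of_lt h2 (lt i j hi hj hij) (lt a b ha hb hab)
    omega
  have ord : ∀ i j a b : ℕ, i < j → a < b → 3 ^ i + 3 ^ j = 3 ^ a + 3 ^ b → i = a ∧ j = b := by
    intro i j a b hij hab h
    have hbd : ∀ x y : ℕ, x < y → 3 ^ y < 3 ^ x + 3 ^ y ∧ 3 ^ x + 3 ^ y < 3 ^ (y + 1) := fun x y hxy => by
      have h1 := Nat.pow_lt_pow_right (show 1 < 3 by norm_num) hxy
      have h2 := pow_pos (show 0 < 3 by norm_num) x
      rw [pow_succ]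
      omega
    have hjb : j = b := by
      have h1 := hbd i j hij
      have h2 := hbd a b hab
      rw [← h] at h2
      have e1 : j < b + 1 := (Nat.pow_lt_pow_iff_right (show 1 < 3 by norm_num)).1 (h1.1.trans h2.2)
      have e2 : b < j + 1 := (Nat.pow_lt_pow_iff_right (show 1 < 3 by norm_num)).1 (h2.1.trans h1.2)
      omega
    subst hjb
    exact ⟨Nat.pow_right_injective (show 2 ≤ 3 by norm_num) (Nat.add_right_cancel h), rfl⟩
  rcases Nat.lt_or_gt_of_ne hij with h1 | h1 <;> rcases Nat.lt_or_gt_of_ne hab with h2 | h2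
  · exact Or.inl (ord i j a b h1 h2 heq)
  · exact Or.inr (ord i j b a h1 h2 (by omega))
  · exact Or.inr ((ord j i a b h1 h2 (by omega)).symm)
  · exact Or.inl ((ord j i b a h1 h2 (by omega)).symm)

universe u

/-- A fixed point free map of order dividing `m` in dimension `e`. -/
structure Fpf {V : Type u} [AddCommGroup V] [Module (ZMod 3) V] (S : V →ₗ[ZMod 3] V) (e m : ℕ) : Prop where
  dim : Module.finrank (ZMod 3) V = e
  pow : S ^ m = 1
  free : ∀ k, 0 < k → k < m → ∀ v, (S ^ k) v = v → v = 0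

section Coords

variable {V : Type u} [AddCommGroup V] [Module (ZMod 3) V] {e : ℕ} (b : Module.Basis (Fin e) (ZMod 3) V)

/-- Coordinates over the closure. -/
noncomputable def co (v : V) : Fin e → K := fun i => emb (b.repr v i)

theorem co_basis (i : Fin e) : co b (b i) = Pi.basisFun K (Fin e) i := by
  funext j
  simp only [co, Module.Basis.repr_self, Pi.basisFun_apply, Finsupp.single_apply, Pi.single_apply]
  by_cases h : i = j
  · simp [h]
  · simp [h, Ne.symm h]

theorem co_expand (v : V) : co b v = ∑ i, emb (b.repr v i) • Pi.basisFun K (Fin e) i := by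
  funext j
  simp [co, Finset.sum_apply, Pi.single_apply]
  rw [Algebra.smul_def, mul_one]

theorem co_map (S : V →ₗ[ZMod 3] V) (v : V) : baseMap (LinearMap.toMatrix b b S) (co b v) = co b (S v) := by
  funext j
  rw [baseMap, Matrix.toLin'_apply]
  show ((LinearMap.toMatrix b b S).map emb).mulVec (emb ∘ ⇑(b.repr v)) j = _
  rw [← RingHom.map_mulVec, LinearMap.toMatrix_mulVec_repr]
  rfl

theorem co_ne_zero {v : V} (hv : v ≠ 0) : co b v ≠ 0 := fun h => hv (b.repr.map_eq_zero_iff.1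
  (Finsupp.ext fun i => emb.injective ((congrFun h i).trans (map_zero emb).symm)))

theorem Fpf.orbit {m : ℕ} (hm : 2 * m + 1 = 3 ^ e) (he : 2 ≤ e) {S : V →ₗ[ZMod 3] V} (h : Fpf S e m) :
    Nonempty (Orbit (baseMap (LinearMap.toMatrix b b S)) m) := by
  refine exists_orbit hm he _ ?_ fun k hk hkm v hv => ?_
  · rw [show LinearMap.toMatrix b b S = LinearMap.toMatrixAlgEquiv b S from rfl, ← map_pow, h.pow, map_one]
  · rw [show LinearMap.toMatrix b b S = LinearMap.toMatrixAlgEquiv b S from rfl, ← map_pow,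
      show LinearMap.toMatrixAlgEquiv b (S ^ k) = LinearMap.toMatrix b b (S ^ k) from rfl,
      show v = ⇑(b.repr (b.equivFun.symm v)) from (b.equivFun.apply_symm_apply v).symm,
      LinearMap.toMatrix_mulVec_repr] at hv
    have h0 := h.free k hk hkm _ (b.equivFun.injective hv)
    rw [← b.equivFun.apply_symm_apply v, h0, map_zero]

end Coords

section Main

variable {V W Z : Type u} [AddCommGroup V] [Module (ZMod 3) V] [AddCommGroup W] [Module (ZMod 3) W]
  [AddCommGroup Z] [Module (ZMod 3) Z] {e : ℕ}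

/-- The bilinear extension. -/
noncomputable def ext2 (bV : Module.Basis (Fin e) (ZMod 3) V) (bW : Module.Basis (Fin e) (ZMod 3) W)
    (bZ : Module.Basis (Fin e) (ZMod 3) Z) (β : V →ₗ[ZMod 3] W →ₗ[ZMod 3] Z) :
    (Fin e → K) →ₗ[K] (Fin e → K) →ₗ[K] (Fin e → K) :=
  (Pi.basisFun K (Fin e)).constr K fun r => (Pi.basisFun K (Fin e)).constr K fun s => co bZ (β (bV r) (bW s))

theorem co_sum {bZ : Module.Basis (Fin e) (ZMod 3) Z} {ι : Type} [Fintype ι] (x : ι → ZMod 3) (z : ι → Z) :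
    co bZ (∑ r, x r • z r) = ∑ r, emb (x r) • co bZ (z r) := by
  funext j
  simp [co, map_sum, Finset.sum_apply]
  simp [Algebra.smul_def]

theorem ext2_co (bV : Module.Basis (Fin e) (ZMod 3) V) (bW : Module.Basis (Fin e) (ZMod 3) W)
    (bZ : Module.Basis (Fin e) (ZMod 3) Z) (β : V →ₗ[ZMod 3] W →ₗ[ZMod 3] Z) (a : V) (b : W) :
    ext2 bV bW bZ β (co bV a) (co bW b) = co bZ (β a b) := by
  conv_rhs => rw [← bV.sum_repr a, map_sum, LinearMap.sum_apply]
  rw [co_expand bV a, map_sum, LinearMap.sum_apply]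
  simp only [map_smul, LinearMap.smul_apply, co_sum]
  refine Finset.sum_congr rfl fun r _ => ?_
  congr 1
  conv_rhs => rw [← bW.sum_repr b, map_sum]
  simp only [map_smul, co_sum]
  rw [co_expand bW b, map_sum]
  simp only [map_smul]
  refine Finset.sum_congr rfl fun s _ => ?_
  rw [ext2, Module.Basis.constr_basis, Module.Basis.constr_basis]

/-- The statement. -/
theorem no_alternating {m : ℕ} (hm : 2 * m + 1 = 3 ^ e) (he : 3 ≤ e) (S : V →ₗ[ZMod 3] V) (T : W →ₗ[ZMod 3] W)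
    (R : Z →ₗ[ZMod 3] Z) (hS : Fpf S e m) (hT : Fpf T e m) (hR : Fpf R e m)
    (β : V →ₗ[ZMod 3] V →ₗ[ZMod 3] W) (γ : W →ₗ[ZMod 3] V →ₗ[ZMod 3] Z)
    (hβ : ∀ a b, β (S a) (S b) = T (β a b)) (hγ : ∀ w c, γ (T w) (S c) = R (γ w c))
    (hanti : ∀ a b c, γ (β b a) c = - γ (β a b) c) (hcyc : ∀ a b c, γ (β b c) a = γ (β a b) c) :
    ∀ a b c, γ (β a b) c = 0 := by
  haveI : Fact (Nat.Prime 3) := ⟨Nat.prime_three⟩
  haveI : CharP K 3 := charP_of_injective_algebraMap emb.injective 3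
  haveI : Module.Finite (ZMod 3) V := Module.finite_of_finrank_pos (by rw [hS.dim]; omega)
  haveI : Module.Finite (ZMod 3) W := Module.finite_of_finrank_pos (by rw [hT.dim]; omega)
  haveI : Module.Finite (ZMod 3) Z := Module.finite_of_finrank_pos (by rw [hR.dim]; omega)
  by_contra hne
  push Not at hne
  obtain ⟨a₀, b₀, c₀, h₀⟩ := hne
  let bV := Module.finBasisOfFinrankEq (ZMod 3) V hS.dim
  let bW := Module.finBasisOfFinrankEq (ZMod 3) W hT.dim
  let bZ := Module.finBasisOfFinrankEq (ZMod 3) Z hR.dim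
  obtain ⟨OV⟩ := hS.orbit bV hm (by omega)
  obtain ⟨OW⟩ := hT.orbit bW hm (by omega)
  obtain ⟨OZ⟩ := hR.orbit bZ hm (by omega)
  set SK := baseMap (LinearMap.toMatrix bV bV S)
  set TK := baseMap (LinearMap.toMatrix bW bW T)
  set RK := baseMap (LinearMap.toMatrix bZ bZ R)
  set βK := ext2 bV bV bW β
  set γK := ext2 bW bV bZ γ
  set e₁ := Pi.basisFun K (Fin e)
  have hco : ∀ {U : Type u} [AddCommGroup U] [Module (ZMod 3) U] (b : Module.Basis (Fin e) (ZMod 3) U) r,
      e₁ r = co b (b r) := fun b r => (co_basis b r).symm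
  -- extended identities
  have hβK : ∀ a b, βK (SK a) (SK b) = TK (βK a b) := by
    have h : βK.compl₁₂ SK SK = βK.compr₂ TK := e₁.ext fun r => e₁.ext fun s => by
      rw [LinearMap.compl₁₂_apply, LinearMap.compr₂_apply, hco bV r, hco bV s, co_map, co_map, ext2_co, ext2_co,
        hβ, co_map]
    intro a b
    exact LinearMap.congr_fun₂ h a b
  have hγK : ∀ w c, γK (TK w) (SK c) = RK (γK w c) := by
    have h : γK.compl₁₂ TK SK = γK.compr₂ RK := e₁.ext fun r => e₁.ext fun s => by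
      rw [LinearMap.compl₁₂_apply, LinearMap.compr₂_apply, hco bW r, hco bV s, co_map, co_map, ext2_co, ext2_co,
        hγ, co_map]
    intro w c
    exact LinearMap.congr_fun₂ h w c
  set Φ := βK.compr₂ γK with hΦ
  have hΦb : ∀ r s u, Φ (e₁ r) (e₁ s) (e₁ u) = co bZ (γ (β (bV r) (bV s)) (bV u)) := fun r s u => by
    rw [hΦ, LinearMap.compr₂_apply, hco bV r, hco bV s, hco bV u, ext2_co, ext2_co]
  have hantiK : ∀ a b c, Φ b a c = - Φ a b c := by
    have hneg : ∀ z : Z, co bZ (-z) = - co bZ z := fun z => by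
      funext j
      simp [co]
    have h1 : ∀ r s c, Φ (e₁ s) (e₁ r) c = - Φ (e₁ r) (e₁ s) c := by
      intro r s c
      have h : Φ (e₁ s) (e₁ r) = - Φ (e₁ r) (e₁ s) := e₁.ext fun u => by
        rw [LinearMap.neg_apply, hΦb, hΦb, hanti, hneg]
      exact LinearMap.congr_fun h c
    have h2 : ∀ r b c, Φ b (e₁ r) c = - Φ (e₁ r) b c := by
      intro r b c
      have h : (Φ.flip (e₁ r)).flip c = -((Φ (e₁ r)).flip c) := e₁.ext fun s => by
        rw [LinearMap.neg_apply, LinearMap.flip_apply, LinearMap.flip_apply, LinearMap.flip_apply, h1]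
      exact LinearMap.congr_fun h b
    intro a b c
    have h : (Φ b).flip c = -((Φ.flip b).flip c) := e₁.ext fun r => by
      rw [LinearMap.neg_apply, LinearMap.flip_apply, LinearMap.flip_apply, LinearMap.flip_apply, h2]
    exact LinearMap.congr_fun h a
  have hcycK : ∀ a b c, Φ b c a = Φ a b c := by
    have h1 : ∀ r s, ∀ c, Φ (e₁ s) c (e₁ r) = Φ (e₁ r) (e₁ s) c := by
      intro r s
      have h : (Φ (e₁ s)).flip (e₁ r) = Φ (e₁ r) (e₁ s) := e₁.ext fun u => by
        rw [LinearMap.flip_apply, hΦb, hΦb, hcyc]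
      exact fun c => LinearMap.congr_fun h c
    have h2 : ∀ r b c, Φ b c (e₁ r) = Φ (e₁ r) b c := by
      intro r b c
      have h : (Φ.flip c).flip (e₁ r) = (Φ (e₁ r)).flip c := e₁.ext fun s => by
        rw [LinearMap.flip_apply, LinearMap.flip_apply, LinearMap.flip_apply, h1]
      exact LinearMap.congr_fun h b
    intro a b c
    have h : Φ b c = (Φ.flip b).flip c := e₁.ext fun r => by
      rw [LinearMap.flip_apply, LinearMap.flip_apply, h2]
    exact LinearMap.congr_fun h a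
  -- a nonzero value on eigenvectors
  obtain ⟨i, j, k, hijk⟩ : ∃ i j k, Φ (OV.vec i) (OV.vec j) (OV.vec k) ≠ 0 := by
    by_contra hh
    push Not at hh
    have h : Φ = 0 := OV.vec.ext fun i => OV.vec.ext fun j => OV.vec.ext fun k => hh i j k
    refine co_ne_zero bZ h₀ ?_
    rw [← ext2_co bW bV bZ γ, ← ext2_co bV bV bW β]
    exact LinearMap.congr_fun (LinearMap.congr_fun₂ h (co bV a₀) (co bV b₀)) (co bV c₀)
  have h2ne : (2 : K) ≠ 0 := by
    intro h
    have h' : ((2 : ℕ) : K) = 0 := by exact_mod_cast h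
    rw [CharP.cast_eq_zero_iff K 3] at h'
    omega
  have alt : ∀ a c, Φ a a c = 0 := fun a c => by
    have h := hantiK a a c
    rw [eq_neg_iff_add_eq_zero, ← two_smul K] at h
    exact (smul_eq_zero.1 h).resolve_left h2ne
  have hij : i ≠ j := fun h => hijk (by rw [h]; exact alt _ _)
  have hjk : j ≠ k := fun h => hijk (by rw [← hcycK, h]; exact alt _ _)
  have hki : k ≠ i := fun h => hijk (by rw [← hcycK, ← hcycK, h]; exact alt _ _)
  -- the weights of `W`
  set lam := OV.root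
  set ν := OW.root
  have hW : ∀ a b c, Φ (OV.vec a) (OV.vec b) (OV.vec c) ≠ 0 →
      ∃ x : Fin e, lam ^ (3 ^ (a : ℕ) + 3 ^ (b : ℕ)) = ν ^ 3 ^ (x : ℕ) := by
    intro a b c h
    refine OW.eigenvalue (v := βK (OV.vec a) (OV.vec b)) (fun h0 => h ?_) ?_
    · rw [hΦ, LinearMap.compr₂_apply, h0, map_zero, LinearMap.zero_apply]
    · rw [← hβK, OV.eig, OV.eig, LinearMap.map_smul₂, map_smul, smul_smul, ← pow_add]
  have hcyc1 : Φ (OV.vec j) (OV.vec k) (OV.vec i) ≠ 0 := by rw [hcycK]; exact hijk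
  have hcyc2 : Φ (OV.vec k) (OV.vec i) (OV.vec j) ≠ 0 := by rw [hcycK, hcycK]; exact hijk
  have hlam : orderOf lam = m := OV.order
  have hν : orderOf ν = m := OW.order
  have hm0 : 0 < m := lt_of_le_of_lt (Nat.zero_le _) (bound hm (by omega) (show 0 < e by omega))
  haveI : NeZero e := ⟨by omega⟩
  -- the relation between consecutive pairs
  have shift : ∀ i j k : Fin e, i ≠ j → j ≠ k → k ≠ i →
      (∃ x : Fin e, lam ^ (3 ^ (i : ℕ) + 3 ^ (j : ℕ)) = ν ^ 3 ^ (x : ℕ)) →
      (∃ x : Fin e, lam ^ (3 ^ (j : ℕ) + 3 ^ (k : ℕ)) = ν ^ 3 ^ (x : ℕ)) → k - j = j - i := by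
    rintro i j k hij hjk hki ⟨x, hx⟩ ⟨y, hy⟩
    set s : Fin e := y - x with hs
    have hsxy : x + s = y := by rw [hs, add_sub_cancel]
    have hval : ∀ a : Fin e, lam ^ 3 ^ ((a : ℕ) + (s : ℕ)) = lam ^ 3 ^ ((a + s : Fin e) : ℕ) := fun a => by
      rw [frob_periodic hm hlam, Fin.val_add]
    have hyν : ν ^ 3 ^ ((x : ℕ) + (s : ℕ)) = ν ^ 3 ^ (y : ℕ) := by
      rw [frob_periodic hm hν, ← Fin.val_add, hsxy]
    have heq : lam ^ (3 ^ ((i + s : Fin e) : ℕ) + 3 ^ ((j + s : Fin e) : ℕ)) =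
        lam ^ (3 ^ (j : ℕ) + 3 ^ (k : ℕ)) := by
      rw [hy, ← hyν, pow_add, ← hval, ← hval, ← pow_add, pow_add 3 (i : ℕ), pow_add 3 (j : ℕ), pow_add 3 (x : ℕ),
        ← add_mul, pow_mul, hx, ← pow_mul]
    rw [(orderOf_pos_iff.1 (hlam ▸ hm0)).pow_eq_pow_iff_modEq, hlam] at heq
    rcases pair_unique hm he (Fin.is_lt _) (Fin.is_lt _) (Fin.is_lt _) (Fin.is_lt _)
      (fun h => hij (add_right_cancel (Fin.ext h))) (fun h => hjk (Fin.ext h)) heq with ⟨h1, h2⟩ | ⟨h1, h2⟩
    · rw [← Fin.ext h2, ← Fin.ext h1]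
      abel
    · exfalso
      have h2' : j + s = j := Fin.ext h2
      rw [add_eq_left] at h2'
      exact hki (by rw [← (Fin.ext h1 : i + s = k), h2', add_zero])
  have e1 := shift i j k hij hjk hki (hW _ _ _ hijk) (hW _ _ _ hcyc1)
  have e2 := shift j k i hjk hki hij (hW _ _ _ hcyc1) (hW _ _ _ hcyc2)
  set d := j - i with hd
  have hd0 : d ≠ 0 := by rw [hd, sub_ne_zero]; exact Ne.symm hij
  have hi' : i + d = j := by rw [hd, add_sub_cancel]
  have hj' : j + d = k := by rw [← e1, add_sub_cancel]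
  have hk' : k + d = i := by rw [← e1, ← e2, add_sub_cancel]
  -- the weight of `Z` is not primitive
  obtain ⟨z, hz⟩ := OZ.eigenvalue (μ := lam ^ (3 ^ (i : ℕ) + 3 ^ (j : ℕ) + 3 ^ (k : ℕ))) hijk (by
    rw [hΦ, LinearMap.compr₂_apply, ← hγK, ← hβK, OV.eig, OV.eig, OV.eig]
    simp only [map_smul, LinearMap.smul_apply, smul_smul, LinearMap.map_smul₂]
    congr 1
    rw [pow_add, pow_add]
    ring)
  set μ := OZ.root ^ 3 ^ (z : ℕ)
  have hμ : orderOf μ = m := by
    rw [(orderOf_pos_iff.1 (OZ.order.symm ▸ hm0)).orderOf_pow, OZ.order,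
      (three_coprime hm (by omega) _).gcd_eq_one, Nat.div_one]
  have hfix : μ ^ 3 ^ (d : ℕ) = μ ^ 3 ^ 0 := by
    rw [pow_zero, pow_one, ← hz, ← pow_mul, add_mul, add_mul, pow_add lam, pow_add lam, ← pow_add 3, ← pow_add 3,
      ← pow_add 3, frob_periodic hm hlam ((i : ℕ) + d), frob_periodic hm hlam ((j : ℕ) + d),
      frob_periodic hm hlam ((k : ℕ) + d), ← Fin.val_add, ← Fin.val_add, ← Fin.val_add, hi', hj', hk',
      pow_add lam, pow_add lam]
    ring
  exact hd0 (Fin.ext (by rw [frob_inj hm (by omega) hμ d.is_lt (by omega) hfix]; rfl))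

end Main

end Cfsg.Agent.Invol.CycTI.Ree.Weights
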