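import Cfsg.Agent.Lib.Invol.CycTI.Ree.Local
import Cfsg.Agent.Lib.Invol.CycTI.Ree.Weights

/-!
Exponent three makes the group 2-Engel, so `[[a, b], c]` is alternating on the factor group by the derived subgroup:
the weights of the torus exclude this.
-/

set_option autoImplicit false
set_option linter.unusedSectionVars false
set_option linter.style.haveILetI false

namespace Cfsg.Agent.Invol.CycTI.Ree

open Subgroup Weights
open scoped _root_.Classical commutatorElement

universe u

section Generic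

variable {G : Type u} [Group G]

theorem exp3_rel {a b : G} (hab : (a * b) ^ 3 = 1) (hb : b ^ 3 = 1) : a * (b * a * b⁻¹) = b⁻¹ * a⁻¹ * b := by
  rw [pow_succ, pow_two] at hab hb
  have hb2 : b⁻¹ * b⁻¹ = b := by
    calc b⁻¹ * b⁻¹ = (b * b * b) * (b⁻¹ * b⁻¹) := by rw [hb, one_mul]
      _ = b := by group
  calc a * (b * a * b⁻¹) = (a * b * (a * b) * (a * b)) * b⁻¹ * a⁻¹ * (b⁻¹ * b⁻¹) := by group
    _ = _ := by rw [hab, hb2, one_mul]

/-- Groups of exponent three are 2-Engel. -/
theorem engel_three (h : ∀ x : G, x ^ 3 = 1) (a b : G) : ⁅⁅b, a⁆, a⁆ = 1 := by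
  have h1 := exp3_rel (h (a * b)) (h b)
  have h2 := exp3_rel (h (a * b⁻¹)) (h b⁻¹)
  rw [inv_inv] at h2
  have hc : a * (b * a * b⁻¹) = (b * a * b⁻¹) * a := by
    have e : b⁻¹ * a * b = (b * a * b⁻¹)⁻¹ * a⁻¹ := by
      rw [← _root_.mul_inv_rev, h1]; group
    rw [e] at h2
    have e2 : a * (b * a * b⁻¹)⁻¹ * a⁻¹ = (b * a * b⁻¹)⁻¹ := by rw [mul_assoc, h2]; group
    have e3 : Commute a (b * a * b⁻¹)⁻¹ := by
      show a * (b * a * b⁻¹)⁻¹ = (b * a * b⁻¹)⁻¹ * a
      conv_rhs => rw [← e2]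
      group
    exact Commute.inv_right_iff.1 e3
  refine commutatorElement_eq_one_iff_mul_comm.2 ?_
  have hcc : Commute a (b * a * b⁻¹ * a⁻¹) := (show Commute a _ from hc).mul_right (Commute.refl a).inv_right
  exact hcc.symm.eq

variable {A B C : Type u} [CommGroup A] [CommGroup B] [CommGroup C] [Module (ZMod 3) (Additive A)]
  [Module (ZMod 3) (Additive B)] [Module (ZMod 3) (Additive C)]

/-- Homomorphisms as linear maps. -/
noncomputable def toLin (f : A →* B) : Additive A →ₗ[ZMod 3] Additive B := f.toAdditive.toZModLinearMap 3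

theorem toLin_apply (f : A →* B) (a : A) : toLin f (Additive.ofMul a) = Additive.ofMul (f a) := rfl

/-- Biadditive maps as bilinear maps. -/
noncomputable def toBil (f : A →* B →* C) : Additive A →ₗ[ZMod 3] Additive B →ₗ[ZMod 3] Additive C :=
  (AddMonoidHom.mk' (fun a : Additive A => toLin (f a.toMul)) fun a a' => LinearMap.ext fun b => by
    show Additive.ofMul (f (a + a').toMul b.toMul) = Additive.ofMul (f a.toMul b.toMul * f a'.toMul b.toMul)
    rw [toMul_add, map_mul, MonoidHom.mul_apply]).toZModLinearMap 3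

theorem toBil_apply (f : A →* B →* C) (a : A) (b : B) :
    toBil f (Additive.ofMul a) (Additive.ofMul b) = Additive.ofMul (f a b) := rfl

theorem toLin_pow (f : A →* A) (k : ℕ) (a : A) : (toLin f ^ k) (Additive.ofMul a) = Additive.ofMul (f^[k] a) := by
  induction k with
  | zero => rfl
  | succ k ih => rw [pow_succ', Module.End.mul_apply, ih, toLin_apply, Function.iterate_succ_apply']

theorem fpf_of {e m : ℕ} (hA : Nat.card A = 3 ^ e) (f : A →* A) (hpow : ∀ a, f^[m] a = a)
    (hfree : ∀ k, 0 < k → k < m → ∀ a, f^[k] a = a → a = 1) : Fpf (toLin f) e m where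
  dim := by
    haveI := Fact.mk Nat.prime_three
    haveI : Finite (Additive A) := Nat.finite_of_card_ne_zero (α := Additive A) (by
      show Nat.card A ≠ 0
      rw [hA]; positivity)
    have h := Module.natCard_eq_pow_finrank (K := ZMod 3) (V := Additive A)
    rw [Nat.card_zmod, show Nat.card (Additive A) = Nat.card A from rfl, hA] at h
    exact (Nat.pow_right_injective (le_refl 2 |>.trans (by norm_num)) h).symm
  pow := LinearMap.ext fun a => (toLin_pow f m a.toMul).trans (congrArg Additive.ofMul (hpow _))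
  free := fun k h0 hk a ha => congrArg Additive.ofMul (hfree k h0 hk a.toMul (by
    have h := toLin_pow f k a.toMul
    rw [show Additive.ofMul a.toMul = a from rfl, ha] at h
    exact congrArg Additive.toMul h.symm))

end Generic

namespace Big

variable {H : Type u} [Group H] [Finite H] (D : Big H)

/-- The third term, as a subgroup depending on the data. -/
def Zs (_ : Big H) : Subgroup H := Z (H := H)

/-- The commutative structure. -/
instance commU : CommGroup ↥D.U :=
  { (inferInstance : Group ↥D.U) with mul_comm := fun a b => Subtype.ext (D.U_comm _ a.2 _ b.2) }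

/-- The commutative structure. -/
instance commZs : CommGroup ↥D.Zs :=
  { (inferInstance : Group ↥D.Zs) with mul_comm := fun a b => Subtype.ext (D.Z_central a.2 b).eq }

/-- The projection of the derived subgroup on the fixed points. -/
noncomputable def pr : ↥(commutator H) →* ↥D.U where
  toFun r := ⟨((r : H) * D.τ r) ^ 2, (D.hU _).1 (by
    have h : D.τ r ∈ commutator H := by
      have hle : (commutator H).map D.τ.toMonoidHom ≤ commutator H := by
        rw [commutator_def, map_commutator]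
        exact commutator_mono le_top le_top
      exact hle ⟨r, r.2, rfl⟩
    rw [map_pow, map_mul, D.hτ, (D.R_comm r.2 h).eq])⟩
  map_one' := Subtype.ext (by simp)
  map_mul' r s := Subtype.ext (by
    have hle : ∀ y ∈ commutator H, D.τ y ∈ commutator H := fun y hy => by
      have hle : (commutator H).map D.τ.toMonoidHom ≤ commutator H := by
        rw [commutator_def, map_commutator]
        exact commutator_mono le_top le_top
      exact hle ⟨y, hy, rfl⟩
    show ((r : H) * s * D.τ ((r : H) * s)) ^ 2 = ((r : H) * D.τ r) ^ 2 * ((s : H) * D.τ s) ^ 2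
    have c1 : Commute ((r : H) * D.τ r) ((s : H) * D.τ s) :=
      D.R_comm (mul_mem r.2 (hle _ r.2)) (mul_mem s.2 (hle _ s.2))
    rw [← c1.mul_pow, map_mul]
    congr 1
    calc (r : H) * s * (D.τ r * D.τ s) = r * ((s : H) * D.τ r) * D.τ s := by group
      _ = r * (D.τ r * s) * D.τ s := by rw [(D.R_comm s.2 (hle _ r.2)).eq]
      _ = _ := by group)

theorem pr_spec (r : ↥(commutator H)) : ∃ z ∈ Z (H := H), (r : H) = (D.pr r : H) * z := by
  obtain ⟨u, hu, z, hz, h⟩ := D.R_le_UZ r.2
  refine ⟨z, hz, ?_⟩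
  have hc : D.pr r = u := by
    show ((r : H) * D.τ r) ^ 2 = u
    rw [h, map_mul, (D.hU u).2 hu, D.tau_Z hz]
    have h1 : u * z * (u * z⁻¹) = u ^ 2 := by
      calc u * z * (u * z⁻¹) = u * (z * u) * z⁻¹ := by group
        _ = u * (u * z) * z⁻¹ := by rw [(D.Z_central hz u).eq]
        _ = u ^ 2 := by rw [pow_two]; group
    rw [h1, ← pow_mul, show 2 * 2 = 3 + 1 from rfl, pow_succ, D.cube_one D.inv_U D.card_U D.U_comm hu, one_mul]
  rw [hc]; exact h

theorem pr_Z (r : ↥(commutator H)) (h : (r : H) ∈ Z (H := H)) : D.pr r = 1 := by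
  refine Subtype.ext ?_
  show ((r : H) * D.τ r) ^ 2 = 1
  rw [D.tau_Z h, mul_inv_cancel, one_pow]

/-- The commutator of two elements, as an element of the derived subgroup. -/
def cm (a b : H) : ↥(commutator H) := ⟨⁅a, b⁆, commutator_mem_commutator (mem_top a) (mem_top b)⟩

theorem pr_conj (r : ↥(commutator H)) (a : H) :
    ∀ h : a * r * a⁻¹ ∈ commutator H, D.pr ⟨a * r * a⁻¹, h⟩ = D.pr r := by
  intro h
  have hz : ⁅a, (r : H)⁆ ∈ Z (H := H) := by
    rw [← commutatorElement_inv]
    exact inv_mem (commutator_mem_commutator r.2 (mem_top a))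
  have e : (⟨a * r * a⁻¹, h⟩ : ↥(commutator H)) = ⟨⁅a, (r : H)⁆, Z_le_R hz⟩ * r :=
    Subtype.ext (by show a * r * a⁻¹ = ⁅a, (r : H)⁆ * r; rw [commutatorElement_def]; group)
  rw [e, map_mul, D.pr_Z ⟨_, Z_le_R hz⟩ hz, one_mul]

theorem pr_cm_mul_left (a a' b : H) : D.pr (cm (a * a') b) = D.pr (cm a b) * D.pr (cm a' b) := by
  have hm : a * ⁅a', b⁆ * a⁻¹ ∈ commutator H :=
    (inferInstance : (commutator H).Normal).conj_mem _ (cm a' b).2 a
  have e : cm (a * a') b = ⟨a * ⁅a', b⁆ * a⁻¹, hm⟩ * cm a b := Subtype.ext (by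
    show ⁅a * a', b⁆ = a * ⁅a', b⁆ * a⁻¹ * ⁅a, b⁆
    simp only [commutatorElement_def]; group)
  rw [e, map_mul, mul_comm (D.pr (cm a b))]
  congr 1
  exact D.pr_conj (cm a' b) a hm

theorem pr_cm_swap (a b : H) : D.pr (cm b a) = (D.pr (cm a b))⁻¹ := by
  rw [← map_inv]
  congr 1
  exact Subtype.ext (commutatorElement_inv a b).symm

theorem pr_cm_mul_right (a b b' : H) : D.pr (cm a (b * b')) = D.pr (cm a b) * D.pr (cm a b') := by
  rw [D.pr_cm_swap, D.pr_cm_mul_left, _root_.mul_inv_rev, ← D.pr_cm_swap, ← D.pr_cm_swap, mul_comm]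

/-- The commutator as a biadditive map to the fixed points. -/
noncomputable def bH : H →* H →* ↥D.U :=
  MonoidHom.mk' (fun a => MonoidHom.mk' (fun b => D.pr (cm a b)) (D.pr_cm_mul_right a))
    (fun a a' => MonoidHom.ext fun b => D.pr_cm_mul_left a a' b)

theorem comm_R_mem {r : H} (hr : r ∈ commutator H) (c : H) : ⁅r, c⁆ ∈ Z (H := H) :=
  commutator_mem_commutator hr (mem_top c)

include D in
theorem comm_mul_left {r s : H} (hs : s ∈ commutator H) (c : H) : ⁅r * s, c⁆ = ⁅r, c⁆ * ⁅s, c⁆ := by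
  have hz := D.Z_central (comm_R_mem hs c)
  calc ⁅r * s, c⁆ = r * ⁅s, c⁆ * r⁻¹ * ⁅r, c⁆ := by simp only [commutatorElement_def]; group
    _ = ⁅s, c⁆ * ⁅r, c⁆ := by rw [← (hz r).eq]; group
    _ = _ := (hz _).eq

include D in
theorem comm_mul_right {r : H} (hr : r ∈ commutator H) (c c' : H) : ⁅r, c * c'⁆ = ⁅r, c⁆ * ⁅r, c'⁆ := by
  have hz := D.Z_central (comm_R_mem hr c')
  calc ⁅r, c * c'⁆ = ⁅r, c⁆ * (c * ⁅r, c'⁆ * c⁻¹) := by simp only [commutatorElement_def]; group
    _ = _ := by rw [← (hz c).eq]; group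

/-- The commutator with the derived subgroup. -/
noncomputable def gH : ↥D.U →* H →* ↥D.Zs :=
  MonoidHom.mk' (fun u => MonoidHom.mk' (fun c => ⟨⁅(u : H), c⁆, comm_R_mem (D.U_le_R u.2) c⟩)
      fun c c' => Subtype.ext (D.comm_mul_right (D.U_le_R u.2) c c'))
    fun u v => MonoidHom.ext fun c => Subtype.ext (D.comm_mul_left (D.U_le_R v.2) c)

theorem bg (a b c : H) : (D.gH (D.bH a b) c : H) = ⁅⁅a, b⁆, c⁆ := by
  obtain ⟨z, hz, h⟩ := D.pr_spec (cm a b)
  show ⁅(D.pr (cm a b) : H), c⁆ = _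
  have h' : ⁅a, b⁆ = (D.pr (cm a b) : H) * z := h
  rw [h', D.comm_mul_left (Z_le_R hz) c, commutatorElement_eq_one_iff_mul_comm.2 (D.Z_central hz c).eq, mul_one]

/-- The commutator on the factor group. -/
noncomputable def bV : Abelianization H →* Abelianization H →* ↥D.U :=
  (Abelianization.lift (Abelianization.lift D.bH).flip).flip

theorem bV_of (a b : H) : D.bV (Abelianization.of a) (Abelianization.of b) = D.bH a b := rfl

/-- The commutator with the derived subgroup, on the factor group. -/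
noncomputable def gV : ↥D.U →* Abelianization H →* ↥D.Zs := (Abelianization.lift D.gH.flip).flip

theorem gV_of (u : ↥D.U) (c : H) : D.gV u (Abelianization.of c) = D.gH u c := rfl

theorem of_eq_one {x : H} : Abelianization.of x = 1 ↔ x ∈ commutator H := QuotientGroup.eq_one_iff x

/-- The torus on the factor group. -/
noncomputable def sV : Abelianization H →* Abelianization H := Abelianization.map D.σ.toMonoidHom

/-- The torus on the fixed points. -/
noncomputable def sU : ↥D.U →* ↥D.U := (D.σ.toMonoidHom.comp D.U.subtype).codRestrict _ fun u => D.inv_U _ u.2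

/-- The torus on the third term. -/
noncomputable def sZ : ↥D.Zs →* ↥D.Zs :=
  (D.σ.toMonoidHom.comp D.Zs.subtype).codRestrict _ fun u => D.inv_Z _ u.2

theorem sV_of (x : H) : D.sV (Abelianization.of x) = Abelianization.of (D.σ x) := rfl

theorem sV_iter (k : ℕ) (x : H) : D.sV^[k] (Abelianization.of x) = Abelianization.of ((D.σ ^ k) x) := by
  induction k with
  | zero => rfl
  | succ k ih => rw [Function.iterate_succ_apply', ih, sV_of, pow_succ', MulAut.mul_apply]

theorem sU_iter (k : ℕ) (x : ↥D.U) : (D.sU^[k] x : H) = (D.σ ^ k) (x : H) := by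
  induction k with
  | zero => rfl
  | succ k ih =>
    rw [Function.iterate_succ_apply', pow_succ', MulAut.mul_apply, ← ih]
    rfl

theorem sZ_iter (k : ℕ) (x : ↥D.Zs) : (D.sZ^[k] x : H) = (D.σ ^ k) (x : H) := by
  induction k with
  | zero => rfl
  | succ k ih =>
    rw [Function.iterate_succ_apply', pow_succ', MulAut.mul_apply, ← ih]
    rfl

theorem sV_free {k : ℕ} (h0 : 0 < k) (hk : k < D.m) (a : Abelianization H) (ha : D.sV^[k] a = a) : a = 1 := by
  obtain ⟨x, rfl⟩ := QuotientGroup.mk_surjective a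
  change D.sV^[k] (Abelianization.of x) = Abelianization.of x at ha
  rw [D.sV_iter] at ha
  have hφR : ∀ r ∈ commutator H, (D.σ ^ k) r ∈ commutator H := fun r hr => by
    have hle : (commutator H).map (D.σ ^ k).toMonoidHom ≤ commutator H := by
      rw [commutator_def, map_commutator]
      exact commutator_mono le_top le_top
    exact hle ⟨r, hr, rfl⟩
  let g : ↥(commutator H) → ↥(commutator H) := fun r => ⟨(r : H)⁻¹ * (D.σ ^ k) r, mul_mem (inv_mem r.2) (hφR _ r.2)⟩
  have hg : Function.Injective g := fun r s h => by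
    have h' : (r : H)⁻¹ * (D.σ ^ k) r = (s : H)⁻¹ * (D.σ ^ k) s := congrArg Subtype.val h
    refine Subtype.ext (mul_inv_eq_one.1 (D.σ_free k h0 hk _ ?_))
    rw [map_mul, map_inv]
    calc (D.σ ^ k) (r : H) * ((D.σ ^ k) (s : H))⁻¹
        = r * ((r : H)⁻¹ * (D.σ ^ k) r) * ((s : H)⁻¹ * (D.σ ^ k) s)⁻¹ * (s : H)⁻¹ := by group
      _ = _ := by rw [h']; group
  have hm : x⁻¹ * (D.σ ^ k) x ∈ commutator H := by
    rw [← of_eq_one, map_mul, map_inv, ha, inv_mul_cancel]
  obtain ⟨r, hr⟩ := (Finite.injective_iff_surjective.1 hg) ⟨_, hm⟩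
  have hr' : (r : H)⁻¹ * (D.σ ^ k) r = x⁻¹ * (D.σ ^ k) x := congrArg Subtype.val hr
  have hx : x * (r : H)⁻¹ = 1 := D.σ_free k h0 hk _ (by
    rw [map_mul, map_inv]
    calc (D.σ ^ k) x * ((D.σ ^ k) (r : H))⁻¹
        = x * (x⁻¹ * (D.σ ^ k) x) * ((r : H)⁻¹ * (D.σ ^ k) r)⁻¹ * (r : H)⁻¹ := by group
      _ = _ := by rw [hr']; group)
  rw [mul_inv_eq_one] at hx
  exact of_eq_one.2 (hx ▸ r.2)

theorem bH_equiv (a b : H) : D.bH (D.σ a) (D.σ b) = D.sU (D.bH a b) := by
  refine Subtype.ext ?_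
  show (⁅D.σ a, D.σ b⁆ * D.τ ⁅D.σ a, D.σ b⁆) ^ 2 = D.σ ((⁅a, b⁆ * D.τ ⁅a, b⁆) ^ 2)
  rw [map_pow, map_mul, D.hcomm, map_commutatorElement D.σ]

theorem gH_equiv (u : ↥D.U) (c : H) : D.gH (D.sU u) (D.σ c) = D.sZ (D.gH u c) :=
  Subtype.ext (map_commutatorElement D.σ (u : H) c).symm

theorem of_surj (a : Abelianization H) : ∃ x, Abelianization.of x = a := QuotientGroup.mk_surjective a

include D in
/-- The exponent is not three. -/
theorem not_exp_three (h3 : ∀ x : H, x ^ 3 = 1) : False := by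
  haveI := Fact.mk Nat.prime_three
  letI : Module (ZMod 3) (Additive (Abelianization H)) := AddCommGroup.zmodModule fun a => by
    obtain ⟨x, hx⟩ := of_surj a.toMul
    show Additive.ofMul (a.toMul ^ 3) = 0
    rw [← hx, ← map_pow, h3, map_one]
    rfl
  letI : Module (ZMod 3) (Additive ↥D.U) := AddCommGroup.zmodModule fun a => by
    show Additive.ofMul (a.toMul ^ 3) = 0
    rw [show a.toMul ^ 3 = 1 from Subtype.ext (h3 _)]
    rfl
  letI : Module (ZMod 3) (Additive ↥D.Zs) := AddCommGroup.zmodModule fun a => by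
    show Additive.ofMul (a.toMul ^ 3) = 0
    rw [show a.toMul ^ 3 = 1 from Subtype.ext (h3 _)]
    rfl
  have hS : Fpf (toLin D.sV) D.e D.m := fpf_of (A := Abelianization H) D.card_quot D.sV
    (fun a => by obtain ⟨x, rfl⟩ := of_surj a; rw [D.sV_iter, D.hσ]; rfl) (fun k h0 hk => D.sV_free h0 hk)
  have hT : Fpf (toLin D.sU) D.e D.m := fpf_of D.card_U D.sU
    (fun a => Subtype.ext (by rw [D.sU_iter, D.hσ]; rfl))
    (fun k h0 hk a ha => Subtype.ext (D.σ_free k h0 hk _ (by rw [← D.sU_iter, ha])))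
  have hR : Fpf (toLin D.sZ) D.e D.m := fpf_of (A := ↥D.Zs) D.Z_props.1 D.sZ
    (fun a => Subtype.ext (by rw [D.sZ_iter, D.hσ]; rfl))
    (fun k h0 hk a ha => Subtype.ext (D.σ_free k h0 hk _ (by rw [← D.sZ_iter, ha])))
  have sw : ∀ a b c : H, ⁅⁅b, a⁆, c⁆ = ⁅⁅a, b⁆, c⁆⁻¹ := fun a b c => by
    refine eq_inv_of_mul_eq_one_left ?_
    rw [← D.comm_mul_left (show ⁅a, b⁆ ∈ commutator H from (cm a b).2), commutatorElement_def b a, commutatorElement_def a b]
    simp [commutatorElement_def, mul_assoc]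
  have alt : ∀ a b c : H, ⁅⁅a, c⁆, b⁆ = ⁅⁅a, b⁆, c⁆⁻¹ := fun a b c => by
    refine eq_inv_of_mul_eq_one_left ?_
    have key : ∀ x y z w : H, (D.gH (D.bH x (y * z)) w : H) = D.gH (D.bH x y) w * D.gH (D.bH x z) w := fun x y z w => by
      rw [map_mul, map_mul, MonoidHom.mul_apply, Subgroup.coe_mul]
    have h := engel_three h3 (b * c) a
    rw [← D.bg, key, map_mul, Subgroup.coe_mul, map_mul, Subgroup.coe_mul, D.bg, D.bg, D.bg, D.bg,
      engel_three h3 b a, engel_three h3 c a, one_mul, mul_one] at h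
    rw [← h]
    exact (D.Z_central (comm_R_mem (cm a c).2 b) _).eq
  have h0 := no_alternating D.hm D.he (toLin D.sV) (toLin D.sU) (toLin D.sZ) hS hT hR (toBil D.bV) (toBil D.gV)
    (fun a b => by
      obtain ⟨x, hx⟩ := of_surj a.toMul
      obtain ⟨y, hy⟩ := of_surj b.toMul
      show Additive.ofMul (D.bV (D.sV a.toMul) (D.sV b.toMul)) = Additive.ofMul (D.sU (D.bV a.toMul b.toMul))
      rw [← hx, ← hy, sV_of, sV_of, bV_of, bV_of, bH_equiv])
    (fun w c => by
      obtain ⟨y, hy⟩ := of_surj c.toMul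
      show Additive.ofMul (D.gV (D.sU w.toMul) (D.sV c.toMul)) = Additive.ofMul (D.sZ (D.gV w.toMul c.toMul))
      rw [← hy, sV_of, gV_of, gV_of, gH_equiv])
    (fun a b c => by
      obtain ⟨x, hx⟩ := of_surj a.toMul
      obtain ⟨y, hy⟩ := of_surj b.toMul
      obtain ⟨z, hz⟩ := of_surj c.toMul
      show Additive.ofMul (D.gV (D.bV b.toMul a.toMul) c.toMul) = Additive.ofMul (D.gV (D.bV a.toMul b.toMul) c.toMul)⁻¹
      rw [← hx, ← hy, ← hz, bV_of, bV_of, gV_of, gV_of]
      refine congrArg Additive.ofMul (Subtype.ext ?_)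
      rw [Subgroup.coe_inv, bg, bg, sw])
    (fun a b c => by
      obtain ⟨x, hx⟩ := of_surj a.toMul
      obtain ⟨y, hy⟩ := of_surj b.toMul
      obtain ⟨z, hz⟩ := of_surj c.toMul
      show Additive.ofMul (D.gV (D.bV b.toMul c.toMul) a.toMul) = Additive.ofMul (D.gV (D.bV a.toMul b.toMul) c.toMul)
      rw [← hx, ← hy, ← hz, bV_of, bV_of, gV_of, gV_of]
      refine congrArg Additive.ofMul (Subtype.ext ?_)
      rw [bg, bg, alt y x z, sw x y z, inv_inv])
  have hF : ∀ a b c : H, ⁅⁅a, b⁆, c⁆ = 1 := fun a b c => by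
    have h : Additive.ofMul (D.gV (D.bV (Abelianization.of a) (Abelianization.of b)) (Abelianization.of c)) = 0 :=
      h0 (Additive.ofMul (Abelianization.of a)) (Additive.ofMul (Abelianization.of b))
        (Additive.ofMul (Abelianization.of c))
    rw [bV_of, gV_of] at h
    rw [← D.bg]
    exact congrArg Subtype.val (congrArg Additive.toMul h)
  have hle : commutator H ≤ center H := by
    show ⁅(⊤ : Subgroup H), ⊤⁆ ≤ _
    refine commutator_le.2 fun a _ b _ => mem_center_iff.2 fun c => ?_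
    exact (commutatorElement_eq_one_iff_mul_comm.1 (hF a b c)).symm
  refine ne_bot_of_card D.Z_props.1 D.q_gt (le_bot_iff.1 (commutator_le.2 fun r hr c _ => (mem_bot (G := H)).2 ?_))
  exact commutatorElement_eq_one_iff_mul_comm.2 (mem_center_iff.1 (hle hr) c).symm

include D in
/-- Cyclic TI groups have no such section. -/
theorem false_of_ti (hTI : ∀ x g : H, orderOf x = 9 → Commute g (x ^ 3) → g * x * g⁻¹ ∈ zpowers x) : False :=
  D.not_exp_three (D.exp_three hTI)

end Big

end Cfsg.Agent.Invol.CycTI.Ree
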