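import Cfsg.Agent.Lib.Invol.CycTI.Ree.CaseOne
import Cfsg.Agent.Lib.Invol.CycTI.Ree.Engel
import Cfsg.Agent.Lib.Invol.CycTI.Basic
import Cfsg.Agent.S0058

/-!
# A group of Ree type has a cyclic subgroup of prime power order that is not TI
-/

set_option autoImplicit false
set_option linter.unusedSectionVars false
set_option linter.style.haveILetI false

namespace Cfsg.Agent.Invol.CycTI.Ree

open Subgroup
open scoped _root_.Classical

universe u v

namespace Sys

variable {G : Type u} [Group G] [Finite G] {P : Type v} [Group P] (X : Sys G P)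

include X in
theorem Q_ne_bot : X.Q ≠ ⊥ := fun h => by
  have h1 := X.hc
  rw [h, card_bot] at h1
  have := X.q_ge
  have h2 : X.q ≤ X.q ^ 3 := Nat.le_self_pow (by norm_num) _
  change 1 = X.q ^ 3 at h1
  omega

include X in
/-- The split torus is cyclic. -/
theorem exists_gen : ∃ y ∈ X.S.lp.K.Y, orderOf y = X.m := by
  haveI := X.S.lp.finiteP
  haveI : IsMulCommutative ↥X.S.Ym := ⟨⟨fun a b => Subtype.ext (X.T_comm (X.Ym_le a.2) (X.Ym_le b.2))⟩⟩
  by_cases hc : IsCyclic ↥X.S.Ym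
  · obtain ⟨g, hg⟩ := (X.S.Ym).isCyclic_iff_exists_zpowers_eq_top.1 hc
    obtain ⟨y, hy, hyg⟩ := (show g ∈ X.S.Ym from hg ▸ mem_zpowers g)
    refine ⟨y, hy, ?_⟩
    rw [← orderOf_injective X.ι X.S.B.inj, show X.ι y = g from hyg, ← Nat.card_zpowers, hg, X.S.card_Ym]
  · exfalso
    have hYN : X.S.Ym ≤ normalizer (X.Q : Set G) := X.Ym_le.trans X.hT
    have hcop : (Nat.card ↥X.S.Ym).Coprime (Nat.card ↥X.Q) := by
      rw [X.hc, X.S.card_Ym, show X.S.lp.D.q = 3 ^ X.e from X.q_three, ← pow_mul]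
      exact Weights.three_coprime (e := X.e) (by rw [← X.q_three]; exact X.q_m.symm) (by
        by_contra h
        have h2 := X.q_three
        have := X.q_ge
        rw [show X.e = 0 by omega, pow_zero] at h2
        omega) _
    have h := Cfsg.Agent.S0058.result X.S.Ym X.Q hc hYN hcop
    refine X.Q_ne_bot (eq_bot_iff.2 ?_)
    rw [← h]
    refine iSup₂_le fun a ha => ?_
    obtain ⟨⟨y, hy, rfl⟩, ha1⟩ := ha
    intro x hx
    refine (mem_bot (G := G)).2 (X.y_fpf hy (fun e => ha1 (by rw [e]; exact map_one X.ι)) hx.1 ?_)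
    exact (mem_centralizer_singleton_iff.1 hx.2).symm

include X in
/-- The exponent is at least three. -/
theorem e_ge : 3 ≤ X.e := by
  by_contra h
  have h2 := X.q_three
  have := X.q_ge
  have h3 : 3 ^ X.e ≤ 3 ^ 2 := Nat.pow_le_pow_right (by norm_num) (by omega)
  norm_num at h3
  omega

include X in
/-- Groups of Ree type with nonabelian Sylow 3-subgroups are not `Ti`. -/
theorem not_ti (hna : ¬ IsMulCommutative ↥X.Q) (hti : Ti G) : False := by
  haveI : Fact (Nat.Prime 3) := ⟨Nat.prime_three⟩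
  haveI := X.S.lp.finiteP
  obtain ⟨y, hy, hyo⟩ := X.exists_gen
  have hyN : X.ι y ∈ normalizer (X.Q : Set G) := X.hT (X.Ym_le (X.mem_Ym hy))
  have htN : X.t ∈ normalizer (X.Q : Set G) := X.hT X.t_mem
  set σ : MulAut ↥X.Q := X.Q.normalizerMonoidHom ⟨X.ι y, hyN⟩ with hσdef
  set τ : MulAut ↥X.Q := X.Q.normalizerMonoidHom ⟨X.t, htN⟩ with hτdef
  have hσk : ∀ (k : ℕ) (x : ↥X.Q), (((σ ^ k) x : ↥X.Q) : G) = X.ι (y ^ k) * x * (X.ι (y ^ k))⁻¹ := by
    intro k x
    rw [hσdef, ← map_pow, map_pow X.ι]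
    rfl
  have hσ1 : ∀ x : ↥X.Q, (σ x : G) = X.ι y * x * (X.ι y)⁻¹ := fun x => by
    simpa using hσk 1 x
  have hτ1 : ∀ x : ↥X.Q, (τ x : G) = X.t * x * X.t⁻¹ := fun x => rfl
  have hm : 2 * X.m + 1 = 3 ^ X.e := by rw [← X.q_three]; exact X.q_m.symm
  have hpow : σ ^ X.m = 1 := MulEquiv.ext fun x => Subtype.ext (by
    rw [hσk, ← hyo, pow_orderOf_eq_one, map_one]
    simp)
  have hfree : ∀ k, 0 < k → k < X.m → ∀ x : ↥X.Q, (σ ^ k) x = x → x = 1 := by
    intro k h0 hk x hx
    have hyk : y ^ k ≠ 1 := fun e => Nat.not_le.2 (hyo.symm ▸ hk) (Nat.le_of_dvd h0 (orderOf_dvd_of_pow_eq_one e))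
    refine Subtype.ext (X.y_fpf (pow_mem hy k) hyk x.2 ?_)
    have h := congrArg Subtype.val hx
    rw [hσk] at h
    exact mul_inv_eq_iff_eq_mul.1 h
  have hne : Nat.card ↥X.Q ≠ 1 := fun h => X.Q_ne_bot (eq_bot_of_card_eq _ h)
  have hinv : ∀ x ∈ commutator ↥X.Q, σ x ∈ commutator ↥X.Q := fun x hx => by
    have hle : (commutator ↥X.Q).map σ.toMonoidHom ≤ commutator ↥X.Q := by
      rw [commutator_def, map_commutator]
      exact commutator_mono le_top le_top
    exact hle ⟨x, hx, rfl⟩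
  obtain ⟨i, hi⟩ := card_fpf X.e_ge hm X.hQ hne hpow hfree hinv
  haveI : Nontrivial ↥X.Q := (Subgroup.nontrivial_iff_ne_bot _).2 X.Q_ne_bot
  haveI : Group.IsNilpotent ↥X.Q := X.hQ.isNilpotent
  have hlt : commutator ↥X.Q < ⊤ := IsSolvable.commutator_lt_top_of_nontrivial ↥X.Q
  have hq : 1 < 3 ^ X.e := Nat.one_lt_pow (by have := X.e_ge; omega) (by norm_num)
  have hcQ : Nat.card ↥X.Q = (3 ^ X.e) ^ 3 := by rw [X.hc, ← X.q_three]
  have hi3 : i < 3 := by
    by_contra h
    refine hlt.ne (eq_top_of_card_eq _ (le_antisymm (card_le_card_group _) ?_))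
    rw [hi, hcQ]
    exact Nat.pow_le_pow_right (by omega) (by omega)
  interval_cases i
  · refine hna ⟨⟨fun a b => ?_⟩⟩
    have h0 : commutator ↥X.Q = ⊥ := eq_bot_of_card_eq _ (by rw [hi, pow_zero])
    refine commutatorElement_eq_one_iff_mul_comm.1 ((mem_bot (G := ↥X.Q)).1 ?_)
    rw [← h0]
    exact commutator_mem_commutator (mem_top a) (mem_top b)
  · letI : Fintype G := Fintype.ofFinite G
    exact X.derived_ne (by rw [hi, pow_one, X.q_three])
  · let D : Big ↥X.Q :=
      { e := X.e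
        m := X.m
        σ := σ
        τ := τ
        U := X.S.Um.subgroupOf X.Q
        he := X.e_ge
        hm := hm
        card_H := hcQ
        card_R := hi
        hσ := hpow
        σ_free := hfree
        hτ := fun x => Subtype.ext (by
          rw [hτ1, hτ1, inv_eq_of_mul_eq_one_right X.tt]
          calc X.t * (X.t * x * X.t) * X.t = (X.t * X.t) * x * (X.t * X.t) := by group
            _ = _ := by rw [X.tt, one_mul, mul_one])
        hcomm := fun x => Subtype.ext (by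
          rw [hσ1, hτ1, hτ1, hσ1]
          calc _ = (X.ι y * X.t) * x * (X.ι y * X.t)⁻¹ := by group
            _ = (X.t * X.ι y) * x * (X.t * X.ι y)⁻¹ := by rw [X.tc]
            _ = _ := by group)
        hU := fun x => by
          rw [mem_subgroupOf, ← Subtype.val_inj, hτ1, mul_inv_eq_iff_eq_mul]
          exact ⟨fun h => X.t_fix x.2 h.symm, fun h => (X.Um_fix h).symm⟩
        card_U := by
          rw [Nat.card_congr (subgroupOfEquivOfLe X.hUQ).toEquiv, X.card_Um, X.q_three]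
        U_comm := fun a ha b hb => by
          obtain ⟨a', ha', ea⟩ := mem_subgroupOf.1 ha
          obtain ⟨b', hb', eb⟩ := mem_subgroupOf.1 hb
          refine Subtype.ext ?_
          rw [Subgroup.coe_mul, Subgroup.coe_mul, ← ea, ← eb, ← map_mul, ← map_mul,
            X.S.lp.K.U_comm a' ha' b' hb'] }
    refine D.false_of_ti fun x g hx hg => ?_
    have h9 : (x : G) ^ 3 ≠ 1 := fun e => by
      have h := Nat.le_of_dvd (by norm_num) (orderOf_dvd_of_pow_eq_one (Subtype.ext e : x ^ 3 = 1))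
      omega
    have h := hti (x : G) (g : G) 3 2 3 Nat.prime_three (by rw [Subgroup.orderOf_coe, hx]; norm_num) h9
      (congrArg Subtype.val hg.eq)
    obtain ⟨j, hj⟩ := mem_zpowers_iff.1 h
    exact mem_zpowers_iff.2 ⟨j, Subtype.ext (by simpa using hj)⟩

end Sys

end Cfsg.Agent.Invol.CycTI.Ree
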