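import Cfsg.Agent.Lib.Char.Constituent

/-!
Generalized characters of abelian groups that are small off the identity.

With `N = |A|`, `f 1 = v = N c + s` and integer coefficients `a`, Parseval gives
`∑_{x ≠ 1} |f x|² = N ∑ (a - c)(a - c - 1) + s (N - s)`.
-/

set_option autoImplicit false
set_option linter.unusedSectionVars false
set_option linter.style.haveILetI false

namespace Cfsg.Agent.Invol.CycTI.Ree

open Cfsg
open scoped ComplexConjugate
open scoped _root_.Classical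

universe u

/-- A generalized character restricted to a coset `t A`, with `t` an involution centralising `A`. -/
theorem isGenChar_shift {G : Type u} [Group G] [Fintype G] (A : Subgroup G) (hA : ∀ a ∈ A, ∀ b ∈ A, a * b = b * a)
    {t : G} (ht : t * t = 1) (hc : ∀ a ∈ A, Commute a t) {θ : G → ℂ} (hθ : IsGeneralizedCharacter G θ) :
    IsGeneralizedCharacter ↥A fun a => θ (t * (a : G)) := by
  let Z := Subgroup.zpowers t
  let φ : ↥A × ↥Z →* G := MonoidHom.noncommCoprod A.subtype Z.subtype fun a z => by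
    obtain ⟨i, hi⟩ := Subgroup.mem_zpowers_iff.1 z.2
    show Commute (a : G) (z : G)
    rw [← hi]
    exact (hc a a.2).zpow_right i
  obtain ⟨α, -, hα⟩ := Char.IsGenChar.exists_decomp (Char.IsGenChar.comp φ hθ)
  let τ : ↥A × ↥Z := (1, ⟨t, Subgroup.mem_zpowers t⟩)
  have hcomm : ∀ p q : ↥A × ↥Z, p * q = q * p := fun p q =>
    Prod.ext (Subtype.ext (hA _ p.1.2 _ q.1.2)) (mul_comm' p.2 q.2)
  have hlin : ∀ χ : IrrCharacter (↥A × ↥Z), ∃ l : ↥A × ↥Z →* ℂˣ,
      (χ : ↥A × ↥Z → ℂ) = fun p => (l p : ℂ) := fun χ =>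
    Char.linearHom_of_isCharacter (Char.IsIrr.isCharacter χ.2) (Char.IsIrr.one_of_comm hcomm χ.2)
  choose l hl using hlin
  have hsign : ∀ χ, ∃ e : ℤ, (l χ τ : ℂ) = e := fun χ => by
    have h : (l χ τ : ℂ) * (l χ τ : ℂ) = 1 := by
      rw [← Units.val_mul, ← map_mul, show τ * τ = 1 from Prod.ext (one_mul 1) (Subtype.ext ht), map_one,
        Units.val_one]
    rcases mul_self_eq_one_iff.1 h with h | h
    · exact ⟨1, by rw [h]; simp⟩
    · exact ⟨-1, by rw [h]; simp⟩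
  choose e he using hsign
  have key : (fun a : ↥A => θ (t * (a : G))) =
      ∑ χ, ((α χ * e χ : ℤ) : ℂ) • fun a : ↥A => (χ : ↥A × ↥Z → ℂ) (MonoidHom.inl _ _ a) := by
    funext a
    have h := congrFun hα (MonoidHom.inl _ _ a * τ)
    have hφ : φ (MonoidHom.inl _ _ a * τ) = t * (a : G) := by
      rw [← (hc a a.2).eq]
      simp [φ, τ, MonoidHom.noncommCoprod_apply]
    simp only [hφ] at h
    rw [h]
    simp only [Finset.sum_apply, Pi.smul_apply, smul_eq_mul]
    refine Finset.sum_congr rfl fun χ _ => ?_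
    rw [hl χ]
    simp only [map_mul, Units.val_mul, he]
    push_cast
    ring
  rw [key]
  refine Char.IsGenChar.sum fun χ _ => ?_
  have h := Char.IsGenChar.zsmul
    (Char.IsGenChar.comp (MonoidHom.inl ↥A ↥Z) (Char.IsGenChar.of_isCharacter (Char.IsIrr.isCharacter χ.2)))
    (α χ * e χ)
  convert h using 1

variable {A : Type u} [Group A] [Fintype A]

/-- The sum of squares off the identity. -/
noncomputable def off (f : A → ℂ) : ℝ := ∑ x ∈ Finset.univ.erase (1 : A), ‖f x‖ ^ 2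

/-- The coefficients. -/
theorem parseval (hA : ∀ a b : A, a * b = b * a) {f : A → ℂ} (hf : IsGeneralizedCharacter A f) :
    ∃ a : IrrCharacter A → ℤ, f = ∑ χ, (a χ : ℂ) • (χ : A → ℂ) ∧ f 1 = ((∑ χ, a χ : ℤ) : ℂ) ∧
      off f + ((∑ χ, a χ : ℤ) : ℝ) ^ 2 = Nat.card A * ((∑ χ, a χ ^ 2 : ℤ) : ℝ) := by
  obtain ⟨a, -, ha⟩ := Char.IsGenChar.exists_decomp hf
  have h1 : f 1 = ((∑ χ, a χ : ℤ) : ℂ) := by
    rw [congrFun ha 1, Finset.sum_apply, Int.cast_sum]
    exact Finset.sum_congr rfl fun χ _ => by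
      rw [Pi.smul_apply, smul_eq_mul, Char.IsIrr.one_of_comm hA χ.2, mul_one]
  refine ⟨a, ha, h1, ?_⟩
  have hn : classInner f f = ((∑ χ, a χ ^ 2 : ℤ) : ℂ) := by
    rw [ha, Char.classInner_sum_sum, Int.cast_sum]
    exact Finset.sum_congr rfl fun χ _ => by rw [map_intCast, sq]; push_cast; ring
  have hN : (Nat.card A : ℂ) ≠ 0 := Nat.cast_ne_zero.2 Nat.card_pos.ne'
  have h2 : ∑ x : A, f x * conj (f x) = (Nat.card A : ℂ) * ((∑ χ, a χ ^ 2 : ℤ) : ℂ) := by
    rw [← hn, classInner, ← mul_assoc, mul_inv_cancel₀ hN, one_mul]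
  have h3 : ∑ x : A, ‖f x‖ ^ 2 = (Nat.card A : ℝ) * ((∑ χ, a χ ^ 2 : ℤ) : ℝ) := by
    apply Complex.ofReal_injective
    rw [Complex.ofReal_sum, Complex.ofReal_mul, Complex.ofReal_natCast, Complex.ofReal_intCast, ← h2]
    exact Finset.sum_congr rfl fun x _ => by rw [Complex.ofReal_pow, Complex.mul_conj']
  rw [← h3, ← Finset.add_sum_erase _ _ (Finset.mem_univ (1 : A)), h1, Complex.norm_intCast, sq_abs, off,
    add_comm]

/-- The lower bound `s (N - s)`. -/
theorem dev_bound (hA : ∀ a b : A, a * b = b * a) {f : A → ℂ} (hf : IsGeneralizedCharacter A f) {v c s : ℤ}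
    (h1 : f 1 = v) (hv : v = Nat.card A * c + s) :
    (s : ℝ) * ((Nat.card A : ℝ) - s) ≤ off f := by
  obtain ⟨a, -, ha1, h⟩ := parseval hA hf
  have hsum : ∑ χ, a χ = v := by exact_mod_cast ha1.symm.trans h1
  have hcard : Fintype.card (IrrCharacter A) = Nat.card A := by
    rw [← Nat.card_eq_fintype_card, Char.card_irrCharacter]
    exact (Nat.card_congr (Equiv.ofBijective ConjClasses.mk ⟨fun x y e => by
      obtain ⟨g, hg⟩ := isConj_iff.1 (ConjClasses.mk_eq_mk_iff_isConj.1 e)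
      rwa [hA g x, mul_inv_cancel_right] at hg, ConjClasses.mk_surjective⟩)).symm
  have hpos : 0 ≤ ∑ χ, (a χ - c) * (a χ - c - 1) := Finset.sum_nonneg fun χ _ => by
    rcases le_or_gt (a χ - c) 0 with h | h
    · exact mul_nonneg_of_nonpos_of_nonpos h (by omega)
    · exact mul_nonneg h.le (by omega)
  have hexp : ∑ χ, (a χ - c) * (a χ - c - 1) =
      ∑ χ, a χ ^ 2 - (2 * c + 1) * v + Nat.card A * (c * (c + 1)) := by
    rw [← hsum, ← hcard, Finset.mul_sum, ← Finset.sum_sub_distrib,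
      show (Fintype.card (IrrCharacter A) : ℤ) * (c * (c + 1)) = ∑ _χ : IrrCharacter A, c * (c + 1) by
        rw [Finset.sum_const, Finset.card_univ, nsmul_eq_mul],
      ← Finset.sum_add_distrib]
    exact Finset.sum_congr rfl fun χ _ => by ring
  rw [hexp] at hpos
  have hposR : (0 : ℝ) ≤ ((∑ χ, a χ ^ 2 : ℤ) : ℝ) - (2 * c + 1) * v + (Nat.card A : ℝ) * (c * (c + 1)) := by
    exact_mod_cast hpos
  rw [hsum] at h
  have hvR : (v : ℝ) = (Nat.card A : ℝ) * c + s := by exact_mod_cast hv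
  have hN : (0 : ℝ) ≤ Nat.card A := Nat.cast_nonneg _
  rw [hvR] at h hposR
  nlinarith [mul_nonneg hN hposR]

/-- A multiple of `N` at the identity and less than `2N` off it: zero off the identity. -/
theorem vanish_of_dvd (hA : ∀ a b : A, a * b = b * a) {f : A → ℂ} (hf : IsGeneralizedCharacter A f) {v : ℤ}
    (h1 : f 1 = v) (hdvd : (Nat.card A : ℤ) ∣ v) (hsmall : off f < 2 * Nat.card A) {x : A} (hx : x ≠ 1) :
    f x = 0 := by
  obtain ⟨c, hc⟩ := hdvd
  obtain ⟨a, ha, ha1, h⟩ := parseval hA hf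
  have hsum : ∑ χ, a χ = v := by exact_mod_cast ha1.symm.trans h1
  have hcard : Fintype.card (IrrCharacter A) = Nat.card A := by
    rw [← Nat.card_eq_fintype_card, Char.card_irrCharacter]
    exact (Nat.card_congr (Equiv.ofBijective ConjClasses.mk ⟨fun x y e => by
      obtain ⟨g, hg⟩ := isConj_iff.1 (ConjClasses.mk_eq_mk_iff_isConj.1 e)
      rwa [hA g x, mul_inv_cancel_right] at hg, ConjClasses.mk_surjective⟩)).symm
  have hexp : ∑ χ, (a χ - c) ^ 2 = ∑ χ, a χ ^ 2 - Nat.card A * c ^ 2 := by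
    have e : ∑ χ, (a χ - c) ^ 2 = ∑ χ, a χ ^ 2 - 2 * c * ∑ χ, a χ + (Fintype.card (IrrCharacter A) : ℤ) * c ^ 2 := by
      rw [Finset.mul_sum, ← Finset.sum_sub_distrib,
        show (Fintype.card (IrrCharacter A) : ℤ) * c ^ 2 = ∑ _χ : IrrCharacter A, c ^ 2 by
          rw [Finset.sum_const, Finset.card_univ, nsmul_eq_mul],
        ← Finset.sum_add_distrib]
      exact Finset.sum_congr rfl fun χ _ => by ring
    rw [e, hsum, hc, hcard]; ring
  have hsum0 : ∑ χ, (a χ - c) = 0 := by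
    rw [Finset.sum_sub_distrib, hsum, Finset.sum_const, Finset.card_univ, hcard, nsmul_eq_mul, hc, sub_self]
  have hlt : (∑ χ, (a χ - c) ^ 2 : ℤ) < 2 := by
    rw [hexp]
    rw [hsum, hc] at h
    have hN : (0 : ℝ) < Nat.card A := Nat.cast_pos.2 Nat.card_pos
    have : ((∑ χ, a χ ^ 2 - Nat.card A * c ^ 2 : ℤ) : ℝ) < 2 := by
      push_cast at h ⊢
      nlinarith
    exact_mod_cast this
  have hall : ∀ χ, a χ = c := by
    intro χ
    by_contra hne
    have hne' : a χ - c ≠ 0 := sub_ne_zero.2 hne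
    obtain ⟨χ', hχ', hne2⟩ : ∃ χ', χ' ≠ χ ∧ a χ' - c ≠ 0 := by
      by_contra hh
      push Not at hh
      exact hne' ((Finset.sum_eq_single χ (fun b _ hb => hh b hb) (by simp)).symm.trans hsum0)
    have h2 : (a χ - c) ^ 2 + (a χ' - c) ^ 2 ≤ ∑ ψ, (a ψ - c) ^ 2 := by
      rw [← Finset.sum_pair hχ'.symm (f := fun ψ => (a ψ - c) ^ 2)]
      exact Finset.sum_le_sum_of_subset_of_nonneg (Finset.subset_univ _) fun _ _ _ => sq_nonneg _
    have := pow_pos (abs_pos.2 hne') 2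
    have := pow_pos (abs_pos.2 hne2) 2
    rw [sq_abs] at *
    omega
  rw [congrFun ha x, Finset.sum_apply]
  have hreg := Char.sum_irr_mul_conj (G := A) x 1
  simp only [Char.IsIrr.one_of_comm hA (Subtype.prop _), map_one, mul_one] at hreg
  rw [if_neg (fun e => hx (isConj_one_left.1 e))] at hreg
  calc ∑ χ, ((a χ : ℂ) • (χ : A → ℂ)) x = (c : ℂ) * ∑ χ : IrrCharacter A, (χ : A → ℂ) x := by
        rw [Finset.mul_sum]
        exact Finset.sum_congr rfl fun χ _ => by rw [Pi.smul_apply, smul_eq_mul, hall χ]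
    _ = 0 := by rw [hreg, mul_zero]

/-- Less than `N - 1` off the identity: `N` divides the value at the identity. -/
theorem dvd_of_small (hA : ∀ a b : A, a * b = b * a) {f : A → ℂ} (hf : IsGeneralizedCharacter A f) {v : ℤ}
    (h1 : f 1 = v) (hsmall : off f < (Nat.card A : ℝ) - 1) : (Nat.card A : ℤ) ∣ v := by
  have hN : 0 < (Nat.card A : ℤ) := by exact_mod_cast Nat.card_pos
  have h := dev_bound hA hf h1 (Int.mul_ediv_add_emod v (Nat.card A)).symm
  refine Int.dvd_of_emod_eq_zero ?_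
  by_contra hne
  have hs1 : 1 ≤ v % (Nat.card A : ℤ) := lt_of_le_of_ne (Int.emod_nonneg v hN.ne') (Ne.symm hne)
  have hs2 : v % (Nat.card A : ℤ) ≤ (Nat.card A : ℤ) - 1 := by have := Int.emod_lt_of_pos v hN; omega
  have h' : (Nat.card A : ℤ) - 1 ≤ v % (Nat.card A : ℤ) * ((Nat.card A : ℤ) - v % (Nat.card A : ℤ)) := by
    nlinarith
  have h'' : ((Nat.card A : ℝ) - 1) ≤
      ((v % (Nat.card A : ℤ) : ℤ) : ℝ) * ((Nat.card A : ℝ) - ((v % (Nat.card A : ℤ) : ℤ) : ℝ)) := by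
    exact_mod_cast h'
  linarith

/-- Less than `N - 1` off the identity: zero there. -/
theorem small_vanish (hA : ∀ a b : A, a * b = b * a) {f : A → ℂ} (hf : IsGeneralizedCharacter A f) {v : ℤ}
    (h1 : f 1 = v) (hsmall : off f < (Nat.card A : ℝ) - 1) :
    (Nat.card A : ℤ) ∣ v ∧ ∀ x, x ≠ 1 → f x = 0 :=
  ⟨dvd_of_small hA hf h1 hsmall, fun _ hx => vanish_of_dvd hA hf h1 (dvd_of_small hA hf h1 hsmall) (by
    have : (0 : ℝ) ≤ Nat.card A := Nat.cast_nonneg _
    linarith) hx⟩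

end Cfsg.Agent.Invol.CycTI.Ree
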