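import Cfsg.Agent.Lib.Char.Constituent

/-!
Bessel's inequality for irreducible characters and the column inequality.
-/

set_option autoImplicit false
set_option linter.unusedSectionVars false
set_option linter.style.haveILetI false

namespace Cfsg.Agent.Invol.CycTI.Ree

open Cfsg
open scoped ComplexConjugate
open scoped _root_.Classical

universe u

variable {G : Type u} [Group G] [Fintype G]

theorem norm_sub_proj {ι : Type*} (s : Finset ι) (θ : ι → G → ℂ) (hθ : ∀ i ∈ s, IsIrrCharacter G (θ i))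
    (hinj : Set.InjOn θ s) (F : G → ℂ) :
    classInner (F - ∑ i ∈ s, classInner F (θ i) • θ i) (F - ∑ i ∈ s, classInner F (θ i) • θ i) =
      classInner F F - ((∑ i ∈ s, ‖classInner F (θ i)‖ ^ 2 : ℝ) : ℂ) := by
  set P := ∑ i ∈ s, classInner F (θ i) • θ i with hP
  have hPθ : ∀ j ∈ s, classInner P (θ j) = classInner F (θ j) := fun j hj => by
    rw [hP, Char.classInner_sum_left, Finset.sum_eq_single j (fun i hi hij => by
      rw [Char.classInner_smul_left, Char.classInner_irr_ne (hθ i hi) (hθ j hj) (fun e => hij (hinj hi hj e)),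
        mul_zero]) (fun h => absurd hj h), Char.classInner_smul_left, Char.classInner_self_irr (hθ j hj), mul_one]
  have hEθ : ∀ j ∈ s, classInner (F - P) (θ j) = 0 := fun j hj => by
    rw [Char.classInner_sub_left, hPθ j hj, sub_self]
  have hEP : classInner (F - P) P = 0 := by
    rw [hP, Char.classInner_sum_right]
    exact Finset.sum_eq_zero fun j hj => by rw [Char.classInner_smul_right, ← hP, hEθ j hj, mul_zero]
  have hPF : classInner P F = ((∑ i ∈ s, ‖classInner F (θ i)‖ ^ 2 : ℝ) : ℂ) := by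
    rw [hP, Char.classInner_sum_left, Complex.ofReal_sum]
    refine Finset.sum_congr rfl fun i _ => ?_
    rw [Char.classInner_smul_left, ← Char.classInner_conj_symm F (θ i), Complex.ofReal_pow, Complex.mul_conj']
  rw [Char.classInner_sub_right, hEP, sub_zero, Char.classInner_sub_left, hPF]

/-- Bessel's inequality. -/
theorem bessel {ι : Type*} (s : Finset ι) (θ : ι → G → ℂ) (hθ : ∀ i ∈ s, IsIrrCharacter G (θ i))
    (hinj : Set.InjOn θ s) (F : G → ℂ) :
    ∑ i ∈ s, ‖classInner F (θ i)‖ ^ 2 ≤ (classInner F F).re := by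
  have h := Char.classInner_self_re_nonneg (F - ∑ i ∈ s, classInner F (θ i) • θ i)
  rw [norm_sub_proj s θ hθ hinj, Complex.sub_re, Complex.ofReal_re] at h
  linarith

/-- Equality in Bessel's inequality. -/
theorem bessel_eq {ι : Type*} (s : Finset ι) (θ : ι → G → ℂ) (hθ : ∀ i ∈ s, IsIrrCharacter G (θ i))
    (hinj : Set.InjOn θ s) (F : G → ℂ) (hF : (classInner F F).re ≤ ∑ i ∈ s, ‖classInner F (θ i)‖ ^ 2) :
    F = ∑ i ∈ s, classInner F (θ i) • θ i := by
  have h := norm_sub_proj s θ hθ hinj F
  set E := F - ∑ i ∈ s, classInner F (θ i) • θ i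
  have h0 : classInner E E = 0 := by
    refine Complex.ext ?_ ?_
    · refine le_antisymm ?_ (Char.classInner_self_re_nonneg E)
      rw [h, Complex.sub_re, Complex.ofReal_re, Complex.zero_re]
      linarith
    · rw [Complex.conj_eq_iff_im.1 (Char.classInner_conj_symm E E), Complex.zero_im]
  exact sub_eq_zero.1 ((Char.classInner_self_eq_zero E).1 h0)

/-- Several irreducible characters at one element. -/
theorem col_bound {ι : Type*} (s : Finset ι) (θ : ι → G → ℂ) (hθ : ∀ i ∈ s, IsIrrCharacter G (θ i))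
    (hinj : Set.InjOn θ s) (g : G) :
    ∑ i ∈ s, ‖θ i g‖ ^ 2 ≤ (Nat.card (Subgroup.centralizer ({g} : Set G)) : ℝ) := by
  have h := Char.sum_irr_mul_conj (G := G) g g
  rw [if_pos (IsConj.refl g)] at h
  have hR : ∑ χ : IrrCharacter G, ‖(χ : G → ℂ) g‖ ^ 2 =
      (Nat.card (Subgroup.centralizer ({g} : Set G)) : ℝ) := by
    apply Complex.ofReal_injective
    rw [Complex.ofReal_sum, Complex.ofReal_natCast, ← h]
    exact Finset.sum_congr rfl fun χ _ => by rw [Complex.ofReal_pow, Complex.mul_conj']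
  rw [← hR, ← Finset.sum_attach s]
  rw [← Finset.sum_image (s := s.attach)
    (g := fun i => (⟨θ i.1, hθ i.1 i.2⟩ : IrrCharacter G)) (f := fun χ : IrrCharacter G => ‖(χ : G → ℂ) g‖ ^ 2)
    fun i _ j _ e => Subtype.ext (hinj i.2 j.2 (congrArg Subtype.val e))]
  exact Finset.sum_le_sum_of_subset_of_nonneg (Finset.subset_univ _) fun _ _ _ => sq_nonneg _

/-- A common value of `n` irreducible characters. -/
theorem col_bound_const {n : ℕ} (θ : Fin n → G → ℂ) (hθ : ∀ i, IsIrrCharacter G (θ i))
    (hinj : Function.Injective θ) (k : Fin n) (g : G) (heq : ∀ i, θ i g = θ k g) :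
    (n : ℝ) * ‖θ k g‖ ^ 2 ≤ (Nat.card (Subgroup.centralizer ({g} : Set G)) : ℝ) := by
  refine le_trans (le_of_eq ?_) (col_bound Finset.univ θ (fun i _ => hθ i) hinj.injOn g)
  rw [Finset.sum_congr rfl (fun i _ => by rw [heq i]), Finset.sum_const, Finset.card_univ, Fintype.card_fin,
    nsmul_eq_mul]

end Cfsg.Agent.Invol.CycTI.Ree
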