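import Cfsg.Agent.Lib.Invol.CycTI.Ree.Classes

/-!
# A group of Ree type has an abelian CC subgroup of order prime to `q (q² - 1)`

Counting: some involution `s` neither centralises an involution of `C(t)` nor normalises a Sylow 3-subgroup
normalised by `t`; then `t s` has order prime to `q (q² - 1)` and is inverted by `t`.
-/

set_option autoImplicit false
set_option linter.unusedSectionVars false
set_option linter.style.haveILetI false

namespace Cfsg.Agent.Invol.CycTI.Ree

open Subgroup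
open scoped _root_.Classical

universe u v

namespace Sys

variable {G : Type u} [Group G] [Fintype G] {P : Type v} [Group P] (X : Sys G P)

/-- The involutions commuting with `x`. -/
noncomputable def invC (x : G) : Finset G := Finset.univ.filter fun s => orderOf s = 2 ∧ s * x = x * s

theorem mem_invC {x s : G} : s ∈ invC x ↔ orderOf s = 2 ∧ s * x = x * s := by simp [invC]

theorem cent_u_card_ge : 4 * X.r ≤ Nat.card ↥(centralizer ({X.S.lp.D.u} : Set P)) := by
  haveI := X.S.lp.finiteP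
  set D := X.S.lp.D
  set C := centralizer ({D.u} : Set P)
  set H := X.Cz.comap X.ι
  have hY : D.Y ≤ H := fun y hy => X.Z_mem_Cz hy
  have hu : D.u ∈ H := X.u_mem_Cz
  have hHC : H ≤ C := fun x hx => mem_centralizer_singleton_iff.2 (X.S.B.inj (by
    rw [map_mul, map_mul]
    exact X.Cz_comm hx X.u_mem_Cz))
  have hwH : D.w ∉ H := fun hw => by
    obtain ⟨y, hy, hy1⟩ := X.exists_z
    have h := D.w_Y y hy
    rw [X.S.B.inj (a₁ := D.w * y) (a₂ := y * D.w) (by
      rw [map_mul, map_mul]; exact X.Cz_comm hw (X.Z_mem_Cz hy)), mul_inv_cancel_right] at h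
    refine Sys.sq_ne_one (D.odd_Y hy) hy1 ?_
    nth_rewrite 1 [h]
    exact inv_mul_cancel y
  have hwC : D.w ∈ C := mem_centralizer_singleton_iff.2 D.comm.symm
  have h2r : 2 * X.r ≤ Nat.card ↥H := by
    refine Nat.le_of_dvd Nat.card_pos ((Nat.prime_two.coprime_iff_not_dvd.2 D.not_two_dvd_r).mul_dvd_of_dvd_of_dvd
      (D.orderOf_u ▸ Subgroup.orderOf_dvd_natCard _ hu) ?_)
    show D.r ∣ _
    rw [← D.card_Y]
    exact card_dvd_of_le hY
  obtain ⟨k, hk⟩ := card_dvd_of_le hHC
  have hk2 : 2 ≤ k := by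
    rcases k with _ | _ | k
    · exact absurd hk (by rw [mul_zero]; exact Nat.card_pos.ne')
    · exact absurd ((eq_of_le_of_card_ge hHC (le_of_eq (hk.trans (mul_one _)))) ▸ hwC) hwH
    · omega
  calc 4 * X.r = 2 * X.r * 2 := by ring
    _ ≤ Nat.card ↥H * k := Nat.mul_le_mul h2r hk2
    _ = _ := hk.symm

theorem card_invP : Nat.card {k : P // IsConj X.S.lp.D.u k} ≤ X.q * X.m := by
  haveI := X.S.lp.finiteP
  have h := (centralizer ({X.S.lp.D.u} : Set P)).card_mul_index
  rw [← Char.card_conjClass, X.S.lp.card_P] at h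
  refine Nat.le_of_mul_le_mul_left ?_ (show 0 < 4 * X.r by have := X.r_ge; omega)
  calc 4 * X.r * Nat.card {k : P // IsConj X.S.lp.D.u k}
      ≤ Nat.card ↥(centralizer ({X.S.lp.D.u} : Set P)) * Nat.card {k : P // IsConj X.S.lp.D.u k} :=
        Nat.mul_le_mul_right _ X.cent_u_card_ge
    _ = _ := by rw [h]; show 4 * X.r * X.m * X.q = _; ring

theorem card_invC_t : (invC X.t).card ≤ X.q ^ 2 - X.q + 1 := by
  haveI := X.S.lp.finiteP
  haveI : Fintype P := Fintype.ofFinite P
  set K : Finset P := insert 1 (Finset.univ.filter fun k => IsConj X.S.lp.D.u k) with hK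
  have hKc : K.card ≤ 1 + X.q * X.m := by
    refine (Finset.card_insert_le _ _).trans ?_
    rw [add_comm]
    refine Nat.add_le_add_left ?_ _
    rw [← Fintype.card_subtype, ← Nat.card_eq_fintype_card]
    exact X.card_invP
  have hsub : invC X.t ⊆ (K.image fun k => X.t * X.ι k) ∪ ((K.erase 1).image fun k => X.ι k) := by
    intro s hs
    obtain ⟨hs2, hst⟩ := mem_invC.1 hs
    have hss : s * s = 1 := by rw [← pow_two, ← hs2, pow_orderOf_eq_one]
    have hclass : ∀ k : P, k * k = 1 → k ∈ K := fun k hk => by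
      by_cases h1 : k = 1
      · simp [hK, h1]
      · exact Finset.mem_insert_of_mem (Finset.mem_filter.2 ⟨Finset.mem_univ _, X.S.lp.D.one_class k hk h1⟩)
    obtain ⟨k, rfl | rfl⟩ := X.S.B.cover s hst
    · refine Finset.mem_union_right _ (Finset.mem_image.2 ⟨k, Finset.mem_erase.2 ⟨fun h1 => ?_, ?_⟩, rfl⟩)
      · rw [h1, map_one, orderOf_one] at hs2; omega
      · exact hclass k (X.S.B.inj (by rw [map_mul, map_one, hss]))
    · refine Finset.mem_union_left _ (Finset.mem_image.2 ⟨k, hclass k (X.S.B.inj ?_), rfl⟩)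
      rw [← X.sq_t_form, map_one]
      exact hss
  have h1K : (1 : P) ∈ K := Finset.mem_insert_self _ _
  have hc : (invC X.t).card ≤ K.card + (K.card - 1) := by
    refine (Finset.card_le_card hsub).trans ((Finset.card_union_le _ _).trans (Nat.add_le_add ?_ ?_))
    · exact Finset.card_image_le
    · exact Finset.card_image_le.trans (le_of_eq (Finset.card_erase_of_mem h1K))
  have e : X.q ^ 2 - X.q + 1 = 2 * (X.q * X.m) + 1 := by
    rw [pow_two, show X.q * X.q - X.q = X.q * (X.q - 1) by rw [Nat.mul_sub, mul_one],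
      show X.q - 1 = 2 * X.m by have := X.q_m; omega]
    ring
  omega

theorem invC_conj (c x : G) : (invC (c * x * c⁻¹)).card = (invC x).card := by
  refine (Finset.card_equiv (MulAut.conj c).toEquiv fun s => ?_).symm
  rw [mem_invC, mem_invC]
  show orderOf s = 2 ∧ s * x = x * s ↔
    orderOf (c * s * c⁻¹) = 2 ∧ c * s * c⁻¹ * (c * x * c⁻¹) = c * x * c⁻¹ * (c * s * c⁻¹)
  have ho : orderOf (c * s * c⁻¹) = orderOf s :=
    orderOf_injective (MulAut.conj c).toMonoidHom (MulAut.conj c).injective s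
  rw [conj_mul, conj_mul, ho]
  simp

/-- An involution of `C(t)` adds at most `q² - q - 6` involutions. -/
theorem card_extra {τ : G} (hτ : τ ∈ invC X.t) : (invC τ \ invC X.t).card ≤ X.q ^ 2 - X.q + 1 - 7 := by
  haveI : Fact (Nat.Prime 2) := ⟨Nat.prime_two⟩
  obtain ⟨hτ2, hτt⟩ := mem_invC.1 hτ
  have hττ : τ * τ = 1 := by rw [← pow_two, ← hτ2, pow_orderOf_eq_one]
  set V := JankoWard.fourSub X.t τ X.tt hττ hτt.symm with hV
  have hVp : IsPGroup 2 ↥V := fun x => ⟨1, Subtype.ext (by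
    rw [pow_one, Subgroup.coe_pow, pow_two]
    rcases JankoWard.mem_fourSub.1 x.2 with h | h | h | h <;> rw [h]
    · exact one_mul 1
    · exact X.tt
    · exact hττ
    · rw [show X.t * τ * (X.t * τ) = X.t * (τ * X.t) * τ by group, hτt, ← mul_assoc, X.tt, one_mul, hττ]
      rfl)⟩
  obtain ⟨E, hE⟩ := hVp.exists_le_sylow
  have hsq : ∀ x ∈ (E : Subgroup G), x * x = 1 := fun x hx => by
    obtain ⟨j, hj⟩ := E.isPGroup' ⟨x, hx⟩
    exact X.S.amb.sq2 x ⟨j, congrArg Subtype.val hj⟩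
  have hcomm : ∀ x ∈ (E : Subgroup G), ∀ y ∈ (E : Subgroup G), x * y = y * x := fun x hx y hy => by
    calc x * y = (x * y)⁻¹ := (inv_eq_of_mul_eq_one_right (hsq _ (mul_mem hx hy))).symm
      _ = y⁻¹ * x⁻¹ := _root_.mul_inv_rev _ _
      _ = _ := by rw [inv_eq_of_mul_eq_one_right (hsq x hx), inv_eq_of_mul_eq_one_right (hsq y hy)]
  have ht : X.t ∈ (E : Subgroup G) := hE (JankoWard.mem_fourSub.2 (Or.inr (Or.inl rfl)))
  have hτE : τ ∈ (E : Subgroup G) := hE (JankoWard.mem_fourSub.2 (Or.inr (Or.inr (Or.inl rfl))))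
  set E' := (Finset.univ.filter fun x => x ∈ (E : Subgroup G)).erase 1 with hE'
  have hEsub : E' ⊆ invC τ ∩ invC X.t := by
    intro x hx
    obtain ⟨hx1, hx'⟩ := Finset.mem_erase.1 hx
    have hxE : x ∈ (E : Subgroup G) := (Finset.mem_filter.1 hx').2
    have hox : orderOf x = 2 := orderOf_eq_prime (by rw [pow_two, hsq x hxE]) hx1
    exact Finset.mem_inter.2 ⟨mem_invC.2 ⟨hox, hcomm x hxE τ hτE⟩, mem_invC.2 ⟨hox, hcomm x hxE _ ht⟩⟩
  have hE7 : E'.card = 7 := by
    rw [hE', Finset.card_erase_of_mem (by simp), ← Fintype.card_subtype, ← Nat.card_eq_fintype_card]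
    show Nat.card ↥(E : Subgroup G) - 1 = 7
    rw [X.S.amb.eight E]
  have hτc : (invC τ).card = (invC X.t).card := by
    obtain ⟨c, hc⟩ := X.one_class hτ2
    rw [← hc, invC_conj]
  have h7 := Finset.card_le_card hEsub
  have hsum := Finset.card_sdiff_add_card_inter (invC τ) (invC X.t)
  have := X.card_invC_t
  omega

/-- The normaliser of the Sylow subgroup contains at most `q²` involutions. -/
theorem card_invN :
    (Finset.univ.filter fun s => orderOf s = 2 ∧ s ∈ normalizer (X.Q : Set G)).card ≤ X.q ^ 2 := by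
  set I := Finset.univ.filter fun s => orderOf s = 2 ∧ s ∈ normalizer (X.Q : Set G)
  haveI : Fintype ↥X.Q := Fintype.ofFinite _
  let f : ↥X.Q → G := fun y => X.t * ((y : G)⁻¹ * X.t * y * X.t)
  have hsub : I ⊆ Finset.univ.image f := by
    intro s hs
    obtain ⟨-, hs2, hsN⟩ := Finset.mem_filter.1 hs
    have hss : s * s = 1 := by rw [← pow_two, ← hs2, pow_orderOf_eq_one]
    obtain ⟨τ, hτ, x, hx, rfl⟩ := X.N_elim hsN
    have hτN := X.hT hτ
    have hτ2 : τ * τ = 1 := by
      refine X.T_inf_Q (mul_mem hτ hτ) ?_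
      have e : τ * τ = (τ * x * τ⁻¹)⁻¹ * (τ * x * (τ * x)) * (x⁻¹) := by group
      rw [e, hss, mul_one]
      exact mul_mem (inv_mem ((mem_normalizer_iff.1 hτN x).1 hx)) (inv_mem hx)
    obtain ⟨y, hy, hτy⟩ := X.S.mem_T hτ
    rcases X.S.invol_T hy hτy hτ2 with rfl | rfl
    · exfalso
      rw [one_mul] at hs2
      have h := X.pow_Q hx
      have hd := orderOf_dvd_of_pow_eq_one h
      rw [hs2] at hd
      exact absurd ((Nat.prime_dvd_prime_iff_eq Nat.prime_two Nat.prime_three).1 (Nat.prime_two.dvd_of_dvd_pow hd))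
        (by norm_num)
    · have hinv : X.t * x * X.t = x⁻¹ := eq_inv_of_mul_eq_one_left (by rw [← hss]; group)
      obtain ⟨j, hj⟩ := exists_pow_eq_self_of_coprime (x := x) (n := 2) (by
        refine Nat.Coprime.coprime_dvd_right (orderOf_dvd_of_pow_eq_one (X.pow_Q hx)) ?_
        exact Nat.Coprime.pow_right _ (by decide))
      set y' := x ^ j with hy'
      have hyy : y' * y' = x := by rw [hy', ← pow_add, ← two_mul, pow_mul, hj]
      have hyinv : X.t * y' * X.t = y'⁻¹ := by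
        have h := conj_pow (a := X.t) (b := x) (i := j)
        rw [X.S.t_inv, hinv, inv_pow] at h
        exact h.symm
      refine Finset.mem_image.2 ⟨⟨y'⁻¹, inv_mem (pow_mem hx j)⟩, Finset.mem_univ _, ?_⟩
      show X.t * ((y'⁻¹)⁻¹ * X.t * y'⁻¹ * X.t) = X.t * x
      rw [inv_inv, ← hyinv, show y' * X.t * (X.t * y' * X.t) * X.t = y' * (X.t * X.t) * y' * (X.t * X.t) by group,
        X.tt, mul_one, mul_one, hyy]
  -- fibres
  have hfib : ∀ b ∈ Finset.univ.image f, X.q ≤ (Finset.univ.filter fun y => f y = b).card := by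
    intro b hb
    obtain ⟨y, -, rfl⟩ := Finset.mem_image.1 hb
    rw [← Fintype.card_subtype, ← Nat.card_eq_fintype_card, ← X.card_Um]
    refine Nat.card_le_card_of_injective (fun a : ↥X.S.Um => (⟨⟨(a : G) * y, mul_mem (X.hUQ a.2) y.2⟩, ?_⟩ :
      {z : ↥X.Q // f z = f y})) fun a a' h => Subtype.ext ?_
    · show X.t * (((a : G) * y)⁻¹ * X.t * ((a : G) * y) * X.t) = _
      rw [show ((a : G) * y)⁻¹ * X.t * ((a : G) * y) * X.t = (y : G)⁻¹ * ((a : G)⁻¹ * (X.t * a)) * y * X.t by group,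
        ← X.Um_fix a.2, inv_mul_cancel_left]
    · exact mul_right_cancel (congrArg (fun z : {z : ↥X.Q // f z = f y} => ((z.1 : G))) h)
  refine (Finset.card_le_card hsub).trans ?_
  refine Nat.le_of_mul_le_mul_right ?_ (show 0 < X.q by have := X.q_ge; omega)
  calc (Finset.univ.image f).card * X.q ≤ Finset.card (Finset.univ : Finset ↥X.Q) := by
        rw [Finset.card_eq_sum_card_fiberwise (f := f) (t := Finset.univ.image f)
          fun a _ => Finset.mem_image_of_mem f (Finset.mem_univ a)]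
        exact le_trans (le_of_eq (by rw [Finset.sum_const, smul_eq_mul])) (Finset.sum_le_sum hfib)
    _ = _ := by rw [Finset.card_univ, ← Nat.card_eq_fintype_card, X.hc]; ring

/-- The involution `s` normalises the Sylow subgroup with coset `x`. -/
def Fixes (s : G) (x : G ⧸ normalizer (X.Q : Set G)) : Prop := s • x = x

theorem fixes_mk {s c : G} : X.Fixes s ↑c ↔ c⁻¹ * s * c ∈ normalizer (X.Q : Set G) := by
  unfold Fixes
  rw [MulAction.Quotient.smul_coe, smul_eq_mul, QuotientGroup.eq,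
    show (s * c)⁻¹ * c = (c⁻¹ * s * c)⁻¹ by group, inv_mem_iff]

/-- The number of fixed Sylow subgroups of `t`. -/
theorem card_fixed : (Finset.univ.filter fun x => X.Fixes X.t x).card ≤ X.q + 1 := by
  set I : Finset G := Finset.univ.filter fun s => orderOf s = 2 with hI
  have hIc : I.card = X.q ^ 2 * (X.q ^ 2 - X.q + 1) := by
    rw [hI, ← Fintype.card_subtype, ← Nat.card_eq_fintype_card]; exact X.card_invol
  have hidx : (Finset.univ : Finset (G ⧸ normalizer (X.Q : Set G))).card = X.q ^ 3 + 1 := by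
    rw [Finset.card_univ, ← Nat.card_eq_fintype_card]
    exact (X.S.double_coset X.hc X.hQ X.hUQ X.hT).1
  have h1 : ∀ s ∈ I, (Finset.univ.filter fun x => X.Fixes s x).card =
      (Finset.univ.filter fun x => X.Fixes X.t x).card := by
    intro s hs
    obtain ⟨c, rfl⟩ := X.one_class (Finset.mem_filter.1 hs).2
    refine (Finset.card_equiv (MulAction.toPerm c) fun x => ?_).symm
    simp only [Finset.mem_filter, Finset.mem_univ, true_and]
    show X.t • x = x ↔ (c * X.t * c⁻¹) • (c • x) = c • x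
    rw [smul_smul, show c * X.t * c⁻¹ * c = c * X.t by group, mul_smul, (MulAction.injective c).eq_iff]
  have h2 : ∀ x : G ⧸ normalizer (X.Q : Set G), (I.filter fun s => X.Fixes s x).card ≤ X.q ^ 2 := by
    intro x
    obtain ⟨c, rfl⟩ := QuotientGroup.mk_surjective x
    refine le_trans ?_ X.card_invN
    refine Finset.card_le_card_of_injOn (fun s => c⁻¹ * s * c) (fun s hs => ?_) fun a _ b _ h => ?_
    · obtain ⟨hs1, hs2⟩ := Finset.mem_filter.1 hs
      refine Finset.mem_filter.2 ⟨Finset.mem_univ _, ?_, X.fixes_mk.1 hs2⟩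
      show orderOf (c⁻¹ * s * c) = 2
      have := orderOf_injective (MulAut.conj c⁻¹).toMonoidHom (MulAut.conj c⁻¹).injective s
      rw [show (MulAut.conj c⁻¹).toMonoidHom s = c⁻¹ * s * c by simp] at this
      rw [this, (Finset.mem_filter.1 hs1).2]
    · exact mul_left_cancel (mul_right_cancel h)
  have key : I.card * (Finset.univ.filter fun x => X.Fixes X.t x).card ≤ (X.q ^ 3 + 1) * X.q ^ 2 := by
    rw [← smul_eq_mul, ← Finset.sum_const, ← Finset.sum_congr rfl h1]
    simp only [Finset.card_filter]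
    rw [Finset.sum_comm]
    simp only [← Finset.card_filter]
    exact (Finset.sum_le_sum fun x _ => h2 x).trans (le_of_eq (by rw [Finset.sum_const, hidx, smul_eq_mul]))
  have hcube : X.q ^ 3 + 1 = (X.q + 1) * (X.q ^ 2 - X.q + 1) := by
    have h2 : X.q ≤ X.q ^ 2 := Nat.le_self_pow (by norm_num) _
    zify [h2]; ring
  rw [hIc, hcube] at key
  refine Nat.le_of_mul_le_mul_left (le_trans key (le_of_eq (by ring))) (Nat.mul_pos ?_ (Nat.succ_pos _))
  have := X.q_ge
  positivity

/-- An element of order prime to `q (q² - 1)` inverted by `t`. -/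
theorem exists_real : ∃ g : G, g ≠ 1 ∧ (orderOf g).Coprime (X.q * (X.q ^ 2 - 1)) ∧ X.t * g * X.t⁻¹ = g⁻¹ := by
  set I : Finset G := Finset.univ.filter fun s => orderOf s = 2 with hI
  have hIc : I.card = X.q ^ 2 * (X.q ^ 2 - X.q + 1) := by
    rw [hI, ← Fintype.card_subtype, ← Nat.card_eq_fintype_card]; exact X.card_invol
  set F := Finset.univ.filter fun x => X.Fixes X.t x
  set B1 : Finset G := invC X.t ∪ (invC X.t).biUnion (fun τ => invC τ \ invC X.t)
  set B2 : Finset G := F.biUnion fun x => I.filter fun s => X.Fixes s x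
  have hB1 : B1.card ≤ (X.q ^ 2 - X.q + 1) * (X.q ^ 2 - X.q + 1 - 6) := by
    refine (Finset.card_union_le _ _).trans ?_
    refine (Nat.add_le_add_left (Finset.card_biUnion_le.trans
      (Finset.sum_le_sum fun τ hτ => X.card_extra hτ)) _).trans ?_
    rw [Finset.sum_const, smul_eq_mul]
    have h7 : 7 ≤ X.q ^ 2 - X.q + 1 := by
      have := X.q_ge
      have : 27 * X.q ≤ X.q ^ 2 := by rw [pow_two]; exact Nat.mul_le_mul_right _ this
      omega
    calc (invC X.t).card + (invC X.t).card * (X.q ^ 2 - X.q + 1 - 7)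
        = (invC X.t).card * (X.q ^ 2 - X.q + 1 - 6) := by
          rw [show X.q ^ 2 - X.q + 1 - 6 = X.q ^ 2 - X.q + 1 - 7 + 1 by omega]; ring
      _ ≤ _ := Nat.mul_le_mul_right _ X.card_invC_t
  have hB2 : B2.card ≤ (X.q + 1) * X.q ^ 2 := by
    refine (Finset.card_biUnion_le).trans ((Finset.sum_le_sum (g := fun _ => X.q ^ 2) fun x _ => ?_).trans ?_)
    · obtain ⟨c, rfl⟩ := QuotientGroup.mk_surjective x
      refine le_trans ?_ X.card_invN
      refine Finset.card_le_card_of_injOn (fun s => c⁻¹ * s * c) (fun s hs => ?_) fun a _ b _ h => ?_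
      · obtain ⟨hs1, hs2⟩ := Finset.mem_filter.1 hs
        refine Finset.mem_filter.2 ⟨Finset.mem_univ _, ?_, X.fixes_mk.1 hs2⟩
        show orderOf (c⁻¹ * s * c) = 2
        have := orderOf_injective (MulAut.conj c⁻¹).toMonoidHom (MulAut.conj c⁻¹).injective s
        rw [show (MulAut.conj c⁻¹).toMonoidHom s = c⁻¹ * s * c by simp] at this
        rw [this, (Finset.mem_filter.1 hs1).2]
      · exact mul_left_cancel (mul_right_cancel h)
    · rw [Finset.sum_const, smul_eq_mul]
      exact Nat.mul_le_mul_right _ X.card_fixed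
  obtain ⟨s, hsI, hsB⟩ : ∃ s ∈ I, s ∉ B1 ∪ B2 := by
    by_contra hh
    push Not at hh
    have h := (Finset.card_le_card hh).trans ((Finset.card_union_le _ _).trans (Nat.add_le_add hB1 hB2))
    rw [hIc] at h
    have hq := X.q_ge
    have hq2 : X.q ≤ X.q ^ 2 := Nat.le_self_pow (by norm_num) _
    have h6 : 6 ≤ X.q ^ 2 - X.q + 1 := by
      have : 27 * X.q ≤ X.q ^ 2 := by rw [pow_two]; exact Nat.mul_le_mul_right _ hq
      omega
    zify [hq2, h6] at h
    nlinarith
  have hs2 : orderOf s = 2 := (Finset.mem_filter.1 hsI).2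
  rw [Finset.mem_union, not_or] at hsB
  have hnotC : ∀ τ ∈ invC X.t, s * τ ≠ τ * s := fun τ hτ h => by
    refine hsB.1 ?_
    by_cases hst : s ∈ invC X.t
    · exact Finset.mem_union_left _ hst
    · exact Finset.mem_union_right _ (Finset.mem_biUnion.2 ⟨τ, hτ, Finset.mem_sdiff.2 ⟨mem_invC.2 ⟨hs2, h⟩, hst⟩⟩)
  set g := X.t * s with hg
  have htg : X.t * g * X.t⁻¹ = g⁻¹ := by
    rw [hg, _root_.mul_inv_rev, inv_eq_of_mul_eq_one_right (by rw [← pow_two, ← hs2, pow_orderOf_eq_one] : s * s = 1),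
      ← mul_assoc, X.tt, one_mul]
  have htInv : X.t ∈ invC X.t := mem_invC.2 ⟨X.ord_t, rfl⟩
  have hst : s = X.t * g := by rw [hg, ← mul_assoc, X.tt, one_mul]
  refine ⟨g, fun h => hnotC _ htInv (by rw [hst, h, mul_one]), Nat.coprime_of_dvd fun p hp h1 h2 => ?_, htg⟩
  have hgn := orderOf_pos g
  set h := g ^ (orderOf g / p) with hh
  have hho : orderOf h = p := orderOf_pow_orderOf_div hgn.ne' h1
  have hh1 : h ≠ 1 := ne_one_of_prime hp hho
  have hgh : Commute g h := Commute.self_pow _ _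
  have hth : X.t * h * X.t⁻¹ = h⁻¹ := by rw [hh, ← conj_pow, htg, inv_pow]
  -- an involution commuting with `t` and `g`
  have kill : ∀ τ : G, orderOf τ = 2 → τ * X.t = X.t * τ → g * τ = τ * g → False := fun τ hτ hτt hgτ =>
    hnotC τ (mem_invC.2 ⟨hτ, hτt⟩) (by
      rw [hst, mul_assoc, hgτ, ← mul_assoc, ← hτt, mul_assoc])
  have byAbelian : ∀ (K : Subgroup G), (∀ a ∈ K, ∀ b ∈ K, a * b = b * a) → 2 ∣ Nat.card ↥K →
      ∀ c : G, c * h * c⁻¹ ∈ K → (∀ x : G, x * (c * h * c⁻¹) = (c * h * c⁻¹) * x → x ∈ K) → False := by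
    intro K hKc hK2 c hcK hcent
    haveI : Fact (Nat.Prime 2) := ⟨Nat.prime_two⟩
    obtain ⟨⟨τ', hτ'K⟩, hτ'⟩ := exists_prime_orderOf_dvd_card' (G := ↥K) 2 hK2
    rw [orderOf_mk] at hτ'
    set τ := c⁻¹ * τ' * c with hτdef
    have hmem : ∀ x : G, Commute x h → c * x * c⁻¹ ∈ K := fun x hx => hcent _ (by
      rw [conj_mul, conj_mul, hx.eq])
    have hcom : ∀ x y : G, Commute x h → Commute y h → x * y = y * x := fun x y hx hy => by
      have e := hKc _ (hmem x hx) _ (hmem y hy)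
      rw [conj_mul, conj_mul] at e
      exact mul_left_cancel (mul_right_cancel e)
    have hτh : Commute τ h := by
      show τ * h = h * τ
      calc τ * h = c⁻¹ * (τ' * (c * h * c⁻¹)) * c := by rw [hτdef]; group
        _ = c⁻¹ * ((c * h * c⁻¹) * τ') * c := by rw [hKc _ hτ'K _ hcK]
        _ = _ := by rw [hτdef]; group
    have hτo : orderOf τ = 2 := by
      have e := orderOf_injective (MulAut.conj c⁻¹).toMonoidHom (MulAut.conj c⁻¹).injective τ'
      rw [show (MulAut.conj c⁻¹).toMonoidHom τ' = τ by simp [hτdef]] at e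
      exact e.trans hτ'
    have hgh' : Commute g h := hgh
    by_cases hτt : τ * X.t = X.t * τ
    · exact kill τ hτo hτt (hcom g τ hgh' hτh)
    · set τ₂ := X.t * τ * X.t⁻¹ with hτ₂
      have hτ₂h : Commute τ₂ h := by
        have h3 : Commute τ₂ (X.t * h⁻¹ * X.t⁻¹) := (Commute.conj_iff X.t).2 hτh.inv_right
        rwa [← conj_inv, hth, inv_inv] at h3
      have hc2 : τ * τ₂ = τ₂ * τ := hcom _ _ hτh hτ₂h
      have hττ : τ * τ = 1 := by rw [← pow_two, ← hτo, pow_orderOf_eq_one]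
      have hsq₂ : τ₂ * τ₂ = 1 := by rw [hτ₂, conj_mul, hττ]; group
      refine kill (τ * τ₂) (orderOf_eq_prime ?_ ?_) ?_ (hcom g _ hgh' (hτh.mul_left hτ₂h))
      · rw [pow_two, mul_assoc, ← mul_assoc τ₂, ← hc2, mul_assoc τ, hsq₂, mul_one, hττ]
      · intro e
        refine hτt ?_
        have e' : τ₂ = τ := by
          rw [← inv_eq_of_mul_eq_one_right e, inv_eq_of_mul_eq_one_right hττ]
        rw [hτ₂, mul_inv_eq_iff_eq_mul] at e'
        exact e'.symm
      · have e' : X.t * (τ * τ₂) * X.t⁻¹ = τ * τ₂ := by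
          rw [← conj_mul, ← hτ₂, show X.t * τ₂ * X.t⁻¹ = τ by
            rw [hτ₂, show X.t * (X.t * τ * X.t⁻¹) * X.t⁻¹ = (X.t * X.t) * τ * (X.t * X.t)⁻¹ by group, X.tt]
            group, hc2]
        exact (mul_inv_eq_iff_eq_mul.1 e').symm
  rcases X.prime_cases hp h2 with rfl | rfl | hm | hr
  · refine kill h hho ?_ hgh
    have hhi : h⁻¹ = h := inv_eq_of_mul_eq_one_right (by rw [← pow_two, ← hho, pow_orderOf_eq_one])
    rw [hhi, mul_inv_eq_iff_eq_mul] at hth
    exact hth.symm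
  · obtain ⟨c, hc⟩ := X.class_three (n := 1) (by rwa [pow_one])
    have hnorm : ∀ a : G, a * h * a⁻¹ = h⁻¹ → X.Fixes a ↑c⁻¹ := by
      intro a ha
      rw [fixes_mk, inv_inv]
      by_contra hn
      refine conj_ne_one (c := c) hh1 (X.isTI _ hn _ hc ?_)
      rw [show c * a * c⁻¹ * (c * h * c⁻¹) * (c * a * c⁻¹)⁻¹ = c * (a * h * a⁻¹) * c⁻¹ by group, ha, ← conj_inv]
      exact inv_mem hc
    have hs_inv : s * h * s⁻¹ = h⁻¹ := by
      rw [hst, show X.t * g * h * (X.t * g)⁻¹ = X.t * (g * h * g⁻¹) * X.t⁻¹ by group, hgh.eq,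
        mul_inv_cancel_right, hth]
    exact hsB.2 (Finset.mem_biUnion.2 ⟨↑c⁻¹, Finset.mem_filter.2 ⟨Finset.mem_univ _, hnorm _ hth⟩,
      Finset.mem_filter.2 ⟨hsI, hnorm _ hs_inv⟩⟩)
  · obtain ⟨c, y, hy, hy1, e⟩ := X.class_m hp hm hho
    refine byAbelian X.S.T (fun a ha b hb => X.T_comm ha hb) ?_ c (by rw [e]; exact X.Ym_le (X.mem_Ym hy)) ?_
    · rw [X.card_T]
      have := X.q_m; omega
    · intro x hx
      rw [e] at hx
      exact X.cent_ym hy hy1 hx
  · obtain ⟨c, y, hy, hy1, e⟩ := X.class_r hp hr hho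
    refine byAbelian X.Cz (fun a ha b hb => X.Cz_comm ha hb) ?_ c (by rw [e]; exact X.Z_mem_Cz hy) ?_
    · rw [X.card_Cz]; omega
    · intro x hx
      rw [e] at hx
      exact X.cent_z_mem hy hy1 hx

/-- An abelian subgroup that is the centraliser of each of its nontrivial elements. -/
theorem exists_cc : ∃ A : Subgroup G, A ≠ ⊥ ∧ (∀ a ∈ A, ∀ b ∈ A, a * b = b * a) ∧
    (∀ a ∈ A, a ≠ 1 → centralizer ({a} : Set G) = A) ∧ Nat.card ↥A ∣ X.q ^ 2 - X.q + 1 ∧
    (∀ a ∈ A, a ≠ 1 → (orderOf a).Coprime (X.q * (X.q ^ 2 - 1))) := by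
  obtain ⟨g, hg1, hcop, hinv⟩ := X.exists_real
  have abel : ∀ a : G, a ≠ 1 → (orderOf a).Coprime (X.q * (X.q ^ 2 - 1)) → X.t * a * X.t⁻¹ = a⁻¹ →
      ∀ x ∈ centralizer ({a} : Set G), X.t * x * X.t⁻¹ = x⁻¹ := by
    intro a ha hac hai
    refine AbelTwo.ReeTrans.inverts X.tt (fun x hx => mem_centralizer_singleton_iff.2 ?_) fun x hx hxt => ?_
    · have h : Commute (X.t * x * X.t⁻¹) (X.t * a⁻¹ * X.t⁻¹) :=
        (Commute.conj_iff X.t).2 (Commute.inv_right (mem_centralizer_singleton_iff.1 hx))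
      rwa [← conj_inv, hai, inv_inv] at h
    · have h1 := Subgroup.orderOf_dvd_natCard _ hx
      have h2 : orderOf x ∣ X.q * (X.q ^ 2 - 1) := by
        rw [← X.card_C]
        exact Subgroup.orderOf_dvd_natCard _ (mem_centralizer_singleton_iff.2 hxt)
      exact orderOf_eq_one_iff.1 (Nat.eq_one_of_dvd_coprimes (X.cent_coprime ha hac) h1 h2)
  have comm : ∀ a : G, a ≠ 1 → (orderOf a).Coprime (X.q * (X.q ^ 2 - 1)) → X.t * a * X.t⁻¹ = a⁻¹ →
      ∀ x ∈ centralizer ({a} : Set G), ∀ y ∈ centralizer ({a} : Set G), x * y = y * x := by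
    intro a ha hac hai x hx y hy
    have h := abel a ha hac hai _ (mul_mem hx hy)
    rw [← conj_mul, abel a ha hac hai x hx, abel a ha hac hai y hy, ← _root_.mul_inv_rev, inv_inj] at h
    exact h.symm
  refine ⟨centralizer ({g} : Set G), fun h => hg1 ?_, comm g hg1 hcop hinv, fun a ha ha1 => ?_,
    X.cent_dvd_w hg1 hcop, fun a ha ha1 => (X.cent_coprime hg1 hcop).coprime_dvd_left (Subgroup.orderOf_dvd_natCard _ ha)⟩
  · rw [← mem_bot (G := G), ← h]
    exact mem_centralizer_singleton_iff.2 rfl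
  · have hac := (X.cent_coprime hg1 hcop).coprime_dvd_left (Subgroup.orderOf_dvd_natCard _ ha)
    have hgA : g ∈ centralizer ({a} : Set G) :=
      mem_centralizer_singleton_iff.2 (mem_centralizer_singleton_iff.1 ha).symm
    refine le_antisymm (fun x hx => mem_centralizer_singleton_iff.2
      (comm a ha1 hac (abel g hg1 hcop hinv a ha) x hx g hgA)) fun x hx => mem_centralizer_singleton_iff.2
      (comm g hg1 hcop hinv x hx a ha)

end Sys

end Cfsg.Agent.Invol.CycTI.Ree
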