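import Cfsg.Agent.Lib.Invol.CycTI.Ree.Degree
import Cfsg.Agent.Lib.Invol.CycTI.Ree.Real

/-!
# A group of Ree type has no derived Sylow 3-subgroup of order `q`
-/

set_option autoImplicit false
set_option linter.unusedSectionVars false
set_option linter.style.haveILetI false

namespace Cfsg.Agent.Invol.CycTI.Ree

open Subgroup
open Cfsg
open scoped ComplexConjugate
open scoped _root_.Classical

universe u v

namespace Fam

variable {G : Type u} [Group G] [Fintype G] {P : Type v} [Group P] {X : Sys G P} (F : Fam X)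

/-- The members are constant integers on an abelian subgroup that is the centraliser of each of its nontrivial
elements. -/
theorem const_cc (k : Fin X.q) {A : Subgroup G} (hA : ∀ a ∈ A, ∀ b ∈ A, a * b = b * a)
    (hcc : ∀ a ∈ A, a ≠ 1 → centralizer ({a} : Set G) = A) (h3 : ¬ 3 ∣ Nat.card ↥A) :
    ∃ s b : ℤ, (∀ a ∈ A, a ≠ 1 → F.θ k a = (s : ℂ)) ∧ F.θ k 1 = ((s + b * Nat.card ↥A : ℤ) : ℂ) := by
  have hTI : IsTI A := by
    intro g hg a ha hga
    by_contra ha1
    refine hg (mem_normalizer_iff.2 fun x => ?_)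
    have h1 := hcc a ha ha1
    have h2 := hcc _ hga (Sys.conj_ne_one ha1)
    rw [← h1]
    conv_rhs => rw [h1, ← h2]
    rw [mem_centralizer_singleton_iff, mem_centralizer_singleton_iff, conj_mul, conj_mul]
    simp
  have hstab : ∀ φ : Lin A, φ ≠ 1 → cnt φ φ = Nat.card ↥A := fun φ hφ => by
    refine le_antisymm (cnt_self_le φ A fun n hn => ?_) (card_le_cnt φ)
    by_contra hnA
    refine hφ (eq_one_of_fixed (fun x hx hcm => ?_) hn)
    by_contra hx1
    exact hnA ((hcc x hx hx1).le (mem_centralizer_singleton_iff.2 hcm))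
  have heq : ∀ i (a : ↥A), F.θ i (a : G) = F.θ k (a : G) := by
    intro i a
    by_cases ha : (a : G) = 1
    · rw [ha]; exact F.eq_one i k
    refine F.eq_off (not_in_Q (X := X) (n := Nat.card ↥A) ?_ h3 ha) i k
    exact congrArg Subtype.val (pow_card_eq_one' (x := a))
  have hcomm : ∀ a b : ↥A, a * b = b * a := fun a b => Subtype.ext (hA _ a.2 _ b.2)
  obtain ⟨α, hα, hsum⟩ := Char.IsGenChar.exists_decomp (F.res_gen k A)
  have hlin : ∀ χ : IrrCharacter ↥A, ∃ l : Lin A, (χ : ↥A → ℂ) = fn l := fun χ =>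
    Char.linearHom_of_isCharacter (Char.IsIrr.isCharacter χ.2) (Char.IsIrr.one_of_comm hcomm χ.2)
  choose l hl using hlin
  have hmult : ∀ i χ, classInner (indFun A (fn (l χ))) (F.θ i) = (α χ : ℂ) := fun i χ => by
    rw [Char.classInner_indFun _ _ (Char.IsIrr.classFun (F.irr i)),
      show (fun x : ↥A => F.θ i x) = fun x : ↥A => F.θ k x from funext fun x => heq i x, ← hl,
      ← Char.classInner_conj_symm, hα χ, map_intCast]
  set one' : IrrCharacter ↥A := ⟨fun _ => 1, Char.isIrr_one⟩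
  have hl1 : ∀ χ, l χ = 1 → χ = one' := fun χ h => Subtype.ext (by rw [hl χ, h]; funext x; simp [fn, one'])
  have hconst : ∀ χ χ', χ ≠ one' → χ' ≠ one' → α χ = α χ' := by
    intro χ χ' h h'
    set E := indFun A (fn (l χ)) - indFun A (fn (l χ')) with hE
    have hb := bessel Finset.univ F.θ (fun i _ => F.irr i) F.inj.injOn E
    rw [Finset.sum_congr rfl (fun i _ => by
      rw [hE, Char.classInner_sub_left, hmult, hmult, ← Int.cast_sub, Complex.norm_intCast, sq_abs]),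
      Finset.sum_const, Finset.card_univ, Fintype.card_fin, nsmul_eq_mul] at hb
    have hEE : classInner E E = ((((cnt (l χ) (l χ) : ℝ) - cnt (l χ) (l χ') - cnt (l χ') (l χ) +
        cnt (l χ') (l χ')) / Nat.card ↥A : ℝ) : ℂ) := by
      rw [hE, ind_inner hTI]
      push_cast
      ring
    rw [hEE, Complex.ofReal_re, hstab _ (fun e => h (hl1 _ e)), hstab _ (fun e => h' (hl1 _ e))] at hb
    have hA0 : (0 : ℝ) < Nat.card ↥A := by exact_mod_cast Nat.card_pos
    have hle : ((Nat.card ↥A : ℝ) - cnt (l χ) (l χ') - cnt (l χ') (l χ) + Nat.card ↥A) / Nat.card ↥A ≤ 2 := by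
      rw [div_le_iff₀ hA0]
      have := Nat.cast_nonneg (α := ℝ) (cnt (l χ) (l χ'))
      have := Nat.cast_nonneg (α := ℝ) (cnt (l χ') (l χ))
      linarith
    by_contra hne
    have h1 : (1 : ℤ) ≤ (α χ - α χ') ^ 2 := by
      have := pow_pos (abs_pos.2 (sub_ne_zero.2 hne)) 2
      rw [sq_abs] at this
      omega
    have h1' : (1 : ℝ) ≤ ((α χ - α χ' : ℤ) : ℝ) ^ 2 := by exact_mod_cast h1
    have hq : (27 : ℝ) ≤ X.q := by exact_mod_cast X.q_ge
    nlinarith
  obtain ⟨b, hb⟩ : ∃ b : ℤ, ∀ χ, χ ≠ one' → α χ = b := by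
    by_cases h : ∃ χ, χ ≠ one'
    · obtain ⟨χ₀, h₀⟩ := h
      exact ⟨α χ₀, fun χ hχ => hconst χ χ₀ hχ h₀⟩
    · push Not at h
      exact ⟨0, fun χ hχ => absurd (h χ) hχ⟩
  have hval : ∀ x : ↥A, F.θ k (x : G) =
      ((α one' - b : ℤ) : ℂ) + (b : ℂ) * ∑ χ : IrrCharacter ↥A, (χ : ↥A → ℂ) x := by
    intro x
    have h := congrFun hsum x
    rw [Finset.sum_apply] at h
    rw [h, Finset.mul_sum, ← Finset.add_sum_erase _ _ (Finset.mem_univ one'),
      ← Finset.add_sum_erase _ _ (Finset.mem_univ one'), Pi.smul_apply, smul_eq_mul,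
      Finset.sum_congr rfl (fun χ hχ => show ((α χ : ℂ) • (χ : ↥A → ℂ)) x = (b : ℂ) * (χ : ↥A → ℂ) x by
        rw [Pi.smul_apply, smul_eq_mul, hb χ (Finset.ne_of_mem_erase hχ)])]
    push_cast
    simp only [one', mul_one]
    ring
  refine ⟨α one' - b, b, fun a ha ha1 => ?_, ?_⟩
  · have hreg := Char.sum_irr_mul_conj (G := ↥A) ⟨a, ha⟩ 1
    simp only [Char.IsIrr.one_of_comm hcomm (Subtype.prop _), map_one, mul_one] at hreg
    rw [if_neg (fun e => ha1 (congrArg Subtype.val (isConj_one_left.1 e)))] at hreg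
    have h := hval ⟨a, ha⟩
    rw [hreg, mul_zero, add_zero] at h
    exact h
  · have h := hval 1
    rw [Subgroup.coe_one, Finset.sum_congr rfl (fun χ _ => Char.IsIrr.one_of_comm hcomm χ.2), Finset.sum_const,
      Finset.card_univ, nsmul_eq_mul, mul_one, ← Nat.card_eq_fintype_card, Char.card_irrCharacter] at h
    rw [h, show Nat.card (ConjClasses ↥A) = Nat.card ↥A from (Nat.card_congr (Equiv.ofBijective ConjClasses.mk
      ⟨fun x y e => by
        obtain ⟨g, hg⟩ := isConj_iff.1 (ConjClasses.mk_eq_mk_iff_isConj.1 e)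
        rwa [hcomm g x, mul_inv_cancel_right] at hg, ConjClasses.mk_surjective⟩)).symm]
    push_cast
    ring

/-- The family does not exist. -/
theorem impossible (F : Fam X) : False := by
  obtain ⟨A, hAne, hA, hcc, hdvd, -⟩ := X.exists_cc
  have hw := X.coprime_w
  have h3 : ¬ 3 ∣ Nat.card ↥A := fun h => Nat.prime_three.not_dvd_one
    (hw.gcd_eq_one ▸ Nat.dvd_gcd (h.trans hdvd) (dvd_mul_of_dvd_left X.three_q _))
  obtain ⟨s, b, hs, h1⟩ := F.const_cc i₁ hA hcc h3
  obtain ⟨D, -, hD⟩ := F.exists_deg i₁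
  have hDq := F.deg_eq hD
  obtain ⟨a, ha, ha1⟩ := (Subgroup.ne_bot_iff_exists_ne_one.1 hAne).elim fun a ha =>
    (⟨(a : G), a.2, fun e => ha (Subtype.ext e)⟩ : ∃ a ∈ A, a ≠ 1)
  have hc2 : 1 < Nat.card ↥A := (Subgroup.one_lt_card_iff_ne_bot A).2 hAne
  have hv := F.value_bound (g := a) (k := i₁)
    (fun i => F.eq_off (not_in_Q (X := X) (n := Nat.card ↥A)
      (congrArg Subtype.val (pow_card_eq_one' (x := (⟨a, ha⟩ : ↥A)))) h3 ha1) i i₁)
    (le_of_eq (congrArg (fun H : Subgroup G => Nat.card ↥H) (hcc a ha ha1)))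
  rw [hs a ha ha1, Complex.norm_intCast, sq_abs] at hv
  have hv' : (X.q : ℤ) * s ^ 2 ≤ (Nat.card ↥A : ℤ) := by exact_mod_cast hv
  set c : ℤ := (Nat.card ↥A : ℤ) with hcdef
  have hc : 1 < c := by rw [hcdef]; exact_mod_cast hc2
  have hq : (27 : ℤ) ≤ X.q := by exact_mod_cast X.q_ge
  have hw' : c ∣ (X.q : ℤ) ^ 2 - X.q + 1 := by
    have h := Int.natCast_dvd_natCast.2 hdvd
    push_cast [Nat.cast_sub (Nat.le_self_pow (two_ne_zero) X.q)] at h
    exact h
  have hd : c ∣ (X.q : ℤ) - 2 - s := by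
    have e : ((D : ℤ) : ℂ) = ((s + b * c : ℤ) : ℂ) := by rw [← h1, Int.cast_natCast]; exact hD.symm
    have e' : (D : ℤ) = s + b * c := by exact_mod_cast e
    have e'' : (D : ℤ) = (X.q : ℤ) ^ 2 - 1 := by
      rw [hDq, Nat.cast_sub (Nat.one_le_pow 2 X.q (by have := X.q_ge; omega))]
      push_cast; ring
    have : (X.q : ℤ) - 2 - s = b * c - ((X.q : ℤ) ^ 2 - X.q + 1) := by linarith
    rw [this]
    exact dvd_sub (Dvd.intro_left _ rfl) hw'
  have hwpos : (0 : ℤ) < (X.q : ℤ) ^ 2 - X.q + 1 := by nlinarith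
  have hcle : c ≤ (X.q : ℤ) ^ 2 - X.q + 1 := Int.le_of_dvd hwpos hw'
  by_cases hs0 : s = 0
  · subst hs0
    rw [sub_zero] at hd
    have h3' : c ∣ 3 := by
      have e : (3 : ℤ) = (X.q : ℤ) ^ 2 - X.q + 1 - ((X.q : ℤ) - 2) * ((X.q : ℤ) + 1) := by ring
      rw [e]
      exact dvd_sub hw' (hd.mul_right _)
    have h3n : Nat.card ↥A ∣ 3 := by rw [hcdef] at h3'; exact_mod_cast h3'
    rcases (Nat.dvd_prime Nat.prime_three).1 h3n with e | e
    · omega
    · exact h3 (e ▸ dvd_rfl)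
  · by_cases hd0 : (X.q : ℤ) - 2 - s = 0
    · have : s = (X.q : ℤ) - 2 := by linarith
      subst this
      nlinarith [mul_le_mul_of_nonneg_left (show (625 : ℤ) ≤ ((X.q : ℤ) - 2) ^ 2 by nlinarith)
        (show (0 : ℤ) ≤ X.q by linarith)]
    · have hle : c ≤ |(X.q : ℤ) - 2 - s| := Int.le_of_dvd (abs_pos.2 hd0) ((dvd_abs _ _).2 hd)
      have habs : |(X.q : ℤ) - 2 - s| ≤ (X.q : ℤ) - 2 + |s| :=
        (abs_sub _ _).trans (by rw [abs_of_nonneg (by linarith : (0 : ℤ) ≤ (X.q : ℤ) - 2)])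
      have hs1 : 1 ≤ |s| := abs_pos.2 hs0
      rw [← sq_abs] at hv'
      have hs2 : 1 ≤ |s| ^ 2 := one_le_pow₀ hs1
      nlinarith [mul_le_mul_of_nonneg_right hq (sub_nonneg.2 hs2),
        mul_le_mul_of_nonneg_left hs1 (abs_nonneg s)]

end Fam

/-- `|Q'| = q` is impossible. -/
theorem Sys.derived_ne {G : Type u} [Group G] [Fintype G] {P : Type v} [Group P] (X : Sys G P) :
    Nat.card ↥(commutator ↥X.Q) ≠ X.q := fun h => by
  obtain ⟨F⟩ := X.exists_fam h
  exact F.impossible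

end Cfsg.Agent.Invol.CycTI.Ree
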