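import Cfsg.Agent.Lib.Invol.CycTI.Ree.Tori

/-!
# A group of Ree type: classes of elements of prime order
-/

set_option autoImplicit false
set_option linter.unusedSectionVars false
set_option linter.style.haveILetI false

namespace Cfsg.Agent.Invol.CycTI.Ree

open Subgroup
open scoped _root_.Classical

universe u v

namespace Sys

variable {G : Type u} [Group G] [Finite G] {P : Type v} [Group P] (X : Sys G P)

theorem card_G_m : Nat.card G = X.m * (2 * X.q ^ 3 * (X.q ^ 3 + 1)) := by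
  rw [X.S.card_G]
  show X.q ^ 3 * (X.q ^ 3 + 1) * (X.q - 1) = _
  rw [show X.q - 1 = 2 * X.m by have := X.q_m; omega]; ring

theorem card_G_r : Nat.card G = X.r * (8 * X.q ^ 3 * X.m * (X.q ^ 2 - X.q + 1)) := by
  rw [X.card_G, X.sq_sub]; ring

theorem card_G_q : Nat.card G = X.q ^ 3 * ((X.q ^ 2 - 1) * (X.q ^ 2 - X.q + 1)) := by
  rw [X.card_G]; ring

theorem prime_ne_two {p : ℕ} (hp : p.Prime) (h : p ∣ X.m ∨ p ∣ X.r) : p ≠ 2 := by
  rintro rfl
  rcases h with h | h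
  · obtain ⟨d, hd⟩ := X.m_odd; omega
  · obtain ⟨d, hd⟩ := X.r_odd; omega

theorem q_mod_m {p : ℕ} (hp : p.Prime) (h : p ∣ X.m) : ¬ p ∣ 2 * X.q ^ 3 * (X.q ^ 3 + 1) := by
  have hp2 := X.prime_ne_two hp (Or.inl h)
  haveI := Fact.mk hp
  intro h'
  have e : (X.q : ZMod p) = 1 := by
    rw [X.q_m]; push_cast [(ZMod.natCast_eq_zero_iff _ p).2 h]; ring
  have h'' := (ZMod.natCast_eq_zero_iff _ p).2 h'
  push_cast [e] at h''
  have h4 : ((4 : ℕ) : ZMod p) = 0 := by push_cast; linear_combination h''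
  exact hp2 ((Nat.prime_dvd_prime_iff_eq hp Nat.prime_two).1
    (hp.dvd_of_dvd_pow (show p ∣ 2 ^ 2 from (ZMod.natCast_eq_zero_iff _ p).1 h4)))

theorem q_mod_r {p : ℕ} (hp : p.Prime) (h : p ∣ X.r) : ¬ p ∣ 8 * X.q ^ 3 * X.m * (X.q ^ 2 - X.q + 1) := by
  have hp2 := X.prime_ne_two hp (Or.inr h)
  haveI := Fact.mk hp
  intro h'
  have hq1 : p ∣ X.q + 1 := by rw [X.q_r]; exact h.mul_left 4
  rcases hp.dvd_mul.1 h' with h' | h'
  · rcases hp.dvd_mul.1 h' with h' | h'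
    · rcases hp.dvd_mul.1 h' with h' | h'
      · exact hp2 ((Nat.prime_dvd_prime_iff_eq hp Nat.prime_two).1 (hp.dvd_of_dvd_pow (show p ∣ 2 ^ 3 from h')))
      · exact hp.not_dvd_one ((Nat.dvd_add_right (hp.dvd_of_dvd_pow h')).1 hq1)
    · have h2 : p ∣ 2 * X.m := h'.mul_left 2
      rw [X.q_m, add_assoc] at hq1
      exact hp2 ((Nat.prime_dvd_prime_iff_eq hp Nat.prime_two).1 ((Nat.dvd_add_right h2).1 hq1))
  · have hc := X.coprime_w.coprime_dvd_right (show X.q ^ 2 - 1 ∣ X.q * (X.q ^ 2 - 1) from Dvd.intro_left _ rfl)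
    have h8 : p ∣ X.q ^ 2 - 1 := by rw [X.sq_sub]; exact (h.mul_left 8).mul_right _
    exact hp.not_dvd_one (hc.gcd_eq_one ▸ Nat.dvd_gcd h' h8)

theorem prime_cases {p : ℕ} (hp : p.Prime) (h : p ∣ X.q * (X.q ^ 2 - 1)) :
    p = 2 ∨ p = 3 ∨ p ∣ X.m ∨ p ∣ X.r := by
  rcases hp.dvd_mul.1 h with h | h
  · rw [X.q_three] at h
    exact Or.inr (Or.inl ((Nat.prime_dvd_prime_iff_eq hp Nat.prime_three).1 (hp.dvd_of_dvd_pow h)))
  · rw [X.sq_sub] at h
    rcases hp.dvd_mul.1 h with h | h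
    · rcases hp.dvd_mul.1 h with h | h
      · exact Or.inl ((Nat.prime_dvd_prime_iff_eq hp Nat.prime_two).1 (hp.dvd_of_dvd_pow (show p ∣ 2 ^ 3 from h)))
      · exact Or.inr (Or.inr (Or.inr h))
    · exact Or.inr (Or.inr (Or.inl h))

theorem ne_one_of_prime {p : ℕ} (hp : p.Prime) {h : G} (ho : orderOf h = p) : h ≠ 1 := fun e => by
  rw [e, orderOf_one] at ho
  exact hp.one_lt.ne ho

theorem conj_ne_one {h c : G} (hh : h ≠ 1) : c * h * c⁻¹ ≠ 1 := fun e => hh (conj_eq_one_iff.1 e)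

theorem class_three {h : G} {n : ℕ} (ho : orderOf h = 3 ^ n) : ∃ c : G, c * h * c⁻¹ ∈ X.Q :=
  conj_into Nat.prime_three X.hc X.card_G_q (by
    intro h'
    rcases Nat.prime_three.dvd_mul.1 h' with h'' | h''
    · rw [X.sq_sub] at h''
      rcases Nat.prime_three.dvd_mul.1 h'' with h3 | h3
      · rcases Nat.prime_three.dvd_mul.1 h3 with h4 | h4
        · omega
        · exact X.S.lp.not_three_dvd_r h4
      · exact X.S.lp.not_three_dvd_m h3
    · exact Nat.prime_three.not_dvd_one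
        (X.coprime_w.gcd_eq_one ▸ Nat.dvd_gcd h'' (dvd_mul_of_dvd_left X.three_q _))) ho

theorem class_m {p : ℕ} (hp : p.Prime) (hm : p ∣ X.m) {h : G} (ho : orderOf h = p) :
    ∃ (c : G) (y : P), y ∈ X.S.lp.K.Y ∧ y ≠ 1 ∧ c * h * c⁻¹ = X.ι y := by
  obtain ⟨c, y, hy, e⟩ := conj_into hp X.S.card_Ym X.card_G_m (X.q_mod_m hp hm) (ho.trans (pow_one p).symm)
  exact ⟨c, y, hy, fun h1 => conj_ne_one (c := c) (ne_one_of_prime hp ho) (by rw [← e, h1, map_one]), e.symm⟩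

theorem class_r {p : ℕ} (hp : p.Prime) (hr : p ∣ X.r) {h : G} (ho : orderOf h = p) :
    ∃ (c : G) (y : P), y ∈ X.S.lp.D.Y ∧ y ≠ 1 ∧ c * h * c⁻¹ = X.ι y := by
  obtain ⟨c, y, hy, e⟩ := conj_into hp X.card_Zm X.card_G_r (X.q_mod_r hp hr) (ho.trans (pow_one p).symm)
  exact ⟨c, y, hy, fun h1 => conj_ne_one (c := c) (ne_one_of_prime hp ho) (by rw [← e, h1, map_one]), e.symm⟩

theorem cent_Q_le {b : G} (hb : b ∈ X.Q) (hb1 : b ≠ 1) :
    centralizer ({b} : Set G) ≤ normalizer (X.Q : Set G) := fun x hx => by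
  by_contra hxn
  refine hb1 (X.isTI x hxn b hb ?_)
  rw [mem_centralizer_singleton_iff.1 hx, mul_inv_cancel_right]
  exact hb

/-- The centraliser of a nontrivial element of the Sylow subgroup. -/
theorem cent_Q_dvd {b : G} (hb : b ∈ X.Q) (hb1 : b ≠ 1) :
    Nat.card ↥(centralizer ({b} : Set G)) ∣ 2 * X.q ^ 3 := by
  have hd := card_dvd_of_le (X.cent_Q_le hb hb1)
  rw [X.card_N, show X.q - 1 = 2 * X.m by have := X.q_m; omega,
    show X.q ^ 3 * (2 * X.m) = 2 * X.q ^ 3 * X.m by ring] at hd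
  refine Nat.Coprime.dvd_of_dvd_mul_right (Nat.coprime_of_dvd fun p hp h1 h2 => ?_) hd
  haveI := Fact.mk hp
  obtain ⟨⟨h, hh⟩, ho⟩ := exists_prime_orderOf_dvd_card' (G := ↥(centralizer ({b} : Set G))) p h1
  rw [orderOf_mk] at ho
  obtain ⟨c, y, hy, hy1, e⟩ := X.class_m hp h2 ho
  have hb' : c * b * c⁻¹ ∈ X.S.T := X.cent_ym hy hy1 (by
    rw [← e, conj_mul, conj_mul, mem_centralizer_singleton_iff.1 hh])
  have h3 : (c * b * c⁻¹) ^ (X.q - 1) = 1 := X.pow_T hb'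
  rw [conj_pow, conj_eq_one_iff] at h3
  have h' : b ^ Nat.gcd (X.q - 1) (3 ^ (3 * X.e)) = 1 := pow_gcd_eq_one.2 ⟨h3, X.pow_Q hb⟩
  rw [((Nat.prime_three.coprime_iff_not_dvd.2 X.three_not_dvd).pow_left _).symm.gcd_eq_one, pow_one] at h'
  exact hb1 h'

theorem cent_Q_card {b : G} (hb : b ∈ X.Q) (hb1 : b ≠ 1) :
    Nat.card ↥(centralizer ({b} : Set G)) ≤ 2 * X.q ^ 3 :=
  Nat.le_of_dvd (by have := X.q_ge; positivity) (X.cent_Q_dvd hb hb1)

/-- The centraliser of an element of prime order dividing `q (q² - 1)`. -/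
theorem cent_prime_dvd {p : ℕ} (hp : p.Prime) (hd : p ∣ X.q * (X.q ^ 2 - 1)) {h : G} (ho : orderOf h = p) :
    Nat.card ↥(centralizer ({h} : Set G)) ∣ (X.q * (X.q ^ 2 - 1)) ^ 3 := by
  set M := X.q * (X.q ^ 2 - 1)
  have hM : M ∣ M ^ 3 := dvd_pow_self _ (by norm_num)
  rcases X.prime_cases hp hd with rfl | rfl | hm | hr
  · obtain ⟨c, rfl⟩ := X.one_class ho
    rw [cent_conj_card, X.card_C]
    exact hM
  · obtain ⟨c, hc⟩ := X.class_three (n := 1) (by rwa [pow_one])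
    rw [← cent_conj_card c h]
    refine (X.cent_Q_dvd hc (conj_ne_one (ne_one_of_prime Nat.prime_three ho))).trans ?_
    rw [show M ^ 3 = (X.q ^ 2 - 1) ^ 3 * X.q ^ 3 by ring]
    refine Nat.mul_dvd_mul (dvd_trans ?_ (dvd_pow_self _ (by norm_num))) dvd_rfl
    rw [X.sq_sub]; exact ⟨4 * X.r * X.m, by ring⟩
  · obtain ⟨c, y, hy, hy1, e⟩ := X.class_m hp hm ho
    rw [← cent_conj_card c h, e]
    refine (card_dvd_of_le (fun x hx => X.cent_ym hy hy1 (mem_centralizer_singleton_iff.1 hx))).trans ?_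
    rw [X.card_T]
    refine dvd_trans (dvd_mul_of_dvd_right ?_ _) hM
    rw [show X.q ^ 2 - 1 = (X.q + 1) * (X.q - 1) by simpa using Nat.sq_sub_sq X.q 1]
    exact Dvd.intro_left _ rfl
  · obtain ⟨c, y, hy, hy1, e⟩ := X.class_r hp hr ho
    rw [← cent_conj_card c h, e]
    refine (card_dvd_of_le (fun x hx => X.cent_z_mem hy hy1 (mem_centralizer_singleton_iff.1 hx))).trans ?_
    rw [X.card_Cz]
    refine dvd_trans (dvd_mul_of_dvd_right ?_ _) hM
    rw [X.sq_sub]; exact ⟨2 * X.m, by ring⟩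

/-- The centraliser of an element of order prime to `q (q² - 1)` has such an order too. -/
theorem cent_coprime {g : G} (hg : g ≠ 1) (hcop : (orderOf g).Coprime (X.q * (X.q ^ 2 - 1))) :
    (Nat.card ↥(centralizer ({g} : Set G))).Coprime (X.q * (X.q ^ 2 - 1)) := by
  refine Nat.coprime_of_dvd fun p hp h1 h2 => ?_
  haveI := Fact.mk hp
  obtain ⟨⟨h, hh⟩, ho⟩ := exists_prime_orderOf_dvd_card' (G := ↥(centralizer ({g} : Set G))) p h1
  rw [orderOf_mk] at ho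
  have hgc : g ∈ centralizer ({h} : Set G) :=
    mem_centralizer_singleton_iff.2 (mem_centralizer_singleton_iff.1 hh).symm
  have hd := (Subgroup.orderOf_dvd_natCard _ hgc).trans (X.cent_prime_dvd hp h2 ho)
  exact hg (orderOf_eq_one_iff.1 (Nat.eq_one_of_dvd_coprimes (hcop.pow_right 3) dvd_rfl hd))

theorem cent_dvd_w {g : G} (hg : g ≠ 1) (hcop : (orderOf g).Coprime (X.q * (X.q ^ 2 - 1))) :
    Nat.card ↥(centralizer ({g} : Set G)) ∣ X.q ^ 2 - X.q + 1 := by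
  have hc := X.cent_coprime hg hcop
  refine ((hc.coprime_dvd_right (Dvd.intro _ rfl)).pow_right 3 |>.mul_right
    (hc.coprime_dvd_right (Dvd.intro_left _ rfl))).dvd_of_dvd_mul_left ?_
  rw [← X.card_G]
  exact card_subgroup_dvd_card _

end Sys

end Cfsg.Agent.Invol.CycTI.Ree
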