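import Cfsg.Agent.Lib.Invol.CycTI.Ree.Vanish
import Cfsg.Agent.Lib.Char.Integral
import Mathlib.Algebra.CharP.Basic

/-!
# The degree of the coherent family is `q² - 1`
-/

set_option autoImplicit false
set_option linter.unusedSectionVars false
set_option linter.style.haveILetI false

namespace Cfsg.Agent.Invol.CycTI.Ree

open Subgroup
open Cfsg
open scoped ComplexConjugate
open scoped _root_.Classical

universe u v

namespace Fam

variable {G : Type u} [Group G] [Fintype G] {P : Type v} [Group P] {X : Sys G P} (F : Fam X)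

/-- The multiplicity of a linear character of `Q` in a member. -/
noncomputable def mult (i : Fin X.q) (φ : Lin X.Q) : ℕ := (exists_mult (F.irr i) φ).choose

theorem mult_res (i : Fin X.q) (φ : Lin X.Q) :
    classInner (fn φ) (fun x : ↥X.Q => F.θ i x) = F.mult i φ := (exists_mult (F.irr i) φ).choose_spec.1

theorem mult_ind (i : Fin X.q) (φ : Lin X.Q) :
    classInner (indFun X.Q (fn φ)) (F.θ i) = F.mult i φ := (exists_mult (F.irr i) φ).choose_spec.2

theorem mult_move' (i : Fin X.q) (n) (φ : Lin X.Q) : F.mult i (move n φ) = F.mult i φ := by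
  have h := mult_move (P := X.Q) (F.classFun i) n φ
  rw [F.mult_res, F.mult_res] at h
  exact_mod_cast h

theorem inner_θ (i j : Fin X.q) : classInner (F.θ i) (F.θ j) = if i = j then 1 else 0 := by
  rw [Char.classInner_irr_eq_ite (F.irr i) (F.irr j)]
  exact if_congr F.inj.eq_iff rfl rfl

theorem mult_diff (i j k : Fin X.q) : ((F.mult k (F.rep i) : ℂ) - F.mult k (F.rep j)) =
    F.ε * ((if i = k then 1 else 0) - if j = k then 1 else 0) := by
  rw [← F.mult_ind, ← F.mult_ind, ← Char.classInner_sub_left, F.diff i j, Char.classInner_smul_left,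
    Char.classInner_sub_left, F.inner_θ, F.inner_θ]

theorem cnt_rep (i j : Fin X.q) : cnt (F.rep i) (F.rep j) = if i = j then Nat.card ↥X.Q else 0 := by
  split_ifs with h
  · subst h; exact (F.rep_free i).2
  · exact cnt_zero fun n hn => h (F.rep_inj i j ⟨n, hn⟩)

theorem commutator_move (n : ↥(normalizer (X.Q : Set G))) {x : ↥X.Q} (hx : x ∈ commutator ↥X.Q) :
    cj n x ∈ commutator ↥X.Q := by
  have h : (commutator ↥X.Q).map (cj n) ≤ commutator ↥X.Q := by
    rw [commutator_def, map_commutator]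
    exact commutator_mono le_top le_top
  exact h ⟨x, hx, rfl⟩

/-- The members agree on the derived subgroup. -/
theorem eq_R {b : ↥X.Q} (hb : b ∈ commutator ↥X.Q) (i j) : F.θ i (b : G) = F.θ j (b : G) := by
  by_cases hb1 : (b : G) = 1
  · rw [hb1]; exact F.eq_one i j
  refine F.eq_of_ind (fun a c => ind_apply_eq fun x hx => ?_) i j
  have hxN : x⁻¹ ∈ normalizer (X.Q : Set G) := by
    by_contra hn
    exact hb1 (X.isTI _ hn _ b.2 (by rwa [inv_inv]))
  have hmem : (⟨x⁻¹ * (b : G) * x, hx⟩ : ↥X.Q) ∈ commutator ↥X.Q := by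
    have h := commutator_move (X := X) ⟨x, inv_mem_iff.1 hxN⟩ hb
    rwa [show cj ⟨x, inv_mem_iff.1 hxN⟩ b = (⟨x⁻¹ * (b : G) * x, hx⟩ : ↥X.Q) from Subtype.ext (cj_coe _ _)] at h
  rw [Abelianization.commutator_subset_ker (F.rep a) hmem, Abelianization.commutator_subset_ker (F.rep c) hmem]

/-- The members vanish on `N(Q)` outside `Q`. -/
theorem zero_N (i : Fin X.q) {n : G} (hn : n ∈ normalizer (X.Q : Set G)) (hnQ : n ∉ X.Q) : F.θ i n = 0 := by
  have hd : orderOf n ∣ X.q ^ 3 * (X.q - 1) := X.card_N ▸ Subgroup.orderOf_dvd_natCard _ hn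
  by_cases h : ∃ p : ℕ, p.Prime ∧ p ∣ orderOf n ∧ p ∣ X.q - 1
  · obtain ⟨p, hp, h1, h2⟩ := h
    refine F.zero_of_not_coprime i hp h1 (h2.trans ?_)
    rw [show X.q ^ 2 - 1 = (X.q + 1) * (X.q - 1) by simpa using Nat.sq_sub_sq X.q 1]
    exact Dvd.intro_left _ rfl
  · exfalso
    push Not at h
    have hd3 := (Nat.coprime_of_dvd fun p hp h1 h2 => h p hp h1 h2).dvd_of_dvd_mul_right hd
    refine hnQ (X.three_mem (j := 3 * X.e) (orderOf_dvd_iff_pow_eq_one.1 ?_) hn)
    rwa [mul_comm 3, pow_mul, ← X.q_three]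

/-- The trivial multiplicity is a multiple of `q - 1`. -/
theorem mult_one_dvd (i : Fin X.q) : ∃ c : ℕ, F.mult i 1 = (X.q - 1) * c := by
  set N := normalizer (X.Q : Set G)
  obtain ⟨c, hc⟩ := Char.IsChar.classInner_nat (G := ↥N) Char.IsChar.one
    (Char.IsChar.res (Char.IsIrr.isCharacter (F.irr i)) N)
  refine ⟨c, ?_⟩
  have hsum : ∑ x : ↥N, conj (F.θ i (x : G)) = ∑ x : ↥X.Q, conj (F.θ i (x : G)) := by
    rw [← Finset.sum_subset (Finset.subset_univ ((Finset.univ : Finset ↥X.Q).map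
      ⟨fun x : ↥X.Q => (⟨(x : G), le_normalizer x.2⟩ : ↥N), fun a b e => Subtype.ext (congrArg (fun z : ↥N => (z : G)) e)⟩))
      (fun x _ hx => by
        rw [F.zero_N i x.2 fun hxQ => hx (Finset.mem_map.2 ⟨⟨(x : G), hxQ⟩, Finset.mem_univ _, Subtype.ext rfl⟩),
          map_zero]), Finset.sum_map]
    rfl
  have h1 := F.mult_res i 1
  simp only [classInner, fn, MonoidHom.one_apply, Units.val_one, one_mul] at h1 hc
  rw [hsum, X.card_N] at hc
  rw [X.hc] at h1
  have hq : (X.q : ℂ) ≠ 0 := Nat.cast_ne_zero.2 (by have := X.q_ge; omega)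
  have hq1 : ((X.q - 1 : ℕ) : ℂ) ≠ 0 := Nat.cast_ne_zero.2 (by have := X.q_ge; omega)
  have : ((F.mult i 1 : ℕ) : ℂ) = (((X.q - 1) * c : ℕ) : ℂ) := by
    rw [← h1, Nat.cast_mul, ← hc]
    push_cast
    field_simp
  exact_mod_cast this

theorem two_le_deg (i : Fin X.q) {D : ℕ} (hD : F.θ i 1 = D) : X.q ^ 2 - 1 ≤ D := by
  obtain ⟨D', h0, hD'⟩ := F.exists_deg i
  have : D = D' := by exact_mod_cast hD.symm.trans hD'
  subst this
  exact Nat.le_of_dvd h0 (F.dvd_deg i hD)

theorem ne_one (i : Fin X.q) : F.θ i ≠ fun _ => 1 := fun h => by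
  have h1 : F.θ i 1 = ((1 : ℕ) : ℂ) := by rw [h, Nat.cast_one]
  have h2 := F.two_le_deg i h1
  have h3 := X.sq_sub
  have := X.r_ge; have := X.m_ge
  have : 8 * 7 * 13 ≤ 8 * X.r * X.m := Nat.mul_le_mul (Nat.mul_le_mul le_rfl X.r_ge) X.m_ge
  omega

/-- The norm of `Ind_Q^G 1`. -/
theorem norm_ind_one : classInner (indFun X.Q (fn 1)) (indFun X.Q (fn 1)) = 2 * ((X.q : ℂ) - 1) := by
  rw [Char.classInner_indFun _ _ (Char.indFun_classFun _ _)]
  have hq : (X.q : ℂ) ≠ 0 := Nat.cast_ne_zero.2 (by have := X.q_ge; omega)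
  have hv : ∀ x : ↥X.Q, x ≠ 1 → indFun X.Q (fn 1) (x : G) = (X.q : ℂ) - 1 := by
    intro x hx
    rw [ind_apply_ne X.isTI _ (fun e => hx (Subtype.ext e))]
    simp only [fn, MonoidHom.one_apply, Units.val_one, Finset.sum_const, Finset.card_univ, nsmul_eq_mul, mul_one]
    rw [← Nat.card_eq_fintype_card, X.card_N, X.hc, Nat.cast_mul, Nat.cast_sub (by have := X.q_ge; omega)]
    push_cast
    field_simp
  have h1 : indFun X.Q (fn 1) ((1 : ↥X.Q) : G) = ((X.q : ℂ) ^ 3 + 1) * ((X.q : ℂ) - 1) := by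
    rw [Subgroup.coe_one, Char.indFun_one_eq]
    simp only [fn, MonoidHom.one_apply, Units.val_one, mul_one]
    have hi : X.Q.index = (X.q ^ 3 + 1) * (X.q - 1) := by
      refine Nat.eq_of_mul_eq_mul_left (show 0 < X.q ^ 3 from pow_pos (by have := X.q_ge; omega) 3) ?_
      have h := X.Q.card_mul_index
      rw [X.hc, X.S.card_G] at h
      rw [← mul_assoc]
      exact h
    rw [hi]
    push_cast [Nat.cast_sub (show 1 ≤ X.q by have := X.q_ge; omega)]
    ring
  simp only [classInner]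
  rw [← Finset.add_sum_erase _ _ (Finset.mem_univ (1 : ↥X.Q)), h1,
    Finset.sum_congr rfl (fun x hx => by rw [hv x (Finset.ne_of_mem_erase hx)]), X.hc]
  simp only [fn, MonoidHom.one_apply, Units.val_one, one_mul]
  rw [Finset.sum_const, Finset.card_erase_of_mem (Finset.mem_univ _), Finset.card_univ, ← Nat.card_eq_fintype_card,
    X.hc, nsmul_eq_mul, Nat.cast_sub (Nat.one_le_pow 3 X.q (by have := X.q_ge; omega))]
  simp only [map_mul, map_add, map_sub, map_pow, map_natCast, map_one]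
  push_cast
  field_simp
  ring

/-- The trivial character does not occur. -/
theorem mult_one (i : Fin X.q) : F.mult i 1 = 0 := by
  obtain ⟨c, hc⟩ := F.mult_one_dvd i
  by_contra hne
  have hc1 : 1 ≤ c := Nat.one_le_iff_ne_zero.2 fun h => hne (by rw [hc, h, mul_zero])
  have hb := bessel {i} F.θ (fun j _ => F.irr j) F.inj.injOn (indFun X.Q (fn 1))
  rw [Finset.sum_singleton, F.mult_ind, norm_ind_one, Complex.norm_natCast] at hb
  simp at hb
  rw [hc] at hb
  have hq : (27 : ℝ) ≤ X.q := by exact_mod_cast X.q_ge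
  push_cast [Nat.cast_sub (show 1 ≤ X.q by have := X.q_ge; omega)] at hb
  have hcr : (1 : ℝ) ≤ c := by exact_mod_cast hc1
  nlinarith [mul_le_mul_of_nonneg_left hcr (by linarith : (0 : ℝ) ≤ (X.q : ℝ) - 1)]

/-- Two positions in the family. -/
def i₀ : Fin X.q := ⟨0, by have := X.q_ge; omega⟩

/-- Two positions in the family. -/
def i₁ : Fin X.q := ⟨1, by have := X.q_ge; omega⟩

theorem i₁_ne : (i₁ : Fin X.q) ≠ i₀ := by simp [i₀, i₁, Fin.ext_iff]

theorem inner_E (φ ψ : Lin X.Q) :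
    classInner (indFun X.Q (fn φ) - indFun X.Q (fn ψ)) (indFun X.Q (fn φ) - indFun X.Q (fn ψ)) =
      (Nat.card ↥X.Q : ℂ)⁻¹ * ((cnt φ φ : ℂ) - cnt φ ψ - cnt ψ φ + cnt ψ ψ) :=
  ind_inner X.isTI φ ψ φ ψ

theorem inner_const (φ : Lin X.Q) (i j : Fin X.q) (hi : ∀ n, move n (F.rep i) ≠ φ)
    (hj : ∀ n, move n (F.rep j) ≠ φ) (hi0 : i ≠ i₀) (hj0 : j ≠ i₀) :
    (F.mult i φ : ℂ) - F.mult i (F.rep i₀) = (F.mult j φ : ℂ) - F.mult j (F.rep i₀) := by
  have h := ind_inner X.isTI φ (F.rep i₀) (F.rep i) (F.rep j)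
  rw [cnt_zero hi, cnt_zero hj, F.cnt_rep, F.cnt_rep, if_neg (Ne.symm hi0), if_neg (Ne.symm hj0)] at h
  simp only [Nat.cast_zero, sub_zero, add_zero, mul_zero] at h
  rw [F.diff i j, Char.classInner_smul_right, mul_eq_zero, Char.classInner_sub_right, sub_eq_zero,
    Char.classInner_sub_left, Char.classInner_sub_left, F.mult_ind, F.mult_ind, F.mult_ind, F.mult_ind] at h
  exact h.resolve_left (by simpa using F.eps_ne)

/-- The first representative occurs in no other member. -/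
theorem mult_rep0 (k : Fin X.q) (hk : k ≠ i₀) : F.mult k (F.rep i₀) = 0 := by
  set φ₀ := F.rep i₀
  set E := indFun X.Q (fn 1) - indFun X.Q (fn φ₀) with hE
  have h01 : ∀ i n, move n (F.rep i) ≠ 1 := fun i n h => (F.rep_free i).1 (by
    rw [← move_inv_move n (F.rep i), h, move_triv])
  have hEi : ∀ i, i ≠ i₀ → classInner E (F.θ i) = -(F.mult k φ₀ : ℂ) := fun i hi => by
    have h := F.inner_const 1 i k (h01 i) (h01 k) hi hk
    rw [F.mult_one, F.mult_one, Nat.cast_zero, zero_sub, zero_sub] at h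
    rw [hE, Char.classInner_sub_left, F.mult_ind, F.mult_ind, F.mult_one, Nat.cast_zero, zero_sub]
    exact h
  have hE1 : classInner E (fun _ => 1) = 1 := by
    rw [hE, Char.classInner_sub_left, Char.classInner_indFun _ _ (Char.IsIrr.classFun Char.isIrr_one),
      Char.classInner_indFun _ _ (Char.IsIrr.classFun Char.isIrr_one),
      show (fun _ : ↥X.Q => (1 : ℂ)) = fn (1 : Lin X.Q) from funext fun _ => by simp [fn],
      inner_fn, inner_fn, if_pos rfl, if_neg (F.rep_free i₀).1, sub_zero]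
  have hEE : classInner E E = (X.q : ℂ) := by
    rw [hE, inner_E, cnt_one, (F.rep_free i₀).2, cnt_zero (h01 i₀),
      cnt_zero (fun n h => (F.rep_free i₀).1 ((move_triv n).symm.trans h).symm), X.card_N, X.hc]
    have hq : (X.q : ℂ) ≠ 0 := Nat.cast_ne_zero.2 (by have := X.q_ge; omega)
    push_cast [Nat.cast_sub (show 1 ≤ X.q by have := X.q_ge; omega)]
    field_simp
    ring
  by_contra hne
  have ha : (1 : ℝ) ≤ (F.mult k φ₀ : ℝ) := by exact_mod_cast Nat.one_le_iff_ne_zero.2 hne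
  let g : Option (Fin X.q) → G → ℂ := fun o => o.elim (fun _ => 1) F.θ
  set s : Finset (Option (Fin X.q)) := Finset.univ.erase (some i₀) with hs
  have hg : ∀ o ∈ s, IsIrrCharacter G (g o) := fun o _ => by
    cases o
    · exact Char.isIrr_one
    · exact F.irr _
  have hginj : Set.InjOn g s := by
    rintro (_ | a) _ (_ | b) _ h
    · rfl
    · exact absurd h.symm (F.ne_one b)
    · exact absurd h (F.ne_one a)
    · exact congrArg some (F.inj h)
  have hterm : ∀ o ∈ s, classInner E (g o) = if o = none then 1 else -(F.mult k φ₀ : ℂ) := fun o ho => by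
    cases o with
    | none => exact hE1
    | some a =>
      rw [if_neg (by simp)]
      exact hEi a fun h => Finset.ne_of_mem_erase ho (by rw [h])
  have hscard : s.card = X.q := by
    rw [hs, Finset.card_erase_of_mem (Finset.mem_univ _), Finset.card_univ, Fintype.card_option, Fintype.card_fin]
    simp
  have hsum : (X.q : ℝ) ≤ ∑ o ∈ s, ‖classInner E (g o)‖ ^ 2 := by
    refine le_trans (le_of_eq (?_ : (X.q : ℝ) = s.card • (1 : ℝ))) (Finset.card_nsmul_le_sum s _ 1 fun o ho => ?_)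
    · rw [nsmul_one, hscard]
    rw [hterm o ho]
    split_ifs
    · simp
    · rw [norm_neg, Complex.norm_natCast]
      nlinarith
  have heq := bessel_eq s g hg hginj E (by rw [hEE, Complex.natCast_re]; exact hsum)
  have hval := congrFun heq 1
  have hE10 : E 1 = 0 := by rw [hE, Pi.sub_apply, diff_one 1 φ₀, sub_self]
  rw [hE10, Finset.sum_apply] at hval
  obtain ⟨D, hD0, hD⟩ := F.exists_deg i₀
  have hD' : ∀ i, F.θ i 1 = (D : ℂ) := fun i => (F.eq_one i i₀).trans hD
  have hnone : (none : Option (Fin X.q)) ∈ s := by simp [hs]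
  rw [← Finset.add_sum_erase _ _ hnone, Pi.smul_apply, hterm none hnone, if_pos rfl, smul_eq_mul,
    Finset.sum_congr rfl (fun o ho => show (classInner E (g o) • g o) 1 = -((F.mult k φ₀ * D : ℕ) : ℂ) by
      obtain ⟨ho1, ho2⟩ := Finset.mem_erase.1 ho
      cases o with
      | none => exact absurd rfl ho1
      | some a =>
        rw [Pi.smul_apply, hterm _ ho2, if_neg (by simp), smul_eq_mul]
        show _ * F.θ a 1 = _
        rw [hD']; push_cast; ring),
    Finset.sum_const, Finset.card_erase_of_mem hnone, hscard, nsmul_eq_mul] at hval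
  have h2 : (((X.q - 1) * (F.mult k φ₀ * D) : ℕ) : ℂ) = ((1 : ℕ) : ℂ) := by
    push_cast at hval ⊢
    simp only [g, Option.elim] at hval
    linear_combination hval
  have h3 : (X.q - 1) * (F.mult k φ₀ * D) = 1 := by exact_mod_cast h2
  have := Nat.eq_one_of_mul_eq_one_right h3
  have := X.q_ge
  omega

/-- The linear constituents of a member form one orbit. -/
theorem mult_zero (φ : Lin X.Q) (hφ : ∀ n, move n (F.rep i₁) ≠ φ) : F.mult i₁ φ = 0 := by
  by_cases h1 : φ = 1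
  · rw [h1]; exact F.mult_one _
  set φ₀ := F.rep i₀
  set E := indFun X.Q (fn φ) - indFun X.Q (fn φ₀) with hE
  set I := Finset.univ.filter fun i : Fin X.q => i ≠ i₀ ∧ ∀ n, move n (F.rep i) ≠ φ
  have hI : X.q - 2 ≤ I.card := by
    have h1' : (Finset.univ.filter fun i : Fin X.q => ∃ n, move n (F.rep i) = φ).card ≤ 1 := by
      refine Finset.card_le_one.2 fun i hi j hj => ?_
      obtain ⟨n, hn⟩ := (Finset.mem_filter.1 hi).2
      obtain ⟨n', hn'⟩ := (Finset.mem_filter.1 hj).2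
      exact F.rep_inj i j ⟨n⁻¹ * n', by rw [move_mul, hn', ← hn, move_inv_move]⟩
    have hsub : (Finset.univ : Finset (Fin X.q)) ⊆
        insert i₀ (I ∪ Finset.univ.filter fun i : Fin X.q => ∃ n, move n (F.rep i) = φ) := by
      intro i _
      simp only [Finset.mem_insert, Finset.mem_union, I, Finset.mem_filter, Finset.mem_univ, true_and]
      by_cases h0 : i = i₀
      · exact Or.inl h0
      by_cases hh : ∃ n, move n (F.rep i) = φ
      · exact Or.inr (Or.inr hh)
      · exact Or.inr (Or.inl ⟨h0, fun n hn => hh ⟨n, hn⟩⟩)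
    have h := (Finset.card_le_card hsub).trans ((Finset.card_insert_le _ _).trans
      (Nat.add_le_add_right (Finset.card_union_le _ _) 1))
    rw [Finset.card_univ, Fintype.card_fin] at h
    omega
  have hEi : ∀ i ∈ I, classInner E (F.θ i) = (F.mult i₁ φ : ℂ) := fun i hi => by
    obtain ⟨-, hi0, hi'⟩ := Finset.mem_filter.1 hi
    have h := F.inner_const φ i i₁ hi' hφ hi0 i₁_ne
    rw [hE, Char.classInner_sub_left, F.mult_ind, F.mult_ind, h, F.mult_rep0 _ i₁_ne, Nat.cast_zero, sub_zero]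
  have hb := bessel I F.θ (fun i _ => F.irr i) F.inj.injOn E
  rw [Finset.sum_congr rfl (fun i hi => by rw [hEi i hi, Complex.norm_natCast]), Finset.sum_const, nsmul_eq_mul] at hb
  have hEE : classInner E E = ((((cnt φ φ : ℝ) - cnt φ φ₀ - cnt φ₀ φ + cnt φ₀ φ₀) / Nat.card ↥X.Q : ℝ) : ℂ) := by
    rw [hE, inner_E]
    push_cast
    ring
  rw [hEE, Complex.ofReal_re] at hb
  have hQ : (0 : ℝ) < Nat.card ↥X.Q := by exact_mod_cast Nat.card_pos
  have hle : ((cnt φ φ : ℝ) - cnt φ φ₀ - cnt φ₀ φ + cnt φ₀ φ₀) / Nat.card ↥X.Q ≤ 3 := by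
    rw [div_le_iff₀ hQ]
    have e1 : (cnt φ φ : ℝ) ≤ 2 * Nat.card ↥X.Q := by exact_mod_cast X.cnt_le_two h1
    have e2 : (cnt φ₀ φ₀ : ℝ) = Nat.card ↥X.Q := by exact_mod_cast (F.rep_free i₀).2
    have := Nat.cast_nonneg (α := ℝ) (cnt φ φ₀)
    have := Nat.cast_nonneg (α := ℝ) (cnt φ₀ φ)
    linarith
  by_contra hne
  have hm1 : (1 : ℝ) ≤ (F.mult i₁ φ : ℝ) := by exact_mod_cast Nat.one_le_iff_ne_zero.2 hne
  have hI' : (25 : ℝ) ≤ I.card := by exact_mod_cast (show 25 ≤ I.card by have := X.q_ge; omega)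
  nlinarith [mul_le_mul hm1 hm1 zero_le_one (by linarith)]

theorem mult_own : F.mult i₁ (F.rep i₁) = 1 := by
  have h := F.mult_diff i₁ i₀ i₁
  rw [if_pos rfl, if_neg (Ne.symm i₁_ne), F.mult_rep0 _ i₁_ne, Nat.cast_zero, sub_zero, sub_zero, mul_one] at h
  rcases F.hε with e | e <;> rw [e] at h
  · exact_mod_cast h
  · exfalso
    have h' : (((F.mult i₁ (F.rep i₁) + 1 : ℕ)) : ℂ) = 0 := by push_cast; rw [h]; ring
    exact Nat.succ_ne_zero (F.mult i₁ (F.rep i₁)) (by exact_mod_cast h')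

theorem sum_mult [Fintype (Lin X.Q)] : ∑ φ : Lin X.Q, F.mult i₁ φ = X.q - 1 := by
  set O := Finset.univ.image fun n => move n (F.rep i₁)
  rw [← Finset.sum_subset (Finset.subset_univ O) fun φ _ hφ => F.mult_zero φ fun n hn =>
      hφ (Finset.mem_image.2 ⟨n, Finset.mem_univ _, hn⟩),
    Finset.sum_congr rfl (fun φ hφ => show F.mult i₁ φ = 1 by
      obtain ⟨n, -, rfl⟩ := Finset.mem_image.1 hφ
      rw [F.mult_move', F.mult_own]), Finset.sum_const, smul_eq_mul, mul_one]
  have h := card_orbit_mul (F.rep i₁)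
  rw [(F.rep_free i₁).2, X.card_N, X.hc, mul_comm (X.q ^ 3)] at h
  exact Nat.eq_of_mul_eq_mul_right (pow_pos (show 0 < X.q by have := X.q_ge; omega) 3) h

/-- The sum over the derived subgroup. -/
theorem sum_R : ∑ x ∈ (Finset.univ : Finset ↥X.Q).filter (fun x => x ∈ commutator ↥X.Q), conj (F.θ i₁ (x : G)) =
    ((X.q * (X.q - 1) : ℕ) : ℂ) := by
  haveI : Finite (Lin X.Q) := finite_lin
  haveI : Fintype (Lin X.Q) := Fintype.ofFinite _
  have h : ∑ φ : Lin X.Q, classInner (fn φ) (fun x : ↥X.Q => F.θ i₁ x) = ((X.q - 1 : ℕ) : ℂ) := by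
    rw [Finset.sum_congr rfl (fun φ _ => F.mult_res i₁ φ), ← Nat.cast_sum, F.sum_mult]
  simp only [classInner] at h
  rw [← Finset.mul_sum, Finset.sum_comm] at h
  have h' : ∑ x : ↥X.Q, ∑ φ : Lin X.Q, fn φ x * conj (F.θ i₁ (x : G)) =
      (Nat.card (Lin X.Q) : ℂ) *
        ∑ x ∈ (Finset.univ : Finset ↥X.Q).filter (fun x => x ∈ commutator ↥X.Q), conj (F.θ i₁ (x : G)) := by
    rw [Finset.sum_filter, Finset.mul_sum]
    refine Finset.sum_congr rfl fun x _ => ?_
    rw [← Finset.sum_mul, show (∑ φ : Lin X.Q, fn φ x) = ∑ φ : Lin X.Q, (φ x : ℂ) from rfl, sum_lin x]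
    split_ifs <;> simp
  rw [h', X.card_lin_Q F.hR, X.hc] at h
  have hq : (X.q : ℂ) ≠ 0 := Nat.cast_ne_zero.2 (by have := X.q_ge; omega)
  push_cast at h ⊢
  field_simp at h
  linear_combination h

/-- The degree is congruent to `q - 1` modulo three. -/
theorem deg_mod {D : ℕ} (hD : F.θ i₁ 1 = D) : D % 3 = (X.q - 1) % 3 := by
  haveI : Finite (Lin X.Q) := finite_lin
  haveI : Fintype (Lin X.Q) := Fintype.ofFinite _
  obtain ⟨a, ha, hsum⟩ := Char.IsChar.exists_decomp_inner (Char.IsChar.res (Char.IsIrr.isCharacter (F.irr i₁)) X.Q)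
  choose d hd0 hd using fun χ : IrrCharacter ↥X.Q => Char.IsIrr.one_eq_pos χ.2
  have hDsum : D = ∑ χ, a χ * d χ := by
    have h : F.θ i₁ ((1 : ↥X.Q) : G) = ∑ χ, ((a χ * d χ : ℕ) : ℂ) := by
      refine (congrFun hsum 1).trans ?_
      rw [Finset.sum_apply]
      exact Finset.sum_congr rfl fun χ _ => by rw [Pi.smul_apply, smul_eq_mul, hd χ, Nat.cast_mul]
    rw [Subgroup.coe_one, hD] at h
    exact_mod_cast h
  let em : Lin X.Q → IrrCharacter ↥X.Q := fun φ => ⟨fn φ, isIrr_fn φ⟩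
  have hem : Function.Injective em := fun _ _ e => fn_inj (congrArg Subtype.val e)
  have hzero : ∀ χ ∈ (Finset.univ : Finset (IrrCharacter ↥X.Q)), χ ∉ Finset.univ.image em →
      ((a χ * d χ : ℕ) : ZMod 3) = 0 := by
    intro χ _ hχ
    refine (ZMod.natCast_eq_zero_iff _ 3).2 (dvd_mul_of_dvd_right ?_ _)
    have hdvd := Char.IsIrr.degree_dvd_card χ.2 (hd χ)
    rw [X.hc, X.S.lp.hqe, ← pow_mul] at hdvd
    obtain ⟨j, -, hj⟩ := (Nat.dvd_prime_pow Nat.prime_three).1 hdvd
    rcases Nat.eq_zero_or_pos j with h0 | h0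
    · exfalso
      obtain ⟨l, hl⟩ := Char.linearHom_of_isCharacter (Char.IsIrr.isCharacter χ.2)
        (by rw [hd χ, hj, h0, pow_zero, Nat.cast_one])
      exact hχ (Finset.mem_image.2 ⟨l, Finset.mem_univ _, Subtype.ext hl.symm⟩)
    · exact hj ▸ dvd_pow_self 3 h0.ne'
  have hterm : ∀ φ : Lin X.Q, a (em φ) * d (em φ) = F.mult i₁ φ := fun φ => by
    have h1 : d (em φ) = 1 := by
      have e := (hd (em φ)).symm
      simp only [em, fn, map_one, Units.val_one] at e
      exact_mod_cast e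
    have h2 : (a (em φ) : ℂ) = F.mult i₁ φ := by
      rw [← ha (em φ), ← Char.classInner_conj_symm, F.mult_res, map_natCast]
    rw [h1, mul_one]
    exact_mod_cast h2
  have h3 : (D : ZMod 3) = ((X.q - 1 : ℕ) : ZMod 3) := by
    rw [hDsum, Nat.cast_sum, ← Finset.sum_subset (Finset.subset_univ (Finset.univ.image em)) hzero,
      Finset.sum_image fun _ _ _ _ e => hem e, Finset.sum_congr rfl (fun φ _ => by rw [hterm φ]), ← Nat.cast_sum,
      F.sum_mult]
  exact (ZMod.natCast_eq_natCast_iff _ _ 3).1 h3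

/-- The degree is `q² - 1`. -/
theorem deg_eq {D : ℕ} (hD : F.θ i₁ 1 = D) : D = X.q ^ 2 - 1 := by
  set R := (Finset.univ : Finset ↥X.Q).filter (fun x => x ∈ commutator ↥X.Q) with hRdef
  have h1R : (1 : ↥X.Q) ∈ R := Finset.mem_filter.2 ⟨Finset.mem_univ _, one_mem _⟩
  have hRc : R.card = X.q := by
    rw [hRdef, ← Fintype.card_subtype, ← Nat.card_eq_fintype_card]
    exact F.hR
  have hq := X.q_ge
  have hb : ∀ x ∈ R.erase 1, ‖conj (F.θ i₁ (x : G))‖ ≤ (3 / 2 : ℝ) * X.q := by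
    intro x hx
    obtain ⟨hx1, hxR⟩ := Finset.mem_erase.1 hx
    rw [RCLike.norm_conj]
    have h := F.value_bound (fun i => F.eq_R (Finset.mem_filter.1 hxR).2 i i₁)
      (X.cent_Q_card x.2 fun e => hx1 (Subtype.ext e))
    push_cast at h
    have hq' : (0 : ℝ) < X.q := by exact_mod_cast (show 0 < X.q by omega)
    have h2 : ‖F.θ i₁ (x : G)‖ ^ 2 ≤ 2 * (X.q : ℝ) ^ 2 := le_of_mul_le_mul_left (h.trans (le_of_eq (by ring))) hq'
    nlinarith [norm_nonneg (F.θ i₁ (x : G))]
  have hsum := F.sum_R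
  rw [← Finset.add_sum_erase _ _ h1R, Subgroup.coe_one, hD, map_natCast] at hsum
  have hDle : (D : ℝ) ≤ ((X.q * (X.q - 1) : ℕ) : ℝ) + ((X.q : ℝ) - 1) * ((3 / 2 : ℝ) * X.q) := by
    have e : (D : ℂ) = ((X.q * (X.q - 1) : ℕ) : ℂ) - ∑ x ∈ R.erase 1, conj (F.θ i₁ (x : G)) := by
      rw [← hsum]; ring
    have h := norm_sub_le ((X.q * (X.q - 1) : ℕ) : ℂ) (∑ x ∈ R.erase 1, conj (F.θ i₁ (x : G)))
    rw [← e, Complex.norm_natCast, Complex.norm_natCast] at h
    refine h.trans (add_le_add le_rfl ((norm_sum_le _ _).trans ((Finset.sum_le_sum hb).trans (le_of_eq ?_))))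
    rw [Finset.sum_const, Finset.card_erase_of_mem h1R, hRc, nsmul_eq_mul,
      Nat.cast_sub (show 1 ≤ X.q by omega)]
    norm_num
  obtain ⟨j, hj⟩ := F.dvd_deg i₁ hD
  have hq2 : 1 ≤ X.q ^ 2 := Nat.one_le_pow _ _ (by omega)
  have hj3 : j < 3 := by
    by_contra hge
    have h3 : (3 : ℝ) ≤ j := by exact_mod_cast (not_lt.1 hge)
    rw [hj] at hDle
    push_cast [Nat.cast_sub hq2, Nat.cast_sub (show 1 ≤ X.q by omega)] at hDle
    have h27 : (27 : ℝ) ≤ X.q := by exact_mod_cast hq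
    nlinarith [mul_le_mul_of_nonneg_left h3 (by nlinarith : (0 : ℝ) ≤ (X.q : ℝ) ^ 2 - 1)]
  have hmod := F.deg_mod hD
  have h3q := X.three_q
  have hsq : X.q ^ 2 % 3 = 0 := Nat.mod_eq_zero_of_dvd (dvd_pow h3q (by norm_num))
  have hj1 : j = 1 := by
    rw [hj] at hmod
    obtain ⟨D', h0, hD'⟩ := F.exists_deg i₁
    have : D = D' := by exact_mod_cast hD.symm.trans hD'
    subst this
    interval_cases j
    · rw [mul_zero] at hj; omega
    · rfl
    · omega
  rw [hj, hj1, mul_one]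

end Fam

end Cfsg.Agent.Invol.CycTI.Ree
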