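import Mathlib

/-!
Fixed point free linear maps of order dividing `m = (3^e - 1)/2` in dimension `e` over the field with three
elements: over the algebraic closure the eigenvalues are one Frobenius orbit of a primitive `m`-th root of unity.
-/

set_option autoImplicit false
set_option linter.unusedSectionVars false
set_option linter.style.haveILetI false

namespace Cfsg.Agent.Invol.CycTI.Ree.Weights

open scoped _root_.Classical

universe u

/-- The algebraic closure of the field with three elements. -/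
abbrev K := AlgebraicClosure (ZMod 3)

/-- The embedding of the prime field. -/
noncomputable abbrev emb : ZMod 3 →+* K := algebraMap (ZMod 3) K

theorem bound {e m d : ℕ} (hm : 2 * m + 1 = 3 ^ e) (he : 2 ≤ e) (hd : d < e) : 3 ^ d < m := by
  obtain ⟨f, rfl⟩ : ∃ f, e = f + 1 := ⟨e - 1, by omega⟩
  have h := Nat.pow_le_pow_right (show 0 < 3 by norm_num) (show d ≤ f by omega)
  have h3 : 3 ≤ 3 ^ f := Nat.le_self_pow (by omega) 3
  rw [pow_succ] at hm
  omega

theorem three_coprime {e m : ℕ} (hm : 2 * m + 1 = 3 ^ e) (he : 1 ≤ e) (n : ℕ) : m.Coprime (3 ^ n) := by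
  refine (Nat.Coprime.pow_left n (Nat.prime_three.coprime_iff_not_dvd.2 fun h => ?_)).symm
  have : 3 ∣ 3 ^ e := dvd_pow_self 3 (by omega)
  omega

/-- Two powers `3^i`, `3^j` of an element of order `m` coincide only for `i = j`. -/
theorem frob_inj {M : Type*} [Monoid M] {e m : ℕ} (hm : 2 * m + 1 = 3 ^ e) (he : 2 ≤ e) {x : M} (hx : orderOf x = m)
    {i j : ℕ} (hi : i < e) (hj : j < e) (h : x ^ 3 ^ i = x ^ 3 ^ j) : i = j := by
  have hfin : IsOfFinOrder x := orderOf_pos_iff.1 (by rw [hx]; exact lt_of_le_of_lt (Nat.zero_le _) (bound hm he hi))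
  rw [hfin.pow_eq_pow_iff_modEq, hx, Nat.ModEq, Nat.mod_eq_of_lt (bound hm he hi), Nat.mod_eq_of_lt (bound hm he hj)] at h
  exact Nat.pow_right_injective (by norm_num) h

theorem frob_periodic {M : Type*} [Monoid M] {e m : ℕ} (hm : 2 * m + 1 = 3 ^ e) {x : M} (hx : orderOf x = m)
    (a : ℕ) : x ^ 3 ^ a = x ^ 3 ^ (a % e) := by
  have h1 : x ^ 3 ^ e = x := by
    rw [← hm, pow_succ, pow_mul', ← hx, pow_orderOf_eq_one, one_pow, one_mul]
  conv_lhs => rw [← Nat.mod_add_div a e, pow_add, pow_mul]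
  have key : ∀ n k : ℕ, (x ^ n) ^ 3 ^ (e * k) = x ^ n := by
    intro n k
    induction k with
    | zero => simp
    | succ k ih => rw [Nat.mul_succ, pow_add, pow_mul, ih, ← pow_mul, mul_comm, pow_mul, h1]
  exact key _ _

/-- The eigenbasis. -/
structure Orbit {e : ℕ} (f : (Fin e → K) →ₗ[K] (Fin e → K)) (m : ℕ) where
  /-- the eigenvalue -/
  root : K
  /-- the eigenvectors -/
  vec : Module.Basis (Fin e) K (Fin e → K)
  order : orderOf root = m
  eig : ∀ i : Fin e, f (vec i) = root ^ 3 ^ (i : ℕ) • vec i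

/-- An eigenvalue is one of the conjugates. -/
theorem Orbit.eigenvalue {e m : ℕ} {f : (Fin e → K) →ₗ[K] (Fin e → K)} (O : Orbit f m) {μ : K} {v : Fin e → K}
    (hv : v ≠ 0) (h : f v = μ • v) : ∃ i : Fin e, μ = O.root ^ 3 ^ (i : ℕ) := by
  obtain ⟨i, hi⟩ : ∃ i, O.vec.repr v i ≠ 0 := by
    by_contra hh
    push Not at hh
    exact hv (O.vec.repr.map_eq_zero_iff.1 (Finsupp.ext hh))
  refine ⟨i, ?_⟩
  have hexp : f v = ∑ j, (O.vec.repr v j * O.root ^ 3 ^ (j : ℕ)) • O.vec j := by
    conv_lhs => rw [← O.vec.sum_repr v, map_sum]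
    exact Finset.sum_congr rfl fun j _ => by rw [map_smul, O.eig, smul_smul]
  have h2 := congrArg (fun w => O.vec.repr w i) (hexp.symm.trans h)
  simp only [O.vec.repr_sum_self, map_smul, Finsupp.smul_apply, smul_eq_mul] at h2
  exact (mul_right_cancel₀ hi (h2.symm.trans (mul_comm _ _))).symm ▸ rfl

/-- The base change of a matrix. -/
noncomputable def baseMap {e : ℕ} (M : Matrix (Fin e) (Fin e) (ZMod 3)) : (Fin e → K) →ₗ[K] (Fin e → K) :=
  Matrix.toLin' (M.map emb)

/-- A fixed point free matrix of order dividing `m` has an eigenbasis. -/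
theorem exists_orbit {e m : ℕ} (hm : 2 * m + 1 = 3 ^ e) (he : 2 ≤ e) (M : Matrix (Fin e) (Fin e) (ZMod 3))
    (hM : M ^ m = 1) (hfree : ∀ k, 0 < k → k < m → ∀ v, (M ^ k).mulVec v = v → v = 0) :
    Nonempty (Orbit (baseMap M) m) := by
  haveI : Nonempty (Fin e) := ⟨⟨0, by omega⟩⟩
  haveI : Fact (Nat.Prime 3) := ⟨Nat.prime_three⟩
  haveI : CharP K 3 := charP_of_injective_algebraMap emb.injective 3
  set MK := M.map emb with hMK
  obtain ⟨μ, hμ⟩ := Module.End.exists_eigenvalue (baseMap M)
  obtain ⟨v, hv⟩ := hμ.exists_hasEigenvector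
  have hv' : MK.mulVec v = μ • v := by
    have h := hv.apply_eq_smul
    rwa [baseMap, Matrix.toLin'_apply] at h
  have hpow : ∀ k, (MK ^ k).mulVec v = μ ^ k • v := by
    intro k
    induction k with
    | zero => simp
    | succ k ih => rw [pow_succ, ← Matrix.mulVec_mulVec, hv', Matrix.mulVec_smul, ih, smul_smul, mul_comm,
        ← pow_succ]
  have hmap : ∀ k, MK ^ k = (M ^ k).map emb := fun k => (map_pow emb.mapMatrix M k).symm
  have hμm : μ ^ m = 1 := by
    have h := hpow m
    rw [hmap, hM, Matrix.map_one emb (map_zero _) (map_one _), Matrix.one_mulVec] at h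
    by_contra hne
    refine hv.2 ?_
    have h2 : (μ ^ m - 1) • v = 0 := by rw [sub_smul, one_smul, ← h, sub_self]
    exact (smul_eq_zero.1 h2).resolve_left (sub_ne_zero.2 hne)
  have hprim : ∀ k, 0 < k → k < m → μ ^ k ≠ 1 := by
    intro k hk hkm hone
    have hdet : ((M ^ k - 1).map emb).det = 0 := by
      refine Matrix.exists_mulVec_eq_zero_iff.1 ⟨v, hv.2, ?_⟩
      rw [Matrix.map_sub emb (map_sub emb), Matrix.map_one emb (map_zero _) (map_one _), ← hmap, Matrix.sub_mulVec,
        Matrix.one_mulVec, hpow, hone, one_smul, sub_self]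
    rw [← RingHom.mapMatrix_apply, ← RingHom.map_det, map_eq_zero] at hdet
    obtain ⟨w, hw, hw'⟩ := Matrix.exists_mulVec_eq_zero_iff.2 hdet
    rw [Matrix.sub_mulVec, Matrix.one_mulVec, sub_eq_zero] at hw'
    exact hw (hfree k hk hkm w hw')
  have hord : orderOf μ = m := by
    have hm0 : 0 < m := by have := bound hm he (show 0 < e by omega); omega
    exact (orderOf_eq_iff hm0).2 ⟨hμm, fun k hkm hk => hprim k hk hkm⟩
  let vs : Fin e → Fin e → K := fun i j => v j ^ 3 ^ (i : ℕ)
  have hvs : ∀ i : Fin e, Module.End.HasEigenvector (baseMap M) (μ ^ 3 ^ (i : ℕ)) (vs i) := by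
    intro i
    refine ⟨Module.End.mem_eigenspace_iff.2 ?_, ?_⟩
    · rw [baseMap, Matrix.toLin'_apply]
      let φ : K →+* K := iterateFrobenius K 3 i
      have hφ : ∀ x : K, φ x = x ^ 3 ^ (i : ℕ) := fun x => iterateFrobenius_def _ _ _
      have hfix : ∀ x : ZMod 3, φ (emb x) = emb x := fun x => by
        rw [hφ, ← map_pow, ZMod.pow_card_pow]
      have hMφ : MK.map φ = MK := Matrix.ext fun a b => hfix (M a b)
      funext j
      have h := RingHom.map_mulVec φ MK v j
      rw [hMφ, hv', Pi.smul_apply, smul_eq_mul, map_mul, hφ, hφ] at h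
      rw [Pi.smul_apply, smul_eq_mul]
      show (MK.mulVec fun j => v j ^ 3 ^ (i : ℕ)) j = _
      rw [show (fun j => v j ^ 3 ^ (i : ℕ)) = φ ∘ v from funext fun a => (hφ _).symm]
      exact h.symm
    · intro h0
      refine hv.2 (funext fun j => ?_)
      exact eq_zero_of_pow_eq_zero (congrFun h0 j)
  have hinj : Function.Injective fun i : Fin e => μ ^ 3 ^ (i : ℕ) := fun a b h =>
    Fin.ext (frob_inj hm he hord a.2 b.2 h)
  have hli := Module.End.eigenvectors_linearIndependent' (baseMap M) _ hinj vs hvs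
  let E := basisOfLinearIndependentOfCardEqFinrank hli (by rw [Module.finrank_fin_fun, Fintype.card_fin])
  refine ⟨⟨μ, E, hord, fun i => ?_⟩⟩
  rw [coe_basisOfLinearIndependentOfCardEqFinrank]
  exact (hvs i).apply_eq_smul

end Cfsg.Agent.Invol.CycTI.Ree.Weights
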