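import Cfsg.Agent.Lib.Invol.CycTI.Ree.Classes

/-!
# A group of Ree type with `|Q'| = q`: the coherent family
-/

set_option autoImplicit false
set_option linter.unusedSectionVars false
set_option linter.style.haveILetI false

namespace Cfsg.Agent.Invol.CycTI.Ree

open Subgroup
open Cfsg
open scoped ComplexConjugate
open scoped _root_.Classical

universe u v

/-- The hypothesis `|Q'| = q` and a family of `q` irreducible characters attached to `q` orbits of linear
characters of `Q` that `t` moves. -/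
structure Fam {G : Type u} [Group G] [Fintype G] {P : Type v} [Group P] (X : Sys G P) where
  /-- the derived subgroup has order `q` -/
  hR : Nat.card ↥(commutator ↥X.Q) = X.q
  /-- the linear characters -/
  rep : Fin X.q → Lin X.Q
  /-- the sign -/
  ε : ℂ
  /-- the irreducible characters -/
  θ : Fin X.q → G → ℂ
  hε : ε = 1 ∨ ε = -1
  rep_free : ∀ i, rep i ≠ 1 ∧ cnt (rep i) (rep i) = Nat.card ↥X.Q
  rep_inj : ∀ i j, (∃ a, move a (rep j) = rep i) → i = j
  irr : ∀ i, IsIrrCharacter G (θ i)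
  inj : Function.Injective θ
  diff : ∀ i j, indFun X.Q (fn (rep i)) - indFun X.Q (fn (rep j)) = ε • (θ i - θ j)

namespace Sys

variable {G : Type u} [Group G] [Fintype G] {P : Type v} [Group P] (X : Sys G P)

/-- The involution in the normaliser. -/
def tN : ↥(normalizer (X.Q : Set G)) := ⟨X.t, X.hT X.t_mem⟩

theorem card_Q_pos : 0 < Nat.card ↥X.Q := Nat.card_pos

/-- The stabiliser of a nontrivial linear character. -/
theorem stab {φ : Lin X.Q} (hφ : φ ≠ 1) {n : ↥(normalizer (X.Q : Set G))} (hn : move n φ = φ) :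
    (n : G) ∈ X.Q ∨ (move X.tN φ = φ ∧ ∃ x ∈ X.Q, (n : G) = X.t * x) := by
  obtain ⟨τ, hτ, x, hx, e⟩ := X.N_elim n.2
  let xN : ↥(normalizer (X.Q : Set G)) := ⟨x, le_normalizer hx⟩
  let τN : ↥(normalizer (X.Q : Set G)) := ⟨τ, X.hT hτ⟩
  have hτn : move τN φ = φ := by
    rw [show n = τN * xN from Subtype.ext e, move_mul, move_mem (show (xN : G) ∈ X.Q from hx)] at hn
    exact hn
  have hy1 : ∀ y ∈ X.S.lp.K.Y, ∀ (h : X.ι y ∈ normalizer (X.Q : Set G)), move ⟨X.ι y, h⟩ φ = φ → y = 1 := by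
    intro y hy h hy'
    by_contra hy1
    exact hφ (eq_one_of_fixed (fun z hz hc => X.y_fpf hy hy1 hz hc) hy')
  obtain ⟨y, hy, rfl | rfl⟩ := X.S.mem_T hτ
  · left
    rw [e, hy1 y hy _ hτn, map_one, one_mul]
    exact hx
  · right
    have hYN : X.ι (y * y) ∈ normalizer (X.Q : Set G) := X.hT (X.Ym_le (X.mem_Ym (mul_mem hy hy)))
    have hsq : move ⟨X.ι (y * y), hYN⟩ φ = φ := by
      rw [show (⟨X.ι (y * y), hYN⟩ : ↥(normalizer (X.Q : Set G))) = τN * τN from Subtype.ext (X.sq_t_form y).symm,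
        move_mul, hτn, hτn]
    have h1 := hy1 _ (mul_mem hy hy) hYN hsq
    have hy0 : y = 1 := by
      by_contra hy0
      exact sq_ne_one (X.m_odd.of_dvd_nat (orderOf_dvd_of_pow_eq_one (X.S.lp.pow_m hy))) hy0 h1
    subst hy0
    rw [map_one, mul_one] at e
    refine ⟨?_, x, hx, e⟩
    rw [show X.tN = τN from Subtype.ext (by simp [tN, τN, t, Sys.t])]
    exact hτn

theorem cnt_le_two {φ : Lin X.Q} (hφ : φ ≠ 1) : cnt φ φ ≤ 2 * Nat.card ↥X.Q := by
  refine (cnt_self_le φ (zpowers X.t ⊔ X.Q) fun n hn => ?_).trans ?_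
  · rcases X.stab hφ hn with h | ⟨-, x, hx, e⟩
    · exact mem_sup_right h
    · rw [e]; exact mul_mem (mem_sup_left (mem_zpowers _)) (mem_sup_right hx)
  · have h := Grp.card_sup_mul_card_inf (H := zpowers X.t) (N := X.Q) (zpowers_le.2 (X.hT X.t_mem))
    rw [Nat.card_zpowers, X.ord_t] at h
    rw [← h]
    exact Nat.le_mul_of_pos_right _ Nat.card_pos

theorem cnt_eq_of_moved {φ : Lin X.Q} (hφ : φ ≠ 1) (ht : move X.tN φ ≠ φ) : cnt φ φ = Nat.card ↥X.Q :=
  le_antisymm (cnt_self_le φ X.Q fun _ hn => (X.stab hφ hn).resolve_right fun h => ht h.1) (card_le_cnt φ)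

theorem pow_Q_coe (x : ↥X.Q) : x ^ 3 ^ (3 * X.e) = 1 := Subtype.ext (X.pow_Q x.2)

/-- A character fixed by `t` is determined on the fixed points of `t`. -/
theorem fixed_ext {φ ψ : Lin X.Q} (hφ : move X.tN φ = φ) (hψ : move X.tN ψ = ψ)
    (h : ∀ u : ↥X.Q, (u : G) ∈ X.S.Um → φ u = ψ u) : φ = ψ := by
  refine MonoidHom.ext fun x => ?_
  set R := commutator ↥X.Q
  set s := cj X.tN with hs
  have hss : ∀ z : ↥X.Q, s (s z) = z := fun z => Subtype.ext (by
    rw [hs, cj_coe, cj_coe]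
    show X.t⁻¹ * (X.t⁻¹ * (z : G) * X.t) * X.t = z
    rw [X.S.t_inv, show X.t * (X.t * (z : G) * X.t) * X.t = (X.t * X.t) * z * (X.t * X.t) by group, X.tt,
      one_mul, mul_one])
  set w := x * s x with hw
  set d := w⁻¹ * s w with hd
  have hdR : d ∈ R := by
    have e : d = (s x)⁻¹ * x⁻¹ * ((s x)⁻¹)⁻¹ * (x⁻¹)⁻¹ := by
      rw [hd, hw, map_mul, hss, _root_.mul_inv_rev, inv_inv, inv_inv]; group
    rw [e]
    exact commutator_mem_commutator (mem_top _) (mem_top _)
  obtain ⟨j, hj⟩ := exists_pow_eq_self_of_coprime (x := d) (n := 2) (by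
    refine Nat.Coprime.coprime_dvd_right (orderOf_dvd_of_pow_eq_one (X.pow_Q_coe d)) ?_
    exact Nat.Coprime.pow_right _ (by decide))
  set d' := d ^ j with hd'
  have hdd : d' * d' = d := by rw [hd', ← pow_add, ← two_mul, pow_mul, hj]
  have hsd : s d' = d'⁻¹ := by
    rw [hd', map_pow, ← inv_pow]
    congr 1
    rw [hd, map_mul, map_inv, hss, _root_.mul_inv_rev, inv_inv]
  have hfix : s (w * d') = w * d' := by
    rw [map_mul, hsd, show s w = w * d by rw [hd, ← mul_assoc, mul_inv_cancel, one_mul], ← hdd]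
    group
  have hU : ((w * d' : ↥X.Q) : G) ∈ X.S.Um := X.t_fix (w * d').2 (by
    have e := congrArg Subtype.val hfix
    rw [hs, cj_coe] at e
    change X.t⁻¹ * ((w * d' : ↥X.Q) : G) * X.t = _ at e
    rw [mul_assoc, inv_mul_eq_iff_eq_mul] at e
    exact e)
  have hd'R : d' ∈ R := pow_mem hdR j
  have key : ∀ χ : Lin X.Q, move X.tN χ = χ → χ x * χ x = χ (w * d') := fun χ hχ => by
    rw [map_mul χ w d', show χ d' = 1 from Abelianization.commutator_subset_ker χ hd'R, mul_one, hw, map_mul,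
      show χ (s x) = χ x from DFunLike.congr_fun hχ x]
  have h2 : φ x * φ x = ψ x * ψ x := by rw [key φ hφ, key ψ hψ, h _ hU]
  obtain ⟨i, hi⟩ := exists_pow_eq_self_of_coprime (x := x) (n := 2) (by
    refine Nat.Coprime.coprime_dvd_right (orderOf_dvd_of_pow_eq_one (X.pow_Q_coe x)) ?_
    exact Nat.Coprime.pow_right _ (by decide))
  rw [← hi, map_pow, map_pow ψ, map_pow, map_pow, pow_two, pow_two, h2]

variable (hR : Nat.card ↥(commutator ↥X.Q) = X.q)
include hR

theorem card_lin_Q : Nat.card (Lin X.Q) = X.q ^ 2 := by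
  rw [card_lin]
  have h := (commutator ↥X.Q).card_mul_index
  rw [X.hc, hR] at h
  refine Nat.eq_of_mul_eq_mul_left (show 0 < X.q by have := X.q_ge; omega) ?_
  rw [h]; ring

/-- At least `q² - q` linear characters are moved by `t`. -/
theorem card_moved [Fintype (Lin X.Q)] :
    X.q ^ 2 - X.q ≤ (Finset.univ.filter fun φ : Lin X.Q => φ ≠ 1 ∧ move X.tN φ ≠ φ).card := by
  haveI : Fintype ↥X.S.Um := Fintype.ofFinite _
  haveI : Finite (Lin X.S.Um) := finite_lin
  set Fx := Finset.univ.filter fun φ : Lin X.Q => move X.tN φ = φ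
  have hFx : Fx.card ≤ X.q := by
    haveI : Fintype (Lin X.S.Um) := Fintype.ofFinite _
    refine (Finset.card_le_card_of_injOn (t := (Finset.univ : Finset (Lin X.S.Um)))
      (fun φ => φ.comp (Subgroup.inclusion X.hUQ)) (fun _ _ => Finset.mem_univ _) fun a ha b hb e => ?_).trans ?_
    · exact X.fixed_ext (Finset.mem_filter.1 ha).2 (Finset.mem_filter.1 hb).2 fun u hu =>
        DFunLike.congr_fun e (⟨u, hu⟩ : ↥X.S.Um)
    · rw [Finset.card_univ, ← Nat.card_eq_fintype_card, card_lin]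
      refine Nat.le_of_dvd (by have := X.q_ge; omega) ?_
      have := (commutator ↥X.S.Um).index_dvd_card
      rwa [X.card_Um] at this
  have h := Finset.card_filter_add_card_filter_not (s := (Finset.univ : Finset (Lin X.Q))) (fun φ => move X.tN φ = φ)
  rw [Finset.card_univ, ← Nat.card_eq_fintype_card, X.card_lin_Q hR] at h
  have hle : X.q ^ 2 - X.q ≤ (Finset.univ.filter fun φ : Lin X.Q => ¬ move X.tN φ = φ).card := by
    change Fx.card + _ = _ at h
    omega
  refine hle.trans (Finset.card_le_card fun φ hφ => Finset.mem_filter.2 ⟨Finset.mem_univ _, ?_⟩)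
  have h' := (Finset.mem_filter.1 hφ).2
  exact ⟨fun e => h' (by rw [e, move_triv]), h'⟩

/-- The family exists. -/
theorem exists_fam : Nonempty (Fam X) := by
  haveI : Finite (Lin X.Q) := finite_lin
  haveI : Fintype (Lin X.Q) := Fintype.ofFinite _
  set Z := Finset.univ.filter fun φ : Lin X.Q => φ ≠ 1 ∧ move X.tN φ ≠ φ
  have horb : ∀ φ ∈ Z, (Finset.univ.image fun a => move a φ).card ≤ X.q - 1 := fun φ hφ => by
    obtain ⟨h1, h2⟩ := (Finset.mem_filter.1 hφ).2
    have h := card_orbit_mul φ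
    rw [X.cnt_eq_of_moved h1 h2, X.card_N, X.hc, mul_comm (X.q ^ 3)] at h
    exact le_of_eq (Nat.eq_of_mul_eq_mul_right (pow_pos (show 0 < X.q by have := X.q_ge; omega) 3) h)
  have hlt : (X.q - 1) * (X.q - 1) < Z.card := by
    refine lt_of_lt_of_le ?_ ((X.card_moved hR).trans (Finset.card_le_card fun φ hφ =>
      Finset.mem_filter.2 ⟨Finset.mem_univ _, (Finset.mem_filter.1 hφ).2⟩))
    rw [show X.q ^ 2 - X.q = X.q * (X.q - 1) by rw [pow_two, Nat.mul_sub, mul_one]]
    refine Nat.mul_lt_mul_of_pos_right ?_ ?_ <;> (have := X.q_ge; omega)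
  obtain ⟨r, hrZ, hrinj⟩ := exists_reps Z (n := X.q) horb hlt
  have hfree : ∀ i, r i ≠ 1 ∧ cnt (r i) (r i) = Nat.card ↥X.Q := fun i => by
    obtain ⟨h1, h2⟩ := (Finset.mem_filter.1 (hrZ i)).2
    exact ⟨h1, X.cnt_eq_of_moved h1 h2⟩
  have hcnt : ∀ i j, cnt (r i) (r j) = if i = j then Nat.card ↥X.Q else 0 := by
    intro i j
    split_ifs with h
    · subst h; exact (hfree i).2
    · exact cnt_zero fun n hn => h (hrinj i j ⟨n, hn⟩)
  have hQ0 : (Nat.card ↥X.Q : ℂ) ≠ 0 := Nat.cast_ne_zero.2 Nat.card_pos.ne'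
  obtain ⟨ε, hε, θ, hθ, hinj, hdiff⟩ := Char.Exceptional.exists_family (n := X.q) (by have := X.q_ge; omega)
    (fun i => indFun X.Q (fn (r i))) (fun i j => isGenChar_diff _ _) (fun i j => diff_one _ _) (fun i j k l => by
      rw [ind_inner X.isTI, hcnt, hcnt, hcnt, hcnt]
      push_cast
      rw [mul_add, mul_sub, mul_sub]
      simp only [mul_ite, mul_zero, inv_mul_cancel₀ hQ0])
  exact ⟨⟨hR, r, ε, θ, hε, hfree, hrinj, hθ, hinj, hdiff⟩⟩

end Sys

end Cfsg.Agent.Invol.CycTI.Ree
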