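import Mathlib
import Cfsg.Agent.Lib.Grp.Basic
import Cfsg.Agent.Lib.Invol.CycTI.Ree.Eigen

/-!
A group of order `q³` with derived subgroup of order `q²`, an automorphism of order `m = (q - 1)/2` without
fixed points and a commuting involutory automorphism with `q` fixed points: the lower central series.
-/

set_option autoImplicit false
set_option linter.unusedSectionVars false
set_option linter.style.haveILetI false

namespace Cfsg.Agent.Invol.CycTI.Ree

open Subgroup
open scoped _root_.Classical commutatorElement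

universe u

/-- A subgroup invariant under a fixed point free automorphism of order `(3^e - 1)/2` of a 3-group has order a power
of `3^e`. -/
theorem card_fpf {H : Type u} [Group H] [Finite H] {e m : ℕ} {σ : MulAut H} (he : 3 ≤ e) (hm : 2 * m + 1 = 3 ^ e)
    (hH : IsPGroup 3 H) (hne : Nat.card H ≠ 1) (hσ : σ ^ m = 1)
    (σ_free : ∀ k, 0 < k → k < m → ∀ x : H, (σ ^ k) x = x → x = 1) {K : Subgroup H} (hK : ∀ x ∈ K, σ x ∈ K) :
    ∃ i : ℕ, Nat.card ↥K = (3 ^ e) ^ i := by
  have lt : ∀ {d : ℕ}, d < e → 3 ^ d < m := fun {d} hd => Weights.bound hm (by omega) hd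
  have hm0 : 0 < m := lt_of_le_of_lt (Nat.zero_le _) (lt (show 0 < e by omega))
  haveI := Fact.mk Nat.prime_three
  obtain ⟨a, ha⟩ := IsPGroup.iff_card.1 (hH.to_subgroup K)
  refine ⟨a / e, ?_⟩
  let act : MulAction ↥(zpowers σ) {x : H // x ∈ K ∧ x ≠ 1} :=
    { smul := fun g x => ⟨(g : MulAut H) x.1, by
        obtain ⟨i, hi⟩ := (mem_zpowers_iff_mem_range_orderOf.1 g.2 |> Finset.mem_image.1)
        rw [← hi.2]
        refine ⟨?_, fun h => x.2.2 ((σ ^ i).injective (h.trans (map_one _).symm))⟩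
        clear hi
        induction i with
        | zero => simpa using x.2.1
        | succ i ih => rw [pow_succ', MulAut.mul_apply]; exact hK _ ih⟩
      one_smul := fun x => Subtype.ext rfl
      mul_smul := fun g h x => Subtype.ext rfl }
  letI := act
  haveI : Fintype ↥(zpowers σ) := Fintype.ofFinite _
  haveI : Fintype {x : H // x ∈ K ∧ x ≠ 1} := Fintype.ofFinite _
  have hord : orderOf σ = m :=
    (orderOf_eq_iff hm0).2 ⟨hσ, fun k hk hk0 h => by
      obtain ⟨x, hx⟩ : ∃ x : H, x ≠ 1 := by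
        by_contra hh
        push Not at hh
        have h1 : Nat.card H = 1 := Nat.card_eq_one_iff_unique.2 ⟨⟨fun a b => (hh a).trans (hh b).symm⟩, ⟨1⟩⟩
        exact absurd h1 hne
      exact hx (σ_free k hk0 hk x (by rw [h]; rfl))⟩
  have hdvd : m ∣ Nat.card {x : H // x ∈ K ∧ x ≠ 1} := by
    rw [Nat.card_congr (MulAction.selfEquivSigmaOrbits ↥(zpowers σ) {x : H // x ∈ K ∧ x ≠ 1}), Nat.card_sigma]
    refine Finset.dvd_sum fun ω _ => ?_
    have h := Nat.card_congr (MulAction.orbitProdStabilizerEquivGroup ↥(zpowers σ) ω.out)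
    have hst : MulAction.stabilizer ↥(zpowers σ) ω.out = ⊥ := by
      refine (eq_bot_iff_forall _).2 fun g hg => ?_
      obtain ⟨i, hi⟩ := (mem_zpowers_iff_mem_range_orderOf.1 g.2 |> Finset.mem_image.1)
      obtain ⟨hi1, hi2⟩ := hi
      rw [Finset.mem_range, hord] at hi1
      rcases Nat.eq_zero_or_pos i with rfl | hi0
      · exact Subtype.ext (by rw [← hi2, pow_zero]; rfl)
      · exfalso
        refine ω.out.2.2 (σ_free i hi0 hi1 _ ?_)
        rw [hi2]
        exact congrArg Subtype.val (MulAction.mem_stabilizer_iff.1 hg)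
    rw [Nat.card_prod, hst, card_bot, mul_one, Nat.card_zpowers, hord] at h
    exact h.symm.dvd
  have hsub : Nat.card {x : H // x ∈ K ∧ x ≠ 1} = 3 ^ a - 1 := by
    haveI : Fintype ↥K := Fintype.ofFinite _
    rw [← ha, Nat.card_congr (show {x : H // x ∈ K ∧ x ≠ 1} ≃ {x : ↥K // ¬ x = 1} from
      { toFun := fun x => ⟨⟨x.1, x.2.1⟩, fun h => x.2.2 (congrArg Subtype.val h)⟩
        invFun := fun x => ⟨(x.1 : H), x.1.2, fun h => x.2 (Subtype.ext h)⟩ })]
    rw [Nat.card_eq_fintype_card, Fintype.card_subtype_compl, Fintype.card_subtype_eq, ← Nat.card_eq_fintype_card]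
  rw [hsub] at hdvd
  have hmod : 3 ^ a ≡ 1 [MOD m] := ((Nat.modEq_iff_dvd' (Nat.one_le_pow _ _ (by norm_num))).2 hdvd).symm
  have h1 : 3 ^ e ≡ 1 [MOD m] := by
    rw [← hm]
    exact ((Nat.modEq_zero_iff_dvd.2 (Dvd.intro_left 2 rfl)).add_right 1).trans (by simp [Nat.ModEq])
  have h2 : 3 ^ a ≡ 3 ^ (a % e) [MOD m] := by
    conv_lhs => rw [← Nat.mod_add_div a e, pow_add, pow_mul]
    simpa using (h1.pow (a / e)).mul_left (3 ^ (a % e))
  have h3 := Nat.ModEq.eq_of_lt_of_lt (h2.symm.trans hmod)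
    (lt (Nat.mod_lt _ (by have := he; omega))) (lt (show 0 < e by have := he; omega))
  have h4 : a % e = 0 := Nat.pow_right_injective (show 2 ≤ 3 by norm_num) (h3.trans (pow_zero 3).symm)
  rw [ha, ← pow_mul]
  congr 1
  rw [← Nat.mod_add_div a e, h4, zero_add, Nat.mul_div_cancel_left _ (show 0 < e by have := he; omega)]

/-- The data. -/
structure Big (H : Type u) [Group H] where
  /-- the exponent -/
  e : ℕ
  /-- the order of the torus -/
  m : ℕ
  /-- the torus generator -/
  σ : MulAut H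
  /-- the involution -/
  τ : MulAut H
  /-- its fixed points -/
  U : Subgroup H
  he : 3 ≤ e
  hm : 2 * m + 1 = 3 ^ e
  card_H : Nat.card H = (3 ^ e) ^ 3
  card_R : Nat.card ↥(commutator H) = (3 ^ e) ^ 2
  hσ : σ ^ m = 1
  σ_free : ∀ k, 0 < k → k < m → ∀ x : H, (σ ^ k) x = x → x = 1
  hτ : ∀ x, τ (τ x) = x
  hcomm : ∀ x, σ (τ x) = τ (σ x)
  hU : ∀ x, τ x = x ↔ x ∈ U
  card_U : Nat.card ↥U = 3 ^ e
  U_comm : ∀ a ∈ U, ∀ b ∈ U, a * b = b * a

namespace Big

variable {H : Type u} [Group H] [Finite H] (D : Big H)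

include D

theorem three_pow_lt {d : ℕ} (hd : d < D.e) : 3 ^ d < D.m := by
  have := D.he
  have := D.hm
  obtain ⟨f, hf⟩ : ∃ f, D.e = f + 1 := ⟨D.e - 1, by omega⟩
  have h := Nat.pow_le_pow_right (show 0 < 3 by norm_num) (show d ≤ f by omega)
  have h3 : 3 ≤ 3 ^ f := Nat.le_self_pow (by omega) 3
  rw [hf, pow_succ] at this
  omega

theorem m_pos : 0 < D.m := lt_of_le_of_lt (Nat.zero_le _) (D.three_pow_lt (show 0 < D.e by have := D.he; omega))

theorem isPGroup : IsPGroup 3 H := IsPGroup.of_card (n := D.e * 3) (D.card_H.trans (pow_mul 3 D.e 3).symm)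

theorem pow_card (x : H) : x ^ 3 ^ (D.e * 3) = 1 := by
  rw [pow_mul, ← D.card_H, pow_card_eq_one']

/-- A characteristic subgroup, as far as the torus is concerned. -/
def Inv (K : Subgroup H) : Prop := ∀ x ∈ K, D.σ x ∈ K

/-- An invariant subgroup has order a power of `q`. -/
theorem card_inv {K : Subgroup H} (hK : D.Inv K) : ∃ i : ℕ, Nat.card ↥K = (3 ^ D.e) ^ i :=
  card_fpf D.he D.hm D.isPGroup (by
    rw [D.card_H, ← pow_mul]
    exact (Nat.one_lt_pow (by have := D.he; omega) (by norm_num)).ne') D.hσ D.σ_free hK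

theorem q_gt : 1 < 3 ^ D.e := Nat.one_lt_pow (by have := D.he; omega) (by norm_num)

/-- Invariant subgroups below one of order `q` are trivial or everything. -/
theorem eq_bot_or_eq {K L : Subgroup H} (hK : D.Inv K) (hKL : K ≤ L) (hL : Nat.card ↥L = 3 ^ D.e) :
    K = ⊥ ∨ K = L := by
  obtain ⟨i, hi⟩ := D.card_inv hK
  have hle : Nat.card ↥K ≤ Nat.card ↥L := Nat.le_of_dvd Nat.card_pos (card_dvd_of_le hKL)
  rw [hi, hL] at hle
  have hi1 : i ≤ 1 := by
    by_contra h
    have := Nat.pow_lt_pow_right D.q_gt (show 1 < i by omega)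
    rw [pow_one] at this
    omega
  interval_cases i
  · exact Or.inl (eq_bot_of_card_eq K (by rw [hi, pow_zero]))
  · exact Or.inr (eq_of_le_of_card_ge hKL (by rw [hi, hL, pow_one]))

theorem inv_map {K : Subgroup H} (h : K.map D.σ.toMonoidHom ≤ K) : D.Inv K := fun x hx => h ⟨x, hx, rfl⟩

theorem inv_R : D.Inv (commutator H) := D.inv_map (by rw [commutator_def, map_commutator]; exact commutator_mono le_top le_top)

theorem inv_U : D.Inv D.U := fun x hx => by rw [← D.hU, ← D.hcomm, (D.hU x).2 hx]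

/-- The third term. -/
abbrev Z : Subgroup H := ⁅commutator H, (⊤ : Subgroup H)⁆

theorem inv_Z : D.Inv (Z (H := H)) := D.inv_map (by
  rw [map_commutator]
  refine commutator_mono ?_ le_top
  rintro _ ⟨x, hx, rfl⟩
  exact D.inv_R x hx)

omit D in
theorem Z_le_R : Z (H := H) ≤ commutator H := commutator_le_left _ _

theorem isNilpotent : Group.IsNilpotent H := by
  haveI := Fact.mk Nat.prime_three
  exact D.isPGroup.isNilpotent

omit D in
theorem ne_bot_of_card {K : Subgroup H} {n : ℕ} (h : Nat.card ↥K = n) (hn : 1 < n) : K ≠ ⊥ := fun e => by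
  rw [e, card_bot] at h; omega

/-- A nontrivial subgroup is not its own commutator with the group. -/
theorem comm_ne {K : Subgroup H} (hK : K ≠ ⊥) : ⁅K, (⊤ : Subgroup H)⁆ ≠ K := by
  intro h
  haveI := D.isNilpotent
  obtain ⟨n, hn⟩ := Subgroup.nilpotent_iff_lowerCentralSeries.1 ‹Group.IsNilpotent H›
  refine hK (le_bot_iff.1 (hn ▸ ?_))
  clear hn
  induction n with
  | zero => exact le_top
  | succ n ih => rw [← h]; exact commutator_mono ih le_rfl

/-- The square root of an element inverted by an automorphism. -/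
theorem exists_sqrt_inverted (d : H) (hd : D.τ d = d⁻¹) :
    ∃ d' ∈ zpowers d, d' * d' = d ∧ D.τ d' = d'⁻¹ := by
  obtain ⟨j, hj⟩ := exists_pow_eq_self_of_coprime (x := d) (n := 2) (by
    refine Nat.Coprime.coprime_dvd_right (orderOf_dvd_of_pow_eq_one (D.pow_card d)) ?_
    exact Nat.Coprime.pow_right _ (by decide))
  exact ⟨d ^ j, pow_mem (mem_zpowers d) j, by rw [← pow_add, ← two_mul, pow_mul, hj],
    by rw [map_pow, hd, inv_pow]⟩

/-- A fixed coset contains a fixed point. -/
theorem fix_coset {N : Subgroup H} {x : H} (hx : x⁻¹ * D.τ x ∈ N) : ∃ u ∈ D.U, ∃ n ∈ N, x = u * n := by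
  set d := x⁻¹ * D.τ x with hd
  have hτd : D.τ d = d⁻¹ := by rw [hd, map_mul, map_inv, D.hτ, _root_.mul_inv_rev, inv_inv]
  obtain ⟨d', hd'm, hd'2, hd'τ⟩ := D.exists_sqrt_inverted d hτd
  refine ⟨x * d', (D.hU _).1 ?_, d'⁻¹, inv_mem (zpowers_le.2 hx hd'm), by group⟩
  rw [map_mul, hd'τ, show D.τ x = x * d by rw [hd, ← mul_assoc, mul_inv_cancel, one_mul], ← hd'2]
  group

theorem card_quot : Nat.card (H ⧸ commutator H) = 3 ^ D.e := by
  have h := (commutator H).card_eq_card_quotient_mul_card_subgroup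
  rw [D.card_H, D.card_R] at h
  refine Nat.eq_of_mul_eq_mul_right (show 0 < (3 ^ D.e) ^ 2 by positivity) ?_
  rw [← h]; ring

omit D in
theorem R_le_of_quot_comm {N : Subgroup H} [N.Normal]
    (h : ∀ a b : H, (a : H ⧸ N) * b = b * a) : commutator H ≤ N := by
  rw [commutator_def, commutator_le]
  intro a _ b _
  rw [← QuotientGroup.eq_one_iff, commutatorElement_def]
  simp only [QuotientGroup.mk_mul, QuotientGroup.mk_inv]
  rw [h a b]
  group

omit D in
theorem central_mod_Z {r : H} (hr : r ∈ commutator H) (x : H) :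
    (r : H ⧸ Z (H := H)) * x = x * r := by
  rw [← commutatorElement_eq_one_iff_mul_comm, ← QuotientGroup.mk'_apply, ← QuotientGroup.mk'_apply,
    ← map_commutatorElement, QuotientGroup.mk'_apply, QuotientGroup.eq_one_iff]
  exact commutator_mem_commutator hr (mem_top x)

/-- The fixed points lie in the derived subgroup. -/
theorem U_le_R : D.U ≤ commutator H := by
  have hR := D.inv_R
  have hU := D.inv_U
  rcases D.eq_bot_or_eq (K := D.U ⊓ commutator H) (fun x hx => ⟨hU x hx.1, hR x hx.2⟩) inf_le_left D.card_U with h | h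
  · exfalso
    have hc := Grp.card_sup_mul_card_inf_normal (H := D.U) (N := commutator H)
    have hsup : D.U ⊔ commutator H = ⊤ := by
      refine eq_top_of_card_eq _ ?_
      rw [h, card_bot, mul_one, D.card_U, D.card_R] at hc
      rw [hc, D.card_H]; ring
    have hle : commutator H ≤ Z (H := H) := by
      refine R_le_of_quot_comm fun a b => ?_
      have hs : ∀ x : H, ∃ u ∈ D.U, ∃ r ∈ commutator H, x = u * r := fun x => by
        have hx : x ∈ D.U ⊔ commutator H := hsup ▸ mem_top x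
        rw [← SetLike.mem_coe, mul_normal, Set.mem_mul] at hx
        obtain ⟨u, hu, r, hr, rfl⟩ := hx
        exact ⟨u, hu, r, hr, rfl⟩
      obtain ⟨u, hu, r, hr, rfl⟩ := hs a
      obtain ⟨v, hv, s, hs', rfl⟩ := hs b
      have c1 : Commute (u : H ⧸ Z (H := H)) v := by
        show (u : H ⧸ Z (H := H)) * v = v * u
        rw [← QuotientGroup.mk_mul, ← QuotientGroup.mk_mul, D.U_comm u hu v hv]
      have cr : ∀ y : H, Commute (r : H ⧸ Z (H := H)) y := central_mod_Z hr
      have cs : ∀ y : H, Commute (s : H ⧸ Z (H := H)) y := central_mod_Z hs'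
      rw [QuotientGroup.mk_mul, QuotientGroup.mk_mul]
      exact ((c1.mul_right (cs u).symm).mul_left ((cr v).mul_right (cr s))).eq
    exact D.comm_ne (ne_bot_of_card D.card_R (Nat.one_lt_pow (by norm_num) D.q_gt)) (le_antisymm Z_le_R hle)
  · exact h ▸ inf_le_right

/-- Every coset of the derived subgroup is inverted. -/
theorem inverted_mod (x : H) : ∃ r ∈ commutator H, D.τ x = x⁻¹ * r := by
  refine ⟨x * D.τ x, ?_, by group⟩
  have hmem : ∀ y : H, y⁻¹ * D.τ y ∈ commutator H → y ∈ commutator H := fun y hy => by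
    obtain ⟨u, hu, n, hn, rfl⟩ := D.fix_coset hy
    exact mul_mem (D.U_le_R hu) hn
  refine hmem _ ?_
  rw [map_mul, D.hτ, _root_.mul_inv_rev,
    show (D.τ x)⁻¹ * x⁻¹ * (D.τ x * x) = ⁅(D.τ x)⁻¹, x⁻¹⁆ by rw [commutatorElement_def]; group]
  exact commutator_mem_commutator (mem_top _) (mem_top _)

/-- Commutators are fixed modulo the third term. -/
theorem R_le_UZ {r : H} (hr : r ∈ commutator H) : ∃ u ∈ D.U, ∃ z ∈ Z (H := H), r = u * z := by
  refine D.fix_coset ?_
  let f : H →* H ⧸ Z (H := H) := QuotientGroup.mk' _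
  have hle : commutator H ≤ (f.comp D.τ.toMonoidHom).eqLocus f := by
    show ⁅(⊤ : Subgroup H), ⊤⁆ ≤ _
    refine commutator_le.2 fun a _ b _ => ?_
    show f (D.τ ⁅a, b⁆) = f ⁅a, b⁆
    obtain ⟨r, hr, ha⟩ := D.inverted_mod a
    obtain ⟨s, hs, hb⟩ := D.inverted_mod b
    have cr : ∀ y : H, Commute (f r) (f y) := central_mod_Z hr
    have cs : ∀ y : H, Commute (f s) (f y) := central_mod_Z hs
    have cab : ∀ y : H, Commute (f ⁅a, b⁆) (f y) := central_mod_Z (commutator_mem_commutator (mem_top a) (mem_top b))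
    rw [map_commutatorElement, map_commutatorElement, ha, hb, map_mul, map_mul, map_inv, map_inv]
    have hb' := map_commutatorElement f a b
    calc ⁅(f a)⁻¹ * f r, (f b)⁻¹ * f s⁆ = ⁅(f a)⁻¹, (f b)⁻¹⁆ := by
          simp only [commutatorElement_def, _root_.mul_inv_rev, inv_inv]
          have e1 : f r * ((f b)⁻¹ * f s) = ((f b)⁻¹ * f s) * f r :=
            ((cr b).inv_right.mul_right (cr s)).eq
          calc (f a)⁻¹ * f r * ((f b)⁻¹ * f s) * ((f r)⁻¹ * f a) * ((f s)⁻¹ * f b)
              = (f a)⁻¹ * (f r * ((f b)⁻¹ * f s)) * (f r)⁻¹ * f a * ((f s)⁻¹ * f b) := by group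
            _ = (f a)⁻¹ * (f b)⁻¹ * (f s * f a) * (f s)⁻¹ * f b := by rw [e1]; group
            _ = (f a)⁻¹ * (f b)⁻¹ * f a * f b := by rw [(cs a).eq]; group
      _ = (f b * f a)⁻¹ * f ⁅a, b⁆ * (f b * f a) := by rw [hb', commutatorElement_def, commutatorElement_def]; group
      _ = f ⁅a, b⁆ := by rw [← map_mul, mul_assoc, (cab (b * a)).eq, inv_mul_cancel_left]
      _ = _ := hb'
  have h := hle hr
  change f (D.τ r) = f r at h
  exact (QuotientGroup.eq (s := Z (H := H))).1 h.symm

theorem Z_props : Nat.card ↥(Z (H := H)) = 3 ^ D.e ∧ D.U ⊓ Z (H := H) = ⊥ := by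
  have hsup : commutator H ≤ D.U ⊔ Z (H := H) := fun r hr => by
    obtain ⟨u, hu, z, hz, rfl⟩ := D.R_le_UZ hr
    exact mul_mem (mem_sup_left hu) (mem_sup_right hz)
  have hge := Nat.le_of_dvd Nat.card_pos (card_dvd_of_le hsup)
  have hc := Grp.card_sup_mul_card_inf_normal (H := D.U) (N := Z (H := H))
  rw [D.card_U] at hc
  obtain ⟨i, hi⟩ := D.card_inv D.inv_Z
  rw [D.card_R] at hge
  have hi2 : i < 2 := by
    by_contra h
    have hle := Nat.pow_le_pow_right (show 0 < 3 ^ D.e by positivity) (show 2 ≤ i by omega)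
    rw [← hi, ← D.card_R] at hle
    exact D.comm_ne (ne_bot_of_card D.card_R (Nat.one_lt_pow (by norm_num) D.q_gt))
      (eq_of_le_of_card_ge Z_le_R hle)
  have hinf : 0 < Nat.card ↥(D.U ⊓ Z (H := H) : Subgroup H) := Nat.card_pos
  have hq := D.q_gt
  interval_cases i
  · exfalso
    rw [hi, pow_zero, mul_one] at hc
    nlinarith
  · rw [pow_one] at hi
    refine ⟨hi, eq_bot_of_card_eq _ (le_antisymm (Nat.le_of_mul_le_mul_left ?_
      (show 0 < (3 ^ D.e) ^ 2 by positivity)) hinf)⟩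
    calc (3 ^ D.e) ^ 2 * Nat.card ↥(D.U ⊓ Z (H := H) : Subgroup H)
        ≤ Nat.card ↥(D.U ⊔ Z (H := H) : Subgroup H) * Nat.card ↥(D.U ⊓ Z (H := H) : Subgroup H) :=
          Nat.mul_le_mul_right _ hge
      _ = (3 ^ D.e) ^ 2 * 1 := by rw [hc, hi]; ring

theorem tau_mem_Z {z : H} (hz : z ∈ Z (H := H)) : D.τ z ∈ Z (H := H) := by
  have h : (Z (H := H)).map D.τ.toMonoidHom ≤ Z (H := H) := by
    rw [map_commutator]
    refine commutator_mono ?_ le_top
    rw [commutator_def, map_commutator]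
    exact commutator_mono le_top le_top
  exact h ⟨z, hz, rfl⟩

/-- The involution inverts the third term. -/
theorem tau_Z {z : H} (hz : z ∈ Z (H := H)) : D.τ z = z⁻¹ := by
  let σ' : ↥(Z (H := H)) →* ↥(Z (H := H)) :=
    (D.τ.toMonoidHom.comp (Z (H := H)).subtype).codRestrict _ fun x => D.tau_mem_Z x.2
  have hinv : Function.Involutive σ' := fun x => Subtype.ext (D.hτ x)
  have hfpf : MonoidHom.FixedPointFree σ' := fun x hx => Subtype.ext (by
    rw [Subgroup.coe_one, ← mem_bot (G := H), ← D.Z_props.2]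
    exact ⟨(D.hU _).1 (congrArg Subtype.val hx), x.2⟩)
  exact congrArg Subtype.val (congrFun (hfpf.coe_eq_inv_of_involutive hinv) ⟨z, hz⟩)

theorem Z_central {z : H} (hz : z ∈ Z (H := H)) (x : H) : Commute z x := by
  have hinv : D.Inv ⁅Z (H := H), (⊤ : Subgroup H)⁆ := D.inv_map (by
    rw [map_commutator]
    refine commutator_mono ?_ le_top
    rintro _ ⟨y, hy, rfl⟩
    exact D.inv_Z y hy)
  rcases D.eq_bot_or_eq hinv (commutator_le_left _ _) D.Z_props.1 with h | h
  · refine commutatorElement_eq_one_iff_mul_comm.1 ((mem_bot (G := H)).1 ?_)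
    rw [← h]
    exact commutator_mem_commutator hz (mem_top x)
  · exact absurd h (D.comm_ne (ne_bot_of_card D.Z_props.1 D.q_gt))

theorem R_comm {r s : H} (hr : r ∈ commutator H) (hs : s ∈ commutator H) : Commute r s := by
  have h0 : ⁅Z (H := H), (⊤ : Subgroup H)⁆ = ⊥ :=
    le_bot_iff.1 ((commutator_le).2 fun a ha b _ =>
      (mem_bot (G := H)).2 (commutatorElement_eq_one_iff_mul_comm.2 (D.Z_central ha b).eq))
  have h : ⁅⁅(⊤ : Subgroup H), ⊤⁆, commutator H⁆ = ⊥ :=
    commutator_commutator_eq_bot_of_rotate (by rw [commutator_comm (⊤ : Subgroup H) (commutator H)]; exact h0) h0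
  refine commutatorElement_eq_one_iff_mul_comm.1 ((mem_bot (G := H)).1 ?_)
  rw [← h]
  exact commutator_mem_commutator hr hs

/-- An invariant abelian subgroup of order `q` is elementary. -/
theorem cube_one {K : Subgroup H} (hK : D.Inv K) (hc : Nat.card ↥K = 3 ^ D.e)
    (hcomm : ∀ a ∈ K, ∀ b ∈ K, a * b = b * a) {x : H} (hx : x ∈ K) : x ^ 3 = 1 := by
  haveI := Fact.mk Nat.prime_three
  let O : Subgroup H :=
    { carrier := {a | a ∈ K ∧ a ^ 3 = 1}
      one_mem' := ⟨one_mem _, one_pow _⟩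
      mul_mem' := fun {a b} ha hb => ⟨mul_mem ha.1 hb.1, by
        rw [(show Commute a b from hcomm a ha.1 b hb.1).mul_pow, ha.2, hb.2, one_mul]⟩
      inv_mem' := fun {a} ha => ⟨inv_mem ha.1, by rw [inv_pow, ha.2, inv_one]⟩ }
  have hO : D.Inv O := fun a ha => ⟨hK a ha.1, by rw [← map_pow, ha.2, map_one]⟩
  rcases D.eq_bot_or_eq hO (fun a ha => ha.1) hc with h | h
  · exfalso
    obtain ⟨⟨a, ha⟩, ho⟩ := exists_prime_orderOf_dvd_card' (G := ↥K) 3
      (by rw [hc]; exact dvd_pow_self 3 (by have := D.he; omega))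
    rw [orderOf_mk] at ho
    have : a ∈ O := ⟨ha, by rw [← ho, pow_orderOf_eq_one]⟩
    rw [h, mem_bot] at this
    rw [this, orderOf_one] at ho
    omega
  · rw [← h] at hx
    exact hx.2

theorem R_cube {r : H} (hr : r ∈ commutator H) : r ^ 3 = 1 := by
  obtain ⟨u, hu, z, hz, rfl⟩ := D.R_le_UZ hr
  rw [(D.Z_central hz u).symm.mul_pow, D.cube_one D.inv_U D.card_U D.U_comm hu,
    D.cube_one D.inv_Z D.Z_props.1 (fun a ha b _ => (D.Z_central ha b).eq) hz, one_mul]

theorem fixed_mod {r : H} (hr : r ∈ commutator H) : (D.τ r : H ⧸ Z (H := H)) = r := by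
  obtain ⟨u, hu, z, hz, rfl⟩ := D.R_le_UZ hr
  refine (QuotientGroup.eq (s := Z (H := H))).2 ?_
  rw [map_mul, (D.hU u).2 hu, D.tau_Z hz]
  have : (u * z⁻¹)⁻¹ * (u * z) = z * z := by group
  rw [this]
  exact mul_mem hz hz

/-- Cubes lie in the third term. -/
theorem cube_mem (x : H) : x ^ 3 ∈ Z (H := H) := by
  haveI := Fact.mk Nat.prime_three
  let S : Subgroup H := ((powMonoidHom 3).comp (Abelianization.of (G := H))).ker
  have hS : ∀ y, y ∈ S ↔ y ^ 3 ∈ commutator H := fun y => by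
    rw [show y ∈ S ↔ (Abelianization.of y) ^ 3 = 1 from Iff.rfl, ← map_pow]
    exact QuotientGroup.eq_one_iff _
  have hSinv : D.Inv S := fun y hy => by
    rw [hS, ← map_pow]
    exact D.inv_R _ ((hS y).1 hy)
  have hRS : commutator H ≤ S := fun y hy => (hS y).2 (pow_mem hy 3)
  have hR : x ^ 3 ∈ commutator H := by
    obtain ⟨i, hi⟩ := D.card_inv hSinv
    have hi2 : 2 < i := by
      obtain ⟨z, hz⟩ := exists_prime_orderOf_dvd_card' (G := H ⧸ commutator H) 3
        (by rw [D.card_quot]; exact dvd_pow_self 3 (by have := D.he; omega))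
      obtain ⟨y, rfl⟩ := QuotientGroup.mk_surjective z
      have hyS : y ∈ S := (hS y).2 ((QuotientGroup.eq_one_iff _).1 (by
        rw [QuotientGroup.mk_pow, ← hz, pow_orderOf_eq_one]))
      have hlt : Nat.card ↥(commutator H) < Nat.card ↥S := by
        by_contra hge
        rw [← eq_of_le_of_card_ge hRS (not_lt.1 hge)] at hyS
        rw [(QuotientGroup.eq_one_iff _).2 hyS, orderOf_one] at hz
        omega
      rw [hi, D.card_R] at hlt
      exact (Nat.pow_lt_pow_iff_right D.q_gt).1 hlt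
    refine (hS x).1 ?_
    have : S = ⊤ := by
      refine eq_top_of_card_eq _ (le_antisymm (card_le_card_group S) ?_)
      rw [hi, D.card_H]
      exact Nat.pow_le_pow_right (by positivity) hi2
    rw [this]; exact mem_top x
  obtain ⟨r, hr, hx⟩ := D.inverted_mod x
  let f : H →* H ⧸ Z (H := H) := QuotientGroup.mk' _
  have h1 : f (x ^ 3) = (f (x ^ 3))⁻¹ := by
    calc f (x ^ 3) = f (D.τ (x ^ 3)) := (D.fixed_mod hR).symm
      _ = ((f x)⁻¹ * f r) ^ 3 := by rw [map_pow, map_pow, hx, map_mul, map_inv]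
      _ = ((f x)⁻¹) ^ 3 * (f r) ^ 3 := (show Commute (f r) (f x) from central_mod_Z hr x).symm.inv_left.mul_pow 3
      _ = _ := by rw [← map_pow, D.R_cube hr, map_one, mul_one, inv_pow, map_pow]
  have h2 : f ((x ^ 3) ^ 2) = 1 := by
    rw [map_pow, pow_two]
    nth_rewrite 1 [h1]
    exact inv_mul_cancel _
  have h3 : (x ^ 3) ^ 2 ∈ Z (H := H) := (QuotientGroup.eq_one_iff _).1 h2
  obtain ⟨j, hj⟩ := exists_pow_eq_self_of_coprime (x := x ^ 3) (n := 2) (by
    refine Nat.Coprime.coprime_dvd_right (orderOf_dvd_of_pow_eq_one (D.pow_card _)) ?_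
    exact Nat.Coprime.pow_right _ (by decide))
  rw [← hj]
  exact pow_mem h3 j

/-- The exponent is three if elements of order nine behave. -/
theorem exp_three (hTI : ∀ x g : H, orderOf x = 9 → Commute g (x ^ 3) → g * x * g⁻¹ ∈ zpowers x) (x : H) :
    x ^ 3 = 1 := by
  by_contra hx
  have hz := D.cube_mem x
  have hxR : x ∉ commutator H := fun h => hx (D.R_cube h)
  haveI := Fact.mk Nat.prime_three
  have hord : orderOf x = 9 := by
    have h9 : x ^ 3 ^ (1 + 1) = 1 := by
      rw [pow_succ, pow_one, pow_mul]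
      exact D.cube_one D.inv_Z D.Z_props.1 (fun a ha b _ => (D.Z_central ha b).eq) hz
    rw [orderOf_eq_prime_pow (p := 3) (n := 1) (by simpa using hx) h9]
    norm_num
  let S : Subgroup H := (center (H ⧸ Z (H := H))).comap (QuotientGroup.mk' _)
  have hxS : x ∈ S := by
    refine mem_center_iff.2 fun gq => ?_
    obtain ⟨g, rfl⟩ := QuotientGroup.mk'_surjective _ gq
    rw [← commutatorElement_eq_one_iff_mul_comm, ← map_commutatorElement, QuotientGroup.mk'_apply,
      QuotientGroup.eq_one_iff]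
    obtain ⟨i, hi⟩ := mem_zpowers_iff.1 (hTI x g hord (D.Z_central hz g).symm)
    have he : x ^ (i - 1) = ⁅g, x⁆ := by rw [zpow_sub, zpow_one, hi, commutatorElement_def]
    rw [← he]
    by_cases h3 : (3 : ℤ) ∣ i - 1
    · obtain ⟨c, hc⟩ := h3
      rw [hc, zpow_mul]
      exact zpow_mem (by exact_mod_cast hz) c
    · exfalso
      refine hxR ?_
      have hR : x ^ (i - 1) ∈ commutator H := he ▸ commutator_mem_commutator (mem_top g) (mem_top x)
      have hco : IsCoprime (i - 1) (9 : ℤ) := by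
        have : IsCoprime (3 : ℤ) (i - 1) := (Prime.coprime_iff_not_dvd Int.prime_three).2 h3
        have h9 := this.symm.pow_right (n := 2)
        norm_num at h9
        exact h9
      obtain ⟨a, b, hab⟩ := hco
      have h9' : x ^ (9 : ℤ) = 1 := by
        rw [show (9 : ℤ) = ((9 : ℕ) : ℤ) by norm_num, zpow_natCast, ← hord, pow_orderOf_eq_one]
      have e : x = (x ^ (i - 1)) ^ a := by
        conv_lhs => rw [← zpow_one x, ← hab, zpow_add, mul_comm b, zpow_mul x 9, h9', one_zpow, mul_one,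
          mul_comm, zpow_mul]
      rw [e]; exact zpow_mem hR a
  have hSinv : D.Inv S := fun y hy => by
    refine mem_center_iff.2 fun gq => ?_
    obtain ⟨g, rfl⟩ := QuotientGroup.mk'_surjective _ gq
    obtain ⟨g', rfl⟩ := D.σ.surjective g
    rw [← commutatorElement_eq_one_iff_mul_comm, ← map_commutatorElement, QuotientGroup.mk'_apply,
      QuotientGroup.eq_one_iff, ← map_commutatorElement]
    refine D.inv_Z _ ((QuotientGroup.eq_one_iff _).1 ?_)
    rw [← QuotientGroup.mk'_apply, map_commutatorElement, commutatorElement_eq_one_iff_mul_comm]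
    exact mem_center_iff.1 hy _
  have hRS : commutator H ≤ S := fun y hy => mem_center_iff.2 fun gq => by
    obtain ⟨g, rfl⟩ := QuotientGroup.mk'_surjective _ gq
    exact (central_mod_Z hy g).symm
  obtain ⟨i, hi⟩ := D.card_inv hSinv
  have hlt : Nat.card ↥(commutator H) < Nat.card ↥S := by
    by_contra hge
    exact hxR (eq_of_le_of_card_ge hRS (not_lt.1 hge) ▸ hxS)
  rw [hi, D.card_R] at hlt
  have hi2 := (Nat.pow_lt_pow_iff_right D.q_gt).1 hlt
  have hStop : S = ⊤ := by
    refine eq_top_of_card_eq _ (le_antisymm (card_le_card_group S) ?_)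
    rw [hi, D.card_H]
    exact Nat.pow_le_pow_right (by positivity) hi2
  refine D.comm_ne (ne_bot_of_card D.card_R (Nat.one_lt_pow (by norm_num) D.q_gt))
    (le_antisymm Z_le_R (R_le_of_quot_comm fun a b => ?_))
  have ha : a ∈ S := hStop ▸ mem_top a
  exact (mem_center_iff.1 ha _).symm

end Big

end Cfsg.Agent.Invol.CycTI.Ree
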