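import Cfsg.Agent.Lib.Char.Exceptional
import Cfsg.Agent.Lib.Invol.CycTI.Ree.Bessel
import Mathlib.GroupTheory.Abelianization.Defs
import Mathlib.GroupTheory.FiniteAbelian.Duality

/-!
Linear characters of a TI subgroup, their orbits under the normaliser and the inner products of their
induced differences.
-/

set_option autoImplicit false
set_option linter.unusedSectionVars false
set_option linter.style.haveILetI false

namespace Cfsg.Agent.Invol.CycTI.Ree

open Cfsg Subgroup
open scoped ComplexConjugate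
open scoped _root_.Classical

universe u

variable {G : Type u} [Group G]

/-- Distinct conjugates meet trivially. -/
def IsTI (P : Subgroup G) : Prop :=
  ∀ g : G, g ∉ normalizer (P : Set G) → ∀ x ∈ P, g * x * g⁻¹ ∈ P → x = 1

/-- The linear characters. -/
abbrev Lin (P : Subgroup G) := ↥P →* ℂˣ

/-- As functions. -/
def fn {P : Subgroup G} (φ : Lin P) : ↥P → ℂ := fun x => (φ x : ℂ)

variable {P : Subgroup G}

theorem fn_inj : Function.Injective (fn (P := P)) := fun _ _ h =>
  MonoidHom.ext fun x => Units.ext (congrFun h x)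

/-- Conjugation by an element of the normaliser. -/
def cj (n : ↥(normalizer (P : Set G))) : ↥P →* ↥P :=
  ((MulAut.conj (n : G)⁻¹).toMonoidHom.comp P.subtype).codRestrict P fun x =>
    (mem_normalizer_iff.1 (inv_mem n.2) (x : G)).1 x.2

theorem cj_coe (n : ↥(normalizer (P : Set G))) (x : ↥P) : (cj n x : G) = (n : G)⁻¹ * x * n := by
  show (n : G)⁻¹ * (x : G) * ((n : G)⁻¹)⁻¹ = _
  rw [inv_inv]

theorem cj_bijective (n : ↥(normalizer (P : Set G))) : Function.Bijective (cj n) :=
  Function.bijective_iff_has_inverse.2 ⟨cj n⁻¹, fun x => Subtype.ext (by simp [cj_coe, mul_assoc]),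
    fun x => Subtype.ext (by simp [cj_coe, mul_assoc])⟩

/-- The normaliser acting on linear characters. -/
def move (n : ↥(normalizer (P : Set G))) (φ : Lin P) : Lin P := φ.comp (cj n)

theorem move_one (φ : Lin P) : move 1 φ = φ :=
  MonoidHom.ext fun x => congrArg φ (Subtype.ext (by simp [cj_coe]))

theorem move_mul (a b : ↥(normalizer (P : Set G))) (φ : Lin P) : move (a * b) φ = move a (move b φ) :=
  MonoidHom.ext fun x => congrArg φ (Subtype.ext (by rw [cj_coe, cj_coe, cj_coe, Subgroup.coe_mul]; group))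

theorem move_inv_move (a : ↥(normalizer (P : Set G))) (φ : Lin P) : move a⁻¹ (move a φ) = φ := by
  rw [← move_mul, inv_mul_cancel, move_one]

theorem move_triv (n : ↥(normalizer (P : Set G))) : move n (1 : Lin P) = 1 := MonoidHom.ext fun _ => rfl

theorem move_mem {n : ↥(normalizer (P : Set G))} (hn : (n : G) ∈ P) (φ : Lin P) : move n φ = φ := by
  refine MonoidHom.ext fun x => ?_
  show φ (cj n x) = φ x
  rw [show cj n x = (⟨(n : G), hn⟩ : ↥P)⁻¹ * x * ⟨(n : G), hn⟩ from Subtype.ext (by rw [cj_coe]; rfl), map_mul,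
    map_mul, map_inv, mul_comm ((φ ⟨(n : G), hn⟩)⁻¹) (φ x), mul_assoc, inv_mul_cancel, mul_one]

/-- An element fixing no nontrivial element of `P` fixes no nontrivial linear character. -/
theorem eq_one_of_fixed [Finite G] {n : ↥(normalizer (P : Set G))}
    (hfpf : ∀ x ∈ P, (n : G) * x = x * (n : G) → x = 1) {φ : Lin P} (hφ : move n φ = φ) : φ = 1 := by
  let δ : ↥P → ↥P := fun x => x⁻¹ * cj n x
  have hδ : Function.Injective δ := by
    intro a b hab
    have e : cj n (b * a⁻¹) = b * a⁻¹ := by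
      have hab' : a⁻¹ * cj n a = b⁻¹ * cj n b := hab
      rw [map_mul, map_inv, show cj n b = b * a⁻¹ * cj n a by rw [mul_assoc, hab']; group]
      group
    have h := hfpf _ (b * a⁻¹).2 (by
      have e' := congrArg Subtype.val e
      rw [cj_coe] at e'
      conv_lhs => rw [← e']
      group)
    exact (mul_inv_eq_one.1 (Subtype.ext h)).symm
  refine MonoidHom.ext fun y => ?_
  obtain ⟨x, rfl⟩ := (Finite.injective_iff_surjective.1 hδ) y
  rw [MonoidHom.one_apply]
  show φ (x⁻¹ * cj n x) = 1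
  rw [map_mul, map_inv, show φ (cj n x) = φ x from DFunLike.congr_fun hφ x, inv_mul_cancel]

/-- The number of elements of the normaliser taking `ψ` to `φ`. -/
noncomputable def cnt (φ ψ : Lin P) : ℕ :=
  Nat.card {n : ↥(normalizer (P : Set G)) // move n ψ = φ}

theorem cnt_zero {φ ψ : Lin P} (h : ∀ n, move n ψ ≠ φ) : cnt φ ψ = 0 :=
  Nat.card_eq_zero.2 (Or.inl ⟨fun n => h n.1 n.2⟩)

theorem cnt_trans {φ ψ : Lin P} {n₀ : ↥(normalizer (P : Set G))} (h : move n₀ ψ = φ) :
    cnt φ ψ = cnt ψ ψ :=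
  Nat.card_congr ((Equiv.mulLeft n₀⁻¹).subtypeEquiv fun n => by
    show move n ψ = φ ↔ move (n₀⁻¹ * n) ψ = ψ
    rw [move_mul]
    exact ⟨fun e => by rw [e, ← h, move_inv_move], fun e =>
      calc move n ψ = move n₀ (move n₀⁻¹ (move n ψ)) := by rw [← move_mul n₀, mul_inv_cancel, move_one]
        _ = φ := by rw [e, h]⟩)

section Fin

variable [Fintype G]

theorem isIrr_fn (φ : Lin P) : IsIrrCharacter ↥P (fn φ) := Char.isIrr_linear φ

theorem cnt_le (φ ψ : Lin P) : cnt φ ψ ≤ cnt ψ ψ := by
  by_cases h : ∃ n, move n ψ = φ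
  · obtain ⟨n, hn⟩ := h
    exact (cnt_trans hn).le
  · push Not at h
    rw [cnt_zero h]; exact Nat.zero_le _

theorem cnt_one : cnt (1 : Lin P) 1 = Nat.card ↥(normalizer (P : Set G)) :=
  Nat.card_congr (Equiv.subtypeUnivEquiv fun n => move_triv n)

theorem card_le_cnt (φ : Lin P) : Nat.card ↥P ≤ cnt φ φ :=
  Nat.card_le_card_of_injective
    (fun x : ↥P => (⟨⟨x, le_normalizer x.2⟩, move_mem x.2 φ⟩ : {n : ↥(normalizer (P : Set G)) // move n φ = φ}))
    fun _ _ h => Subtype.ext (congrArg (fun m : {n : ↥(normalizer (P : Set G)) // move n φ = φ} => (m.1 : G)) h)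

/-- The stabiliser inside `K` gives an upper bound. -/
theorem cnt_self_le (φ : Lin P) (K : Subgroup G) (hK : ∀ n, move n φ = φ → (n : G) ∈ K) :
    cnt φ φ ≤ Nat.card ↥K :=
  Nat.card_le_card_of_injective
    (fun n : {n : ↥(normalizer (P : Set G)) // move n φ = φ} => (⟨(n.1 : G), hK n.1 n.2⟩ : ↥K))
    fun a b h => Subtype.ext (Subtype.ext (congrArg (fun x : ↥K => (x : G)) h))

variable [Fintype ↥P]

theorem inner_fn (φ ψ : Lin P) : classInner (fn φ) (fn ψ) = if φ = ψ then 1 else 0 := by
  rw [Char.classInner_irr_eq_ite (isIrr_fn φ) (isIrr_fn ψ)]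
  exact if_congr fn_inj.eq_iff rfl rfl

theorem ind_apply (hTI : IsTI P) {h : ↥P → ℂ} (h1 : h 1 = 0) (x : ↥P) :
    indFun P h (x : G) = (Nat.card ↥P : ℂ)⁻¹ * ∑ n : ↥(normalizer (P : Set G)), h (cj n x) := by
  unfold indFun
  congr 1
  have hout : ∀ g : G, g ∉ normalizer (P : Set G) → extendByZero P h (g⁻¹ * x * g) = 0 := by
    intro g hg
    by_cases hmem : g⁻¹ * (x : G) * g ∈ P
    · have hx : (x : G) = 1 := hTI g⁻¹ (fun h' => hg (by simpa using inv_mem h')) x x.2 (by rwa [inv_inv])
      rw [show g⁻¹ * (x : G) * g = ((1 : ↥P) : G) by rw [hx]; simp, Char.extendByZero_apply, h1]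
    · exact Char.extendByZero_not_mem _ hmem
  rw [← Finset.sum_subset (Finset.subset_univ (Finset.univ.map (Function.Embedding.subtype
    fun g => g ∈ normalizer (P : Set G)))) (fun g _ hg => hout g (fun hh => hg (by simp [hh]))),
    Finset.sum_map]
  refine Finset.sum_congr rfl fun n _ => ?_
  rw [show (Function.Embedding.subtype _) n = (n : G) from rfl, ← cj_coe, Char.extendByZero_apply]

/-- The induced function at a nontrivial element of `P`. -/
theorem ind_apply_ne (hTI : IsTI P) (h : ↥P → ℂ) {x : ↥P} (hx1 : (x : G) ≠ 1) :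
    indFun P h (x : G) = (Nat.card ↥P : ℂ)⁻¹ * ∑ n : ↥(normalizer (P : Set G)), h (cj n x) := by
  unfold indFun
  congr 1
  have hout : ∀ g : G, g ∉ normalizer (P : Set G) → extendByZero P h (g⁻¹ * x * g) = 0 := fun g hg =>
    Char.extendByZero_not_mem _ fun hmem =>
      hx1 (hTI g⁻¹ (fun h' => hg (by simpa using inv_mem h')) x x.2 (by rwa [inv_inv]))
  rw [← Finset.sum_subset (Finset.subset_univ (Finset.univ.map (Function.Embedding.subtype
    fun g => g ∈ normalizer (P : Set G)))) (fun g _ hg => hout g (fun hh => hg (by simp [hh]))),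
    Finset.sum_map]
  refine Finset.sum_congr rfl fun n _ => ?_
  rw [show (Function.Embedding.subtype _) n = (n : G) from rfl, ← cj_coe, Char.extendByZero_apply]

/-- The inner products of the induced differences. -/
theorem ind_inner (hTI : IsTI P) (φ φ' ψ ψ' : Lin P) :
    classInner (indFun P (fn φ) - indFun P (fn φ')) (indFun P (fn ψ) - indFun P (fn ψ')) =
      (Nat.card ↥P : ℂ)⁻¹ * ((cnt φ ψ : ℂ) - cnt φ ψ' - cnt φ' ψ + cnt φ' ψ') := by
  rw [← Char.indFun_sub, ← Char.indFun_sub, Char.classInner_indFun _ _ (Char.indFun_classFun _ _)]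
  have h1 : (fn ψ - fn ψ') 1 = 0 := by simp [fn]
  have hres : (fun x : ↥P => indFun P (fn ψ - fn ψ') (x : G)) =
      (Nat.card ↥P : ℂ)⁻¹ • ∑ n : ↥(normalizer (P : Set G)), (fn (move n ψ) - fn (move n ψ')) := by
    funext x
    rw [ind_apply hTI h1 x, Pi.smul_apply, Finset.sum_apply, smul_eq_mul]
    rfl
  rw [hres, Char.classInner_smul_right, map_inv₀, Complex.conj_natCast, Char.classInner_sum_right]
  congr 1
  have hc : ∀ α β : Lin P, (cnt α β : ℂ) = ∑ n : ↥(normalizer (P : Set G)),
      (if α = move n β then (1 : ℂ) else 0) := fun α β => by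
    rw [← Finset.sum_filter, Finset.sum_const, nsmul_eq_mul, mul_one, cnt, Nat.card_eq_fintype_card,
      Fintype.card_subtype]
    exact congrArg (fun s : Finset _ => ((Finset.card s : ℕ) : ℂ)) (Finset.filter_congr fun n _ => eq_comm)
  rw [hc, hc, hc, hc, ← Finset.sum_sub_distrib, ← Finset.sum_sub_distrib, ← Finset.sum_add_distrib]
  refine Finset.sum_congr rfl fun n _ => ?_
  rw [Char.Exceptional.classInner_sub_sub, inner_fn, inner_fn, inner_fn, inner_fn]

/-- Two linear characters agreeing on all conjugates of `g` in `P` induce to the same value at `g`. -/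
theorem ind_apply_eq {φ ψ : Lin P} {g : G}
    (h : ∀ (x : G) (hx : x⁻¹ * g * x ∈ P), φ ⟨x⁻¹ * g * x, hx⟩ = ψ ⟨x⁻¹ * g * x, hx⟩) :
    indFun P (fn φ) g = indFun P (fn ψ) g := by
  rw [← sub_eq_zero, ← Pi.sub_apply, ← Char.indFun_sub]
  exact Char.indFun_eq_zero_of_not_conj _ _ fun x hx => by
    simp only [Pi.sub_apply, fn, h x hx, sub_self]

theorem isGenChar_diff (φ ψ : Lin P) : IsGeneralizedCharacter G (indFun P (fn φ) - indFun P (fn ψ)) := by
  rw [← Char.indFun_sub]
  exact Char.IsGenChar.ind _ ⟨_, _, Char.IsIrr.isCharacter (isIrr_fn φ), Char.IsIrr.isCharacter (isIrr_fn ψ), rfl⟩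

theorem diff_one (φ ψ : Lin P) : indFun P (fn φ) 1 = indFun P (fn ψ) 1 := by
  rw [Char.indFun_one_eq, Char.indFun_one_eq]
  simp [fn]

/-- The multiplicity of a linear character in a character of `G`. -/
theorem exists_mult {θ : G → ℂ} (hθ : IsIrrCharacter G θ) (φ : Lin P) :
    ∃ k : ℕ, classInner (fn φ) (fun x : ↥P => θ x) = k ∧ classInner (indFun P (fn φ)) θ = k := by
  obtain ⟨k, hk⟩ := Char.IsChar.classInner_nat (Char.IsIrr.isCharacter (isIrr_fn φ))
    (Char.IsChar.res (Char.IsIrr.isCharacter hθ) P)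
  exact ⟨k, hk, (Char.classInner_indFun _ _ (Char.IsIrr.classFun hθ)).trans hk⟩

theorem mult_move {θ : G → ℂ} (hθ : IsClassFunction G θ) (n : ↥(normalizer (P : Set G))) (φ : Lin P) :
    classInner (fn (move n φ)) (fun x : ↥P => θ x) = classInner (fn φ) (fun x : ↥P => θ x) := by
  unfold classInner
  congr 1
  refine Fintype.sum_bijective _ (cj_bijective n) _ _ fun x => ?_
  show (φ (cj n x) : ℂ) * conj (θ (x : G)) = (φ (cj n x) : ℂ) * conj (θ (cj n x : G))
  rw [cj_coe, show (n : G)⁻¹ * (x : G) * n = (n : G)⁻¹ * x * ((n : G)⁻¹)⁻¹ by rw [inv_inv], hθ]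

/-- There are finitely many linear characters. -/
theorem finite_lin : Finite (Lin P) :=
  Finite.of_injective (fun φ : Lin P => (⟨fn φ, isIrr_fn φ⟩ : IrrCharacter ↥P))
    fun _ _ h => fn_inj (congrArg Subtype.val h)

/-- The number of linear characters. -/
theorem card_lin : Nat.card (Lin P) = (commutator ↥P).index := by
  rw [Nat.card_congr (Abelianization.lift (G := ↥P) (A := ℂˣ)),
    CommGroup.card_monoidHom_of_hasEnoughRootsOfUnity]
  rfl

/-- The sum of the linear characters. -/
theorem sum_lin [Fintype (Lin P)] (x : ↥P) :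
    ∑ φ : Lin P, (φ x : ℂ) = if x ∈ commutator ↥P then (Nat.card (Lin P) : ℂ) else 0 := by
  split_ifs with hx
  · rw [Finset.sum_congr rfl (fun φ _ => show (φ x : ℂ) = 1 by
      rw [show φ x = 1 from Abelianization.commutator_subset_ker φ hx, Units.val_one]),
      Finset.sum_const, Finset.card_univ, nsmul_eq_mul, mul_one, Nat.card_eq_fintype_card]
  · obtain ⟨l, hl⟩ : ∃ l : Abelianization ↥P →* ℂˣ, l (Abelianization.of x) ≠ 1 := by
      by_contra hh
      push Not at hh
      exact hx ((QuotientGroup.eq_one_iff x).1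
        (Char.eq_one_of_forall_linear (G := Abelianization ↥P) (fun a b => mul_comm a b) hh))
    set ψ : Lin P := l.comp Abelianization.of with hψ
    have e : ∑ φ : Lin P, (φ x : ℂ) = (ψ x : ℂ) * ∑ φ : Lin P, (φ x : ℂ) := by
      rw [Finset.mul_sum]
      refine (Fintype.sum_bijective (ψ * ·) (Group.mulLeft_bijective ψ) _ _ fun φ => ?_).symm
      rw [MonoidHom.mul_apply, Units.val_mul]
    have h1 : (ψ x : ℂ) ≠ 1 := fun h => hl (Units.ext h)
    have e' : ((ψ x : ℂ) - 1) * ∑ φ : Lin P, (φ x : ℂ) = 0 := by rw [sub_mul, one_mul, ← e, sub_self]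
    exact (mul_eq_zero.1 e').resolve_left (sub_ne_zero.2 h1)

/-- Representatives of `n` orbits inside a set of characters whose orbits have at most `k` elements. -/
theorem exists_reps [Fintype (Lin P)] (Z : Finset (Lin P)) {k n : ℕ}
    (hk : ∀ φ ∈ Z, (Finset.univ.image fun a => move a φ).card ≤ k) (hn : (n - 1) * k < Z.card) :
    ∃ r : Fin n → Lin P, (∀ i, r i ∈ Z) ∧ ∀ i j, (∃ a, move a (r j) = r i) → i = j := by
  let O : Lin P → Finset (Lin P) := fun φ => Finset.univ.image fun a => move a φ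
  have hfib : Z.card ≤ k * (Z.image O).card :=
    Finset.card_le_mul_card_image Z k fun b hb => by
      obtain ⟨φ, hφ, rfl⟩ := Finset.mem_image.1 hb
      refine (Finset.card_le_card fun ψ hψ => ?_).trans (hk φ hφ)
      show ψ ∈ O φ
      rw [← show O ψ = O φ from (Finset.mem_filter.1 hψ).2]
      exact Finset.mem_image.2 ⟨1, Finset.mem_univ _, move_one ψ⟩
  have hle : n ≤ (Z.image O).card := by
    by_contra hlt
    push Not at hlt
    have : (Z.image O).card * k ≤ (n - 1) * k := Nat.mul_le_mul_right k (by omega)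
    rw [mul_comm k] at hfib
    omega
  obtain ⟨g⟩ := Function.Embedding.nonempty_of_card_le (α := Fin n) (β := ↥(Z.image O))
    (by rw [Fintype.card_fin, Fintype.card_coe]; exact hle)
  choose z hzZ hzO using fun b : ↥(Z.image O) => Finset.mem_image.1 b.2
  refine ⟨fun i => z (g i), fun i => hzZ _, fun i j ⟨a, ha⟩ => g.injective (Subtype.ext ?_)⟩
  rw [← hzO (g i), ← hzO (g j)]
  refine Finset.ext fun ψ => ?_
  simp only [O, Finset.mem_image, Finset.mem_univ, true_and]
  replace ha : move a (z (g j)) = z (g i) := ha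
  constructor
  · rintro ⟨b, rfl⟩
    exact ⟨b * a, by rw [move_mul, ha]⟩
  · rintro ⟨b, rfl⟩
    exact ⟨b * a⁻¹, by rw [move_mul, ← ha, move_inv_move]⟩

/-- An orbit times a stabiliser. -/
theorem card_orbit_mul (φ : Lin P) :
    (Finset.univ.image fun a => move a φ).card * cnt φ φ = Nat.card ↥(normalizer (P : Set G)) := by
  set s := Finset.univ.image fun a : ↥(normalizer (P : Set G)) => move a φ
  rw [Nat.card_eq_fintype_card, ← Finset.card_univ,
    Finset.card_eq_sum_card_fiberwise (f := fun a => move a φ) (t := s)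
      fun a _ => Finset.mem_image_of_mem _ (Finset.mem_univ a)]
  rw [Finset.sum_congr rfl (fun ψ hψ => ?_), Finset.sum_const, smul_eq_mul]
  obtain ⟨a, -, ha⟩ := Finset.mem_image.1 hψ
  rw [← cnt_trans ha, cnt, Nat.card_eq_fintype_card, Fintype.card_subtype]

end Fin

end Cfsg.Agent.Invol.CycTI.Ree
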