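import Cfsg.Agent.Lib.Invol.AbelTwo.ReeTrans.Action
import Cfsg.Agent.Lib.Invol.CycTI.Ree.TILin

/-!
# A group of Ree type with its Sylow 3-subgroup: orders and the torus facts
-/

set_option autoImplicit false
set_option linter.unusedSectionVars false
set_option linter.style.haveILetI false

namespace Cfsg.Agent.Invol.CycTI.Ree

open Subgroup
open scoped _root_.Classical
open Cfsg.Agent.Invol

universe u v

/-- The data and a Sylow 3-subgroup normalised by the torus. -/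
structure Sys (G : Type u) [Group G] (P : Type v) [Group P] where
  /-- the data -/
  S : AbelTwo.ReeTrans.Data G P
  /-- the Sylow subgroup -/
  Q : Subgroup G
  hc : Nat.card ↥Q = S.lp.D.q ^ 3
  hQ : IsPGroup 3 ↥Q
  hUQ : S.Um ≤ Q
  hT : S.T ≤ normalizer (Q : Set G)

/-- A `p`-element is conjugate into a subgroup whose index is prime to `p`. -/
theorem conj_into {G : Type u} [Group G] [Finite G] {A : Subgroup G} {a b p n : ℕ} (hp : p.Prime)
    (ha : Nat.card ↥A = a) (hab : Nat.card G = a * b) (hb : ¬ p ∣ b) {h : G} (hh : orderOf h = p ^ n) :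
    ∃ c : G, c * h * c⁻¹ ∈ A := by
  haveI := Fact.mk hp
  let R0 : Sylow p ↥A := default
  obtain ⟨R, hR⟩ := (R0.isPGroup'.map A.subtype).exists_le_sylow
  obtain ⟨i, hi⟩ := IsPGroup.iff_card.1 R.isPGroup'
  have hle : Nat.card ↥(R : Subgroup G) ≤ Nat.card ↥((R0 : Subgroup ↥A).map A.subtype) := by
    rw [card_map_of_injective A.subtype_injective, hi]
    refine Nat.le_of_dvd Nat.card_pos (R0.pow_dvd_card_of_pow_dvd_card ?_)
    rw [ha]
    refine ((hp.coprime_iff_not_dvd.2 hb).pow_left i).dvd_of_dvd_mul_right ?_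
    rw [← hab, ← hi]
    exact card_subgroup_dvd_card _
  have hRA : (R : Subgroup G) ≤ A := by
    rw [← eq_of_le_of_card_ge hR hle]
    exact map_subtype_le _
  obtain ⟨c, hc⟩ := Invol.exists_conj_mem_sylow hh R
  exact ⟨c, hRA hc⟩

namespace Sys

variable {G : Type u} [Group G] {P : Type v} [Group P] (X : Sys G P)

/-- The field size. -/
abbrev q : ℕ := X.S.lp.D.q

/-- The order of the split torus. -/
abbrev m : ℕ := X.S.lp.m

/-- The order of the odd part of the other torus. -/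
abbrev r : ℕ := X.S.lp.D.r

/-- The exponent of the field size. -/
abbrev e : ℕ := X.S.lp.e

/-- The involution. -/
abbrev t : G := X.S.t

/-- The embedding. -/
abbrev ι : P →* G := X.S.ι

theorem q_ge : 27 ≤ X.q := X.S.lp.q_ge

theorem q_m : X.q = 2 * X.m + 1 := X.S.lp.q_eq_m

theorem q_r : X.q + 1 = 4 * X.r := X.S.lp.q_eq_r

theorem m_ge : 13 ≤ X.m := by have := X.q_ge; have := X.q_m; omega

theorem r_ge : 7 ≤ X.r := by have := X.q_ge; have := X.q_r; omega

theorem three_q : 3 ∣ X.q := X.S.lp.three_dvd_q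

theorem q_three : X.q = 3 ^ X.e := X.S.lp.hqe

theorem q_odd : Odd X.q := X.S.lp.D.q_odd

theorem r_odd : Odd X.r := X.S.lp.D.r_odd

theorem m_odd : Odd X.m := X.S.lp.m_odd

theorem sq_sub : X.q ^ 2 - 1 = 8 * X.r * X.m := by
  have h : (X.q + 1) * (X.q - 1) = 4 * X.r * (2 * X.m) := by
    rw [X.q_r, show X.q - 1 = 2 * X.m by have := X.q_m; omega]
  rw [show X.q ^ 2 - 1 = X.q ^ 2 - 1 ^ 2 by norm_num, Nat.sq_sub_sq, h]
  ring

theorem qq_sub_add : X.q ^ 2 - X.q + 1 + X.q = X.q ^ 2 + 1 := by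
  have : X.q ≤ X.q ^ 2 := Nat.le_self_pow (by norm_num) _
  omega

theorem card_G : Nat.card G = X.q ^ 3 * (X.q ^ 2 - 1) * (X.q ^ 2 - X.q + 1) := by
  rw [X.S.card_G]
  have h1 : 1 ≤ X.q := by have := X.q_ge; omega
  have h2 : 1 ≤ X.q ^ 2 := Nat.one_le_pow _ _ h1
  have h3 : X.q ≤ X.q ^ 2 := Nat.le_self_pow (by norm_num) _
  show X.q ^ 3 * (X.q ^ 3 + 1) * (X.q - 1) = _
  zify [h1, h2, h3]
  ring

/-- The cofactor is prime to `q (q² - 1)`. -/
theorem coprime_w : Nat.Coprime (X.q ^ 2 - X.q + 1) (X.q * (X.q ^ 2 - 1)) := by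
  refine Nat.coprime_of_dvd fun p hp h1 h2 => ?_
  haveI := Fact.mk hp
  have e1 : ((X.q : ZMod p)) ^ 2 - X.q + 1 = 0 := by
    have h := (ZMod.natCast_eq_zero_iff _ p).2 h1
    push_cast [Nat.cast_sub (Nat.le_self_pow (two_ne_zero) X.q)] at h
    exact h
  rcases hp.dvd_mul.1 h2 with h | h
  · have e2 : (X.q : ZMod p) = 0 := (ZMod.natCast_eq_zero_iff _ p).2 h
    rw [e2] at e1
    simp at e1
  · have e2 : ((X.q : ZMod p)) ^ 2 - 1 = 0 := by
      have h := (ZMod.natCast_eq_zero_iff _ p).2 h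
      rw [Nat.cast_sub (Nat.one_le_pow _ _ (by have := X.q_ge; omega))] at h
      push_cast at h
      exact h
    have e3 : (X.q : ZMod p) = 2 := by linear_combination e2 - e1
    have e4 : ((3 : ℕ) : ZMod p) = 0 := by
      push_cast
      rw [e3] at e2
      linear_combination e2
    have hp3 : p = 3 := (Nat.prime_dvd_prime_iff_eq hp Nat.prime_three).1 ((ZMod.natCast_eq_zero_iff _ p).1 e4)
    subst hp3
    have e5 : X.q % 3 = 2 % 3 := (ZMod.natCast_eq_natCast_iff _ _ 3).1 (by rw [e3]; norm_num)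
    have := X.three_q
    omega

theorem tt : X.t * X.t = 1 := X.S.tt

theorem tc (k : P) : X.ι k * X.t = X.t * X.ι k := X.S.tc k

theorem ord_t : orderOf X.t = 2 := X.S.B.ht

theorem t_ne : X.t ≠ 1 := fun h => by
  have h' := X.ord_t; rw [h, orderOf_one] at h'; omega

theorem t_mem : X.t ∈ X.S.T := mem_sup_left (mem_zpowers _)

theorem Ym_le : X.S.Ym ≤ X.S.T := le_sup_right

theorem T_comm {a b : G} (ha : a ∈ X.S.T) (hb : b ∈ X.S.T) : a * b = b * a := by
  obtain ⟨y, hy, ha'⟩ := X.S.mem_T ha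
  obtain ⟨z, hz, hb'⟩ := X.S.mem_T hb
  have hyz : Commute (X.ι y) (X.ι z) := (show Commute y z from X.S.lp.K.Y_comm y hy z hz).map X.ι
  have hty : Commute X.t (X.ι y) := (X.tc y).symm
  have htz : Commute X.t (X.ι z) := (X.tc z).symm
  rcases ha' with rfl | rfl <;> rcases hb' with rfl | rfl
  · exact hyz
  · exact (hty.symm.mul_right hyz)
  · exact (htz.mul_left hyz)
  · exact ((Commute.refl X.t).mul_right htz).mul_left (hty.symm.mul_right hyz)

theorem mem_Ym {y : P} (hy : y ∈ X.S.lp.K.Y) : X.ι y ∈ X.S.Ym := ⟨y, hy, rfl⟩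

variable [Finite G]

theorem card_T : Nat.card ↥X.S.T = X.q - 1 := X.S.card_T

theorem card_N : Nat.card ↥(normalizer (X.Q : Set G)) = X.q ^ 3 * (X.q - 1) := by
  have h := (normalizer (X.Q : Set G)).card_mul_index
  rw [(X.S.double_coset X.hc X.hQ X.hUQ X.hT).1, X.S.card_G] at h
  refine Nat.eq_of_mul_eq_mul_right (Nat.succ_pos (X.q ^ 3)) ?_
  show _ * (X.q ^ 3 + 1) = _ * (X.q ^ 3 + 1)
  rw [h]; ring

theorem N_eq : X.S.T ⊔ X.Q = normalizer (X.Q : Set G) :=
  eq_of_le_of_card_ge (sup_le X.hT le_normalizer)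
    (le_of_eq (by rw [X.card_N, X.S.card_QT X.hc X.hQ X.hUQ X.hT]))

theorem N_elim {n : G} (hn : n ∈ normalizer (X.Q : Set G)) : ∃ τ ∈ X.S.T, ∃ x ∈ X.Q, n = τ * x := by
  rw [← X.N_eq, ← SetLike.mem_coe, coe_mul_of_left_le_normalizer_right _ _ X.hT] at hn
  obtain ⟨τ, hτ, x, hx, rfl⟩ := hn
  exact ⟨τ, hτ, x, hx, rfl⟩

/-- The Sylow subgroup is TI. -/
theorem isTI : IsTI X.Q := by
  intro g hg x hx hgx
  obtain ⟨p, hp, n, hn, rfl⟩ := (X.S.double_coset X.hc X.hQ X.hUQ X.hT).2 g hg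
  have hz : n * x * n⁻¹ ∈ X.Q := (mem_normalizer_iff.1 hn x).1 hx
  have hw : X.S.w * (n * x * n⁻¹) * X.S.w⁻¹ ∈ X.Q := by
    have h' := mul_mem (mul_mem (inv_mem hp) hgx) hp
    rwa [show p⁻¹ * (p * X.S.w * n * x * (p * X.S.w * n)⁻¹) * p =
      X.S.w * (n * x * n⁻¹) * X.S.w⁻¹ by group] at h'
  exact conj_eq_one_iff.1 (X.S.inter_eq X.hc X.hQ X.hUQ X.hT hz hw)

theorem three_mem {x : G} {j : ℕ} (hj : x ^ 3 ^ j = 1) (hx : x ∈ normalizer (X.Q : Set G)) : x ∈ X.Q :=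
  X.S.three_mem X.hc X.hQ X.hUQ X.hT hj hx

theorem pow_Q {x : G} (hx : x ∈ X.Q) : x ^ 3 ^ (3 * X.e) = 1 := by
  have h : x ^ Nat.card ↥X.Q = 1 := congrArg Subtype.val (pow_card_eq_one' (x := (⟨x, hx⟩ : ↥X.Q)))
  rwa [X.hc, X.S.lp.hqe, ← pow_mul, mul_comm] at h

theorem pow_T {x : G} (hx : x ∈ X.S.T) : x ^ (X.q - 1) = 1 := by
  have h : x ^ Nat.card ↥X.S.T = 1 := congrArg Subtype.val (pow_card_eq_one' (x := (⟨x, hx⟩ : ↥X.S.T)))
  rwa [X.card_T] at h

theorem three_not_dvd : ¬ 3 ∣ X.q - 1 := by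
  have := X.three_q; have := X.q_ge; omega

theorem T_inf_Q {x : G} (hT : x ∈ X.S.T) (hQ : x ∈ X.Q) : x = 1 := by
  have h : x ^ Nat.gcd (X.q - 1) (3 ^ (3 * X.e)) = 1 := pow_gcd_eq_one.2 ⟨X.pow_T hT, X.pow_Q hQ⟩
  rwa [((Nat.prime_three.coprime_iff_not_dvd.2 X.three_not_dvd).pow_left _).symm.gcd_eq_one, pow_one] at h

theorem cent_ym {y : P} (hy : y ∈ X.S.lp.K.Y) (hy1 : y ≠ 1) {x : G} (hx : x * X.ι y = X.ι y * x) :
    x ∈ X.S.T := by
  obtain ⟨z, hz, rfl | rfl⟩ := X.S.cent_y hy hy1 hx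
  · exact X.Ym_le (X.mem_Ym hz)
  · exact mul_mem X.t_mem (X.Ym_le (X.mem_Ym hz))

/-- The split torus acts without fixed points on `Q`. -/
theorem y_fpf {y : P} (hy : y ∈ X.S.lp.K.Y) (hy1 : y ≠ 1) {x : G} (hx : x ∈ X.Q)
    (h : X.ι y * x = x * X.ι y) : x = 1 :=
  X.T_inf_Q (X.cent_ym hy hy1 h.symm) hx

/-- The fixed points of the involution on `Q`. -/
theorem t_fix {x : G} (hx : x ∈ X.Q) (h : x * X.t = X.t * x) : x ∈ X.S.Um := X.S.fix_eq X.hQ X.hUQ hx h

theorem Um_fix {x : G} (hx : x ∈ X.S.Um) : x * X.t = X.t * x := by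
  obtain ⟨k, -, rfl⟩ := hx
  exact X.tc k

theorem card_Um : Nat.card ↥X.S.Um = X.q := X.S.card_Um

theorem card_C : Nat.card ↥(centralizer ({X.t} : Set G)) = X.q * (X.q ^ 2 - 1) := by
  haveI := X.S.lp.finiteP
  let f : Bool × P → ↥(centralizer ({X.t} : Set G)) := fun p =>
    ⟨(if p.1 then X.t else 1) * X.ι p.2, mem_centralizer_singleton_iff.2 (by
      split_ifs
      · calc X.t * X.ι p.2 * X.t = X.t * (X.ι p.2 * X.t) := mul_assoc _ _ _
          _ = _ := by rw [X.tc]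
      · rw [one_mul, X.tc])⟩
  have hf : Function.Bijective f := by
    constructor
    · rintro ⟨a, k⟩ ⟨b, l⟩ h
      have h' : (if a then X.t else 1) * X.ι k = (if b then X.t else 1) * X.ι l := congrArg Subtype.val h
      rcases a <;> rcases b <;> simp at h'
      · rw [X.S.B.inj h']
      · exact absurd h' (X.S.B.ι_ne_tι k l)
      · exact absurd h'.symm (X.S.B.ι_ne_tι l k)
      · rw [X.S.B.inj h']
    · rintro ⟨c, hc⟩
      obtain ⟨k, hk | hk⟩ := X.S.B.cover c (mem_centralizer_singleton_iff.1 hc)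
      · exact ⟨(false, k), Subtype.ext (by simp [f, hk])⟩
      · exact ⟨(true, k), Subtype.ext (by simp [f, hk])⟩
  rw [← Nat.card_congr (Equiv.ofBijective f hf), Nat.card_prod, Nat.card_eq_fintype_card, Fintype.card_bool,
    mul_comm, X.S.lp.D.card_P, show X.q ^ 2 - 1 = (X.q + 1) * (X.q - 1) by simpa using Nat.sq_sub_sq X.q 1,
    mul_comm (X.q + 1)]

theorem one_class {s : G} (hs : orderOf s = 2) : ∃ c : G, c * X.t * c⁻¹ = s :=
  isConj_iff.1 (X.S.loc.one_class s hs)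

theorem card_invol : Nat.card {s : G // orderOf s = 2} = X.q ^ 2 * (X.q ^ 2 - X.q + 1) := by
  have h : Nat.card {s : G // orderOf s = 2} = (centralizer ({X.t} : Set G)).index := by
    rw [← Char.card_conjClass]
    refine Nat.card_congr (Equiv.subtypeEquivRight fun s => ⟨fun hs => X.S.loc.one_class s hs, fun hs => ?_⟩)
    obtain ⟨c, rfl⟩ := isConj_iff.1 hs
    exact (orderOf_injective (MulAut.conj c).toMonoidHom (MulAut.conj c).injective X.t).trans X.ord_t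
  have h2 := (centralizer ({X.t} : Set G)).card_mul_index
  rw [X.card_C, ← h, X.card_G] at h2
  refine Nat.eq_of_mul_eq_mul_left (show 0 < X.q * (X.q ^ 2 - 1) from Nat.mul_pos (by have := X.q_ge; omega) ?_) ?_
  · have := X.sq_sub; have := X.r_ge; have := X.m_ge
    rw [X.sq_sub]; positivity
  · rw [h2]; ring

end Sys

end Cfsg.Agent.Invol.CycTI.Ree
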