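import Cfsg.Agent.Lib.Invol.CycTI.Ree.Sys

/-!
# A group of Ree type: element classes and centralisers
-/

set_option autoImplicit false
set_option linter.unusedSectionVars false
set_option linter.style.haveILetI false

namespace Cfsg.Agent.Invol.CycTI.Ree

open Subgroup
open scoped _root_.Classical

universe u v

namespace Sys

variable {G : Type u} [Group G] {P : Type v} [Group P] (X : Sys G P)

/-- The fixing involution inside the second factor. -/
abbrev u : G := X.ι X.S.lp.D.u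

/-- The centraliser of the torus of order `r`. -/
def Cz : Subgroup G := centralizer ((X.S.lp.D.Y.map X.ι : Subgroup G) : Set G)

theorem uu : X.u * X.u = 1 := by rw [u, ← map_mul, X.S.lp.D.u2, map_one]

theorem u_ne : X.u ≠ 1 := fun h => X.S.lp.D.u1 (X.S.B.inj (h.trans (map_one X.ι).symm))

theorem ord_u : orderOf X.u = 2 := orderOf_eq_prime (by rw [pow_two, X.uu]) X.u_ne

theorem tu : X.u * X.t = X.t * X.u := X.tc _

variable [Finite G]

theorem cent_z {y : P} (hy : y ∈ X.S.lp.D.Y) (hy1 : y ≠ 1) {x : G} (hx : x * X.ι y = X.ι y * x) :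
    ∃ z ∈ X.S.lp.D.Y, ∃ i j : Bool, x = (if i then X.t else 1) * X.ι ((if j then X.S.lp.D.u else 1) * z) := by
  have hD := X.S.hBD
  obtain ⟨z, hz, h⟩ := X.S.loc.cent_y y (by rw [hD]; exact hy) hy1 x hx
  rw [hD] at hz h
  refine ⟨z, hz, ?_⟩
  rcases h with rfl | rfl | rfl | rfl
  · exact ⟨false, false, by simp⟩
  · exact ⟨true, false, by simp⟩
  · exact ⟨false, true, by simp [map_mul]⟩
  · exact ⟨true, true, by simp [map_mul, mul_assoc]⟩

theorem exists_z : ∃ y ∈ X.S.lp.D.Y, y ≠ 1 := by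
  by_contra hh
  push Not at hh
  have h := X.S.lp.D.card_Y
  rw [(eq_bot_iff_forall _).2 hh, card_bot] at h
  have := X.S.lp.D.r3
  omega

theorem D_Y_comm {a b : P} (ha : a ∈ X.S.lp.D.Y) (hb : b ∈ X.S.lp.D.Y) : Commute a b := by
  haveI := X.S.lp.D.Y_cyclic
  exact congrArg Subtype.val (mul_comm' (⟨a, ha⟩ : ↥X.S.lp.D.Y) ⟨b, hb⟩)

theorem form_commute {z z' : P} (hz : z ∈ X.S.lp.D.Y) (hz' : z' ∈ X.S.lp.D.Y) (i j i' j' : Bool) :
    Commute ((if i then X.t else 1) * X.ι ((if j then X.S.lp.D.u else 1) * z))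
      ((if i' then X.t else 1) * X.ι ((if j' then X.S.lp.D.u else 1) * z')) := by
  set D := X.S.lp.D
  have hu : ∀ {w : P}, w ∈ D.Y → Commute D.u w := fun hw => D.u_Y _ hw
  have hP : ∀ (j j' : Bool), Commute ((if j then D.u else 1) * z) ((if j' then D.u else 1) * z') := by
    intro j j'
    refine Commute.mul_left (Commute.mul_right ?_ ?_) (Commute.mul_right ?_ ?_)
    · rcases j <;> rcases j' <;> simp
    · rcases j <;> simp [hu hz']
    · rcases j' <;> simp [(hu hz).symm]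
    · exact X.D_Y_comm hz hz'
  have hti : ∀ (b : Bool) (k : P), Commute (if b then X.t else 1) (X.ι k) := fun b k => by
    rcases b
    · exact Commute.one_left _
    · exact (X.tc k).symm
  refine Commute.mul_left (Commute.mul_right ?_ ?_) (Commute.mul_right ?_ ?_)
  · rcases i <;> rcases i' <;> simp
  · exact hti _ _
  · exact (hti _ _).symm
  · exact (hP j j').map X.ι

theorem form_mem {z : P} (hz : z ∈ X.S.lp.D.Y) (i j : Bool) :
    (if i then X.t else 1) * X.ι ((if j then X.S.lp.D.u else 1) * z) ∈ X.Cz := by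
  refine mem_centralizer_iff.2 ?_
  rintro _ ⟨w, hw, rfl⟩
  simpa using (X.form_commute hw hz false false i j).eq

theorem Cz_elim {x : G} (hx : x ∈ X.Cz) :
    ∃ z ∈ X.S.lp.D.Y, ∃ i j : Bool, x = (if i then X.t else 1) * X.ι ((if j then X.S.lp.D.u else 1) * z) := by
  obtain ⟨y, hy, hy1⟩ := X.exists_z
  exact X.cent_z hy hy1 ((mem_centralizer_iff.1 hx _ ⟨y, hy, rfl⟩).symm)

theorem cent_z_mem {y : P} (hy : y ∈ X.S.lp.D.Y) (hy1 : y ≠ 1) {x : G} (hx : x * X.ι y = X.ι y * x) :
    x ∈ X.Cz := by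
  obtain ⟨z, hz, i, j, rfl⟩ := X.cent_z hy hy1 hx
  exact X.form_mem hz i j

theorem Cz_comm {a b : G} (ha : a ∈ X.Cz) (hb : b ∈ X.Cz) : a * b = b * a := by
  obtain ⟨z, hz, i, j, rfl⟩ := X.Cz_elim ha
  obtain ⟨z', hz', i', j', rfl⟩ := X.Cz_elim hb
  exact (X.form_commute hz hz' i j i' j').eq

theorem t_mem_Cz : X.t ∈ X.Cz := by simpa using X.form_mem (one_mem _) true false

theorem u_mem_Cz : X.u ∈ X.Cz := by simpa using X.form_mem (one_mem _) false true

theorem Z_mem_Cz {y : P} (hy : y ∈ X.S.lp.D.Y) : X.ι y ∈ X.Cz := by simpa using X.form_mem hy false false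

theorem card_Cz : Nat.card ↥X.Cz = 4 * X.r := by
  haveI := X.S.lp.finiteP
  set D := X.S.lp.D
  let f : Bool × Bool × ↥D.Y → ↥X.Cz := fun p =>
    ⟨(if p.1 then X.t else 1) * X.ι ((if p.2.1 then D.u else 1) * (p.2.2 : P)), X.form_mem p.2.2.2 _ _⟩
  have hu : D.u ∉ D.Y := fun h => by
    have h2 : orderOf D.u = 2 := orderOf_eq_prime (by rw [pow_two, D.u2]) D.u1
    have hd := D.odd_Y h
    rw [h2] at hd
    exact absurd hd (by decide)
  have hf : Function.Bijective f := by
    constructor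
    · rintro ⟨a, b, z⟩ ⟨a', b', z'⟩ h
      have h' : (if a then X.t else 1) * X.ι ((if b then D.u else 1) * (z : P)) =
          (if a' then X.t else 1) * X.ι ((if b' then D.u else 1) * (z' : P)) := congrArg Subtype.val h
      have haa : a = a' := by
        rcases a <;> rcases a'
        · rfl
        · exact absurd (by simpa using h') (X.S.B.ι_ne_tι _ _)
        · exact absurd (by simpa using h'.symm) (X.S.B.ι_ne_tι _ _)
        · rfl
      subst haa
      have h2 := X.S.B.inj (mul_left_cancel h')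
      have hbb : b = b' := by
        rcases b <;> rcases b'
        · rfl
        · refine absurd ?_ hu
          have e : D.u = (z : P) * (z' : P)⁻¹ := by
            rw [eq_mul_inv_iff_mul_eq]; simpa using h2.symm
          rw [e]; exact mul_mem z.2 (inv_mem z'.2)
        · refine absurd ?_ hu
          have e : D.u = (z' : P) * (z : P)⁻¹ := by
            rw [eq_mul_inv_iff_mul_eq]; simpa using h2
          rw [e]; exact mul_mem z'.2 (inv_mem z.2)
        · rfl
      subst hbb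
      rw [Subtype.ext (mul_left_cancel h2)]
    · rintro ⟨x, hx⟩
      obtain ⟨z, hz, i, j, rfl⟩ := X.Cz_elim hx
      exact ⟨(i, j, ⟨z, hz⟩), rfl⟩
  rw [← Nat.card_congr (Equiv.ofBijective f hf), Nat.card_prod, Nat.card_prod, Nat.card_eq_fintype_card,
    Fintype.card_bool, D.card_Y]
  ring

theorem card_Zm : Nat.card ↥(X.S.lp.D.Y.map X.ι) = X.r :=
  (card_map_of_injective X.S.B.inj).trans X.S.lp.D.card_Y

/-- Elements of the second factor of odd order. -/
theorem odd_class {k : P} (hk : Odd (orderOf k)) (hk1 : k ≠ 1) :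
    ∃ c : P, c * k * c⁻¹ ∈ X.S.lp.K.U ∨ c * k * c⁻¹ ∈ X.S.lp.K.Y ∨ c * k * c⁻¹ ∈ X.S.lp.D.Y := by
  haveI := X.S.lp.finiteP
  set p := (orderOf k).minFac with hp
  have hne : orderOf k ≠ 1 := fun h => hk1 (orderOf_eq_one_iff.1 h)
  have hpp : p.Prime := Nat.minFac_prime hne
  have hpd : p ∣ orderOf k := Nat.minFac_dvd _
  set k' := k ^ (orderOf k / p) with hk'
  have hko : orderOf k' = p ^ 1 := by
    rw [pow_one, orderOf_pow_orderOf_div (orderOf_pos k).ne' hpd]
  have hk'1 : k' ≠ 1 := fun h => by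
    rw [h, orderOf_one, pow_one] at hko
    exact hpp.one_lt.ne hko
  have hcard := X.S.lp.card_P
  have hdvd : p ∣ 4 * X.r * X.m * X.q := by
    rw [show 4 * X.r * X.m * X.q = Nat.card P from hcard.symm]
    exact hpd.trans (orderOf_dvd_natCard k)
  have hp2 : p ≠ 2 := fun h => by
    obtain ⟨d, hd⟩ := hk
    rw [h] at hpd
    omega
  have hconj : ∀ c : P, c * k' * c⁻¹ = (c * k * c⁻¹) ^ (orderOf k / p) := fun c => (conj_pow).symm
  have hcomm : ∀ c : P, Commute (c * k * c⁻¹) (c * k' * c⁻¹) := fun c => by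
    rw [hconj]; exact Commute.self_pow _ _
  have hne' : ∀ c : P, c * k' * c⁻¹ ≠ 1 := fun c h => hk'1 (conj_eq_one_iff.1 h)
  rcases hpp.dvd_mul.1 hdvd with h | h
  · rcases hpp.dvd_mul.1 h with h | h
    · rcases hpp.dvd_mul.1 h with h | h
      · exact absurd ((Nat.prime_dvd_prime_iff_eq hpp Nat.prime_two).1
          (hpp.dvd_of_dvd_pow (show p ∣ 2 ^ 2 by simpa using h))) hp2
      · obtain ⟨c, hc⟩ := X.S.lp.conj_into_Y hpp h (hko.trans (pow_one p))
        obtain ⟨y, hy, e | e⟩ := X.S.lp.D.cent_Y _ hc (hne' c) _ (hcomm c).eq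
        · exact ⟨c, Or.inr (Or.inr (e ▸ hy))⟩
        · exfalso
          have hord : orderOf (c * k * c⁻¹) = orderOf k :=
            orderOf_injective (MulAut.conj c).toMonoidHom (MulAut.conj c).injective k
          have hu : Commute X.S.lp.D.u y := X.S.lp.D.u_Y y hy
          obtain ⟨d, hd⟩ := hk
          have h1 := pow_orderOf_eq_one (c * k * c⁻¹)
          rw [hord, e, hu.mul_pow, hd, pow_succ X.S.lp.D.u, pow_mul, pow_two, X.S.lp.D.u2, one_pow, one_mul] at h1
          have h2 : orderOf X.S.lp.D.u = 2 := orderOf_eq_prime (by rw [pow_two, X.S.lp.D.u2]) X.S.lp.D.u1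
          have hd' := X.S.lp.D.odd_Y
            (show X.S.lp.D.u ∈ X.S.lp.D.Y by
              rw [eq_inv_of_mul_eq_one_left h1]; exact inv_mem (pow_mem hy _))
          rw [h2] at hd'
          exact absurd hd' (by decide)
    · -- the split torus
      obtain ⟨c, hc⟩ := conj_into hpp X.S.lp.card_Y
        (show Nat.card P = X.m * (4 * X.r * X.q) by rw [hcard]; ring) (by
          intro h'
          have hq : p ∣ 2 * X.m := h.mul_left 2
          rcases hpp.dvd_mul.1 h' with h'' | h''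
          · rw [← X.q_r, X.q_m, show 2 * X.m + 1 + 1 = 2 * X.m + 2 by ring] at h''
            exact hp2 ((Nat.prime_dvd_prime_iff_eq hpp Nat.prime_two).1 ((Nat.dvd_add_right hq).1 h''))
          · rw [X.q_m] at h''
            exact hpp.not_dvd_one ((Nat.dvd_add_right hq).1 h'')) hko
      exact ⟨c, Or.inr (Or.inl (X.S.lp.cent_torus hc (hne' c) (hcomm c).eq))⟩
  · -- the root subgroup
    have h3 : p = 3 := by
      rw [X.q_three] at h
      exact (Nat.prime_dvd_prime_iff_eq hpp Nat.prime_three).1 (hpp.dvd_of_dvd_pow h)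
    obtain ⟨c, hc⟩ := conj_into hpp X.S.lp.K.card_U
      (show Nat.card P = X.q * (4 * X.r * X.m) by rw [hcard]; ring) (by
        intro h'
        rw [h3] at h'
        rcases Nat.prime_three.dvd_mul.1 h' with h'' | h''
        · rw [← X.q_r] at h''
          have := X.three_q
          omega
        · exact X.S.lp.not_three_dvd_m h'') hko
    exact ⟨c, Or.inl (X.S.lp.cent_root hc (hne' c) (hcomm c).eq)⟩

/-- An element of even order is conjugate to `t` times an element of odd order of the second factor. -/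
theorem even_form {g : G} (hg : 2 ∣ orderOf g) :
    ∃ (c : G) (k : P), Odd (orderOf k) ∧ c * g * c⁻¹ = X.t * X.ι k := by
  haveI : Fact (Nat.Prime 2) := ⟨Nat.prime_two⟩
  obtain ⟨o, ho⟩ := hg
  have hn0 := orderOf_pos g
  have hodd : Odd o := by
    by_contra he
    obtain ⟨d, hd⟩ := (even_iff_two_dvd.1 (Nat.not_odd_iff_even.1 he))
    have h4 : orderOf (g ^ (orderOf g / 4)) = 4 :=
      orderOf_pow_orderOf_div hn0.ne' ⟨d, by rw [ho, hd]; ring⟩
    have h := X.S.amb.sq2 (g ^ (orderOf g / 4)) ⟨2, orderOf_dvd_iff_pow_eq_one.1 (by rw [h4]; norm_num)⟩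
    rw [← pow_two] at h
    have := Nat.le_of_dvd two_pos (h4 ▸ orderOf_dvd_of_pow_eq_one h)
    omega
  have hτ : orderOf (g ^ o) = 2 := by
    have h := orderOf_pow_orderOf_div hn0.ne' (Dvd.intro _ ho.symm : 2 ∣ orderOf g)
    rwa [show orderOf g / 2 = o by omega] at h
  obtain ⟨c, hc⟩ := X.one_class hτ
  set g' := c⁻¹ * g * c with hg'
  have hg'o : g' ^ o = X.t := by
    rw [hg', show c⁻¹ * g * c = c⁻¹ * g * (c⁻¹)⁻¹ by rw [inv_inv], conj_pow, ← hc]; group
  have hcomm : g' * X.t = X.t * g' := by rw [← hg'o]; exact (Commute.self_pow g' o).eq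
  have hodd' : Odd (orderOf (X.t * g')) := by
    refine hodd.of_dvd_nat (orderOf_dvd_of_pow_eq_one ?_)
    obtain ⟨d, hd⟩ := hodd
    rw [(show Commute X.t g' from hcomm.symm).mul_pow, hg'o, hd, pow_succ, pow_mul, pow_two, X.tt, one_pow,
      one_mul, X.tt]
  obtain ⟨k, hk, hok⟩ := X.S.odd_mem hodd' (by
    calc X.t * g' * X.t = X.t * (g' * X.t) := mul_assoc _ _ _
      _ = _ := by rw [hcomm])
  refine ⟨c⁻¹, k, hok ▸ hodd', ?_⟩
  rw [inv_inv, ← hk, ← mul_assoc, X.tt, one_mul]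

theorem cent_conj_card (c g : G) :
    Nat.card ↥(centralizer ({c * g * c⁻¹} : Set G)) = Nat.card ↥(centralizer ({g} : Set G)) := by
  refine Nat.card_congr ((MulAut.conj c⁻¹).toEquiv.subtypeEquiv fun x => ?_)
  show x ∈ centralizer ({c * g * c⁻¹} : Set G) ↔ c⁻¹ * x * (c⁻¹)⁻¹ ∈ centralizer ({g} : Set G)
  rw [mem_centralizer_singleton_iff, mem_centralizer_singleton_iff, inv_inv]
  constructor
  · intro h
    calc c⁻¹ * x * c * g = c⁻¹ * (x * (c * g * c⁻¹)) * c := by group
      _ = c⁻¹ * ((c * g * c⁻¹) * x) * c := by rw [h]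
      _ = _ := by group
  · intro h
    calc x * (c * g * c⁻¹) = c * (c⁻¹ * x * c * g) * c⁻¹ := by group
      _ = c * (g * (c⁻¹ * x * c)) * c⁻¹ := by rw [h]
      _ = _ := by group

theorem cent_sq {g x : G} (h : x * g = g * x) : x * (g * g) = g * g * x := by
  rw [← mul_assoc, h, mul_assoc, h, ← mul_assoc]

theorem sq_t_form (k : P) : (X.t * X.ι k) * (X.t * X.ι k) = X.ι (k * k) := by
  rw [show X.t * X.ι k * (X.t * X.ι k) = X.t * (X.ι k * X.t) * X.ι k by group, X.tc, ← mul_assoc, X.tt,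
    one_mul, map_mul]

theorem sq_ne_one {k : P} (hk : Odd (orderOf k)) (hk1 : k ≠ 1) : k * k ≠ 1 := fun h => by
  have h2 : orderOf k = 2 := orderOf_eq_prime (by rw [pow_two, h]) hk1
  rw [h2] at hk
  exact absurd hk (by decide)

theorem cent_ty_card {y : P} (hy : y ∈ X.S.lp.K.Y) (hy1 : y ≠ 1) :
    Nat.card ↥(centralizer ({X.t * X.ι y} : Set G)) ≤ X.q - 1 := by
  rw [← X.card_T]
  refine Nat.le_of_dvd Nat.card_pos (card_dvd_of_le fun x hx => ?_)
  have hodd : Odd (orderOf y) := X.m_odd.of_dvd_nat (orderOf_dvd_of_pow_eq_one (X.S.lp.pow_m hy))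
  refine X.cent_ym (mul_mem hy hy) (sq_ne_one hodd hy1) ?_
  have h := cent_sq (mem_centralizer_singleton_iff.1 hx)
  rwa [X.sq_t_form] at h

theorem cent_y_card {y : P} (hy : y ∈ X.S.lp.K.Y) (hy1 : y ≠ 1) :
    Nat.card ↥(centralizer ({X.ι y} : Set G)) ≤ X.q - 1 := by
  rw [← X.card_T]
  exact Nat.le_of_dvd Nat.card_pos (card_dvd_of_le fun x hx => X.cent_ym hy hy1 (mem_centralizer_singleton_iff.1 hx))

theorem cent_tz_card {y : P} (hy : y ∈ X.S.lp.D.Y) (hy1 : y ≠ 1) :
    Nat.card ↥(centralizer ({X.t * X.ι y} : Set G)) ≤ 4 * X.r := by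
  rw [← X.card_Cz]
  refine Nat.le_of_dvd Nat.card_pos (card_dvd_of_le fun x hx => ?_)
  refine X.cent_z_mem (mul_mem hy hy) (sq_ne_one (X.S.lp.D.odd_Y hy) hy1) ?_
  have h := cent_sq (mem_centralizer_singleton_iff.1 hx)
  rwa [X.sq_t_form] at h

theorem cent_z_card {y : P} (hy : y ∈ X.S.lp.D.Y) (hy1 : y ≠ 1) :
    Nat.card ↥(centralizer ({X.ι y} : Set G)) ≤ 4 * X.r := by
  rw [← X.card_Cz]
  exact Nat.le_of_dvd Nat.card_pos
    (card_dvd_of_le fun x hx => X.cent_z_mem hy hy1 (mem_centralizer_singleton_iff.1 hx))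

theorem cent_tU_card {k : P} (hk : k ∈ X.S.lp.K.U) (hk1 : k ≠ 1) :
    Nat.card ↥(centralizer ({X.t * X.ι k} : Set G)) ≤ 2 * X.q := by
  haveI := X.S.lp.finiteP
  have hkq : k ^ X.q = 1 := by
    have h : (⟨k, hk⟩ : ↥X.S.lp.K.U) ^ Nat.card ↥X.S.lp.K.U = 1 := pow_card_eq_one'
    rw [X.S.lp.K.card_U] at h
    exact congrArg Subtype.val h
  have hform : ∀ x ∈ centralizer ({X.t * X.ι k} : Set G),
      ∃ (i : Bool) (a : ↥X.S.lp.K.U), x = (if i then X.t else 1) * X.ι a := by
    intro x hx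
    have hxg : Commute x (X.t * X.ι k) := mem_centralizer_singleton_iff.1 hx
    have hc : Commute X.t (X.ι k) := (X.tc k).symm
    have hgq : (X.t * X.ι k) ^ X.q = X.t := by
      obtain ⟨d, hd⟩ := X.q_odd
      rw [hc.mul_pow, ← map_pow, hkq, map_one, mul_one, hd, pow_succ, pow_mul, pow_two, X.tt, one_pow, one_mul]
    have hxt : Commute x X.t := hgq ▸ hxg.pow_right X.q
    have hxk : Commute x (X.ι k) := by
      have h := hxt.mul_right hxg
      rwa [← mul_assoc, X.tt, one_mul] at h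
    obtain ⟨a, ha | ha⟩ := X.S.B.cover x hxt.eq
    · exact ⟨false, ⟨a, X.S.lp.cent_root hk hk1 (X.S.B.inj (by rw [map_mul, map_mul, ← ha]; exact hxk.eq))⟩,
        by simp [ha]⟩
    · refine ⟨true, ⟨a, X.S.lp.cent_root hk hk1 (X.S.B.inj ?_)⟩, by simp [ha]⟩
      rw [map_mul, map_mul]
      refine mul_left_cancel (a := X.t) ?_
      rw [← mul_assoc, ← ha, hxk.eq, ← mul_assoc X.t, ← X.tc k, mul_assoc (X.ι k), ← ha]
  choose i a ha using hform
  refine le_trans (Nat.card_le_card_of_injective (β := Bool × ↥X.S.lp.K.U)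
    (fun x : ↥(centralizer ({X.t * X.ι k} : Set G)) => (i x x.2, a x x.2))
    fun x y h => Subtype.ext ?_) (le_of_eq ?_)
  · obtain ⟨h1, h2⟩ := Prod.mk.inj h
    rw [ha x x.2, ha y y.2, h1, h2]
  · rw [Nat.card_prod, Nat.card_eq_fintype_card, Fintype.card_bool, X.S.lp.K.card_U]

end Sys

end Cfsg.Agent.Invol.CycTI.Ree
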