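import Cfsg.Agent.Lib.Invol.CycTI.Ree.Family
import Cfsg.Agent.Lib.Invol.CycTI.Ree.AbelBound

/-!
# The coherent family vanishes on the elements of order not prime to `q² - 1`
-/

set_option autoImplicit false
set_option linter.unusedSectionVars false
set_option linter.style.haveILetI false

namespace Cfsg.Agent.Invol.CycTI.Ree

open Subgroup
open Cfsg
open scoped ComplexConjugate
open scoped _root_.Classical

universe u v

namespace Fam

variable {G : Type u} [Group G] [Fintype G] {P : Type v} [Group P] {X : Sys G P} (F : Fam X)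

theorem eps_ne : F.ε ≠ 0 := by rcases F.hε with h | h <;> rw [h] <;> norm_num

/-- Members agree where the induced functions agree. -/
theorem eq_of_ind {g : G} (h : ∀ i j, indFun X.Q (fn (F.rep i)) g = indFun X.Q (fn (F.rep j)) g) (i j) :
    F.θ i g = F.θ j g := by
  have e := congrFun (F.diff i j) g
  rw [Pi.sub_apply, h i j, sub_self, Pi.smul_apply, Pi.sub_apply, smul_eq_mul, eq_comm, mul_eq_zero] at e
  exact sub_eq_zero.1 (e.resolve_left F.eps_ne)

/-- Members agree outside the conjugates of `Q`. -/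
theorem eq_off {g : G} (h : ∀ x : G, x⁻¹ * g * x ∉ X.Q) (i j) : F.θ i g = F.θ j g :=
  F.eq_of_ind (fun _ _ => ind_apply_eq fun x hx => absurd hx (h x)) i j

theorem eq_one (i j) : F.θ i 1 = F.θ j 1 := F.eq_of_ind (fun _ _ => diff_one _ _) i j

/-- The column inequality for a common value. -/
theorem value_bound {g : G} {k : Fin X.q} (h : ∀ i, F.θ i g = F.θ k g) {B : ℕ}
    (hB : Nat.card ↥(centralizer ({g} : Set G)) ≤ B) : (X.q : ℝ) * ‖F.θ k g‖ ^ 2 ≤ B :=
  (col_bound_const F.θ F.irr F.inj k g h).trans (by exact_mod_cast hB)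

/-- Outside `Q`: a power prime to three is trivial or ... -/
theorem not_in_Q {g : G} {n : ℕ} (hn : g ^ n = 1) (h3 : ¬ 3 ∣ n) (hg : g ≠ 1) (x : G) : x⁻¹ * g * x ∉ X.Q := by
  intro hx
  refine hg ?_
  have h1 : (x⁻¹ * g * x) ^ n = 1 := by
    rw [show x⁻¹ * g * x = x⁻¹ * g * (x⁻¹)⁻¹ by rw [inv_inv], conj_pow, hn]; group
  have h2 := pow_gcd_eq_one.2 ⟨h1, X.pow_Q hx⟩
  rw [((Nat.prime_three.coprime_iff_not_dvd.2 h3).pow_left _).symm.gcd_eq_one, pow_one] at h2
  calc g = x * (x⁻¹ * g * x) * x⁻¹ := by group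
    _ = 1 := by rw [h2]; group

theorem t_form_not_in_Q (k : P) (x : G) : x⁻¹ * (X.t * X.ι k) * x ∉ X.Q := by
  intro hx
  have h1 := X.pow_Q hx
  rw [show x⁻¹ * (X.t * X.ι k) * x = x⁻¹ * (X.t * X.ι k) * (x⁻¹)⁻¹ by rw [inv_inv], conj_pow,
    conj_eq_one_iff, (show Commute X.t (X.ι k) from (X.tc k).symm).mul_pow] at h1
  obtain ⟨d, hd⟩ := (by decide : Odd 3).pow (n := 3 * X.e)
  rw [hd, pow_succ X.t, pow_mul, pow_two, X.tt, one_pow, one_mul, ← map_pow] at h1
  exact X.S.B.t_not (k ^ (2 * d + 1))⁻¹ (by rw [map_inv, ← eq_inv_of_mul_eq_one_left h1])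

/-- The values on `t` times the second factor are common. -/
theorem eq_t (k : P) (i j) : F.θ i (X.t * X.ι k) = F.θ j (X.t * X.ι k) := F.eq_off (t_form_not_in_Q k) i j

theorem classFun (i) : IsClassFunction G (F.θ i) := Char.IsIrr.classFun (F.irr i)

theorem genChar (i) : IsGeneralizedCharacter G (F.θ i) :=
  Char.IsGenChar.of_isCharacter (Char.IsIrr.isCharacter (F.irr i))

/-- A bound on the sum of squares over a subgroup off the identity. -/
theorem off_le (A : Subgroup G) (f : ↥A → ℂ) {B : ℕ} (s : Finset ↥A) (hs : ∀ a ∈ s, (X.q : ℝ) * ‖f a‖ ^ 2 ≤ B)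
    (h0 : ∀ a : ↥A, a ≠ 1 → a ∉ s → f a = 0) {N : ℕ} (hN : s.card ≤ N) :
    (X.q : ℝ) * off f ≤ (N : ℝ) * B := by
  have h : off f ≤ ∑ a ∈ s, ‖f a‖ ^ 2 := by
    rw [off, ← Finset.sum_filter_ne_zero]
    refine Finset.sum_le_sum_of_subset_of_nonneg (fun a ha => ?_) fun _ _ _ => sq_nonneg _
    obtain ⟨ha, hne⟩ := Finset.mem_filter.1 ha
    by_contra hna
    exact hne (by rw [h0 a (by simpa using ha) hna, norm_zero]; norm_num)
  refine (mul_le_mul_of_nonneg_left h (Nat.cast_nonneg _)).trans ?_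
  rw [Finset.mul_sum]
  refine (Finset.sum_le_sum hs).trans ?_
  rw [Finset.sum_const, nsmul_eq_mul]
  exact mul_le_mul_of_nonneg_right (by exact_mod_cast hN) (Nat.cast_nonneg _)

theorem card_erase_one {A : Subgroup G} : ((Finset.univ : Finset ↥A).erase 1).card = Nat.card ↥A - 1 := by
  rw [Finset.card_erase_of_mem (Finset.mem_univ _), Finset.card_univ, Nat.card_eq_fintype_card]

/-- The restriction to a coset `t A`. -/
def shift (k : Fin X.q) (A : Subgroup G) : ↥A → ℂ := fun a => F.θ k (X.t * (a : G))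

theorem shift_one (k : Fin X.q) (A : Subgroup G) : F.shift k A 1 = F.θ k X.t := by simp [shift]

theorem shift_gen (k : Fin X.q) (H : Subgroup P) (hH : ∀ a ∈ H, ∀ b ∈ H, a * b = b * a) :
    IsGeneralizedCharacter ↥(H.map X.ι) (F.shift k (H.map X.ι)) :=
  isGenChar_shift (H.map X.ι)
    (by rintro _ ⟨a, ha, rfl⟩ _ ⟨b, hb, rfl⟩; rw [← map_mul, ← map_mul, hH a ha b hb])
    X.tt (by rintro _ ⟨a, -, rfl⟩; exact X.tc a) (F.genChar k)

theorem map_comm (H : Subgroup P) (hH : ∀ a ∈ H, ∀ b ∈ H, a * b = b * a) (a b : ↥(H.map X.ι)) : a * b = b * a := by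
  obtain ⟨_, x, hx, rfl⟩ := a
  obtain ⟨_, y, hy, rfl⟩ := b
  exact Subtype.ext (show X.ι x * X.ι y = X.ι y * X.ι x by rw [← map_mul, ← map_mul, hH x hx y hy])

theorem shift_bound (k : Fin X.q) (H : Subgroup P) {B : ℕ}
    (hB : ∀ y ∈ H, y ≠ 1 → Nat.card ↥(centralizer ({X.t * X.ι y} : Set G)) ≤ B) :
    (X.q : ℝ) * off (F.shift k (H.map X.ι)) ≤ ((Nat.card ↥(H.map X.ι) - 1 : ℕ) : ℝ) * B := by
  refine off_le _ _ (Finset.univ.erase 1) (fun a ha => ?_)
    (fun a ha hna => absurd (Finset.mem_erase.2 ⟨ha, Finset.mem_univ _⟩) hna) (le_of_eq card_erase_one)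
  obtain ⟨_, y, hy, rfl⟩ := a
  exact F.value_bound (fun i => F.eq_t y i k)
    (hB y hy fun e => (Finset.mem_erase.1 ha).1 (Subtype.ext (by simp [e])))

theorem card_map (H : Subgroup P) : Nat.card ↥(H.map X.ι) = Nat.card ↥H := card_map_of_injective X.S.B.inj

theorem U_comm : ∀ a ∈ X.S.lp.K.U, ∀ b ∈ X.S.lp.K.U, a * b = b * a := X.S.lp.K.U_comm

theorem Z_comm : ∀ a ∈ X.S.lp.D.Y, ∀ b ∈ X.S.lp.D.Y, a * b = b * a := fun _ ha _ hb => (X.D_Y_comm ha hb).eq

theorem exists_int_t (k : Fin X.q) : ∃ z : ℤ, F.θ k X.t = z := by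
  obtain ⟨a, -, h1, -⟩ := parseval (map_comm X.S.lp.K.Y X.S.lp.K.Y_comm) (F.shift_gen k _ X.S.lp.K.Y_comm)
  exact ⟨_, (F.shift_one k _).symm.trans h1⟩

theorem mul_le_of_bounds {x : ℝ} {q a : ℕ} (h : (q : ℝ) * x ≤ (a : ℝ)) {b : ℝ} (hab : (a : ℝ) < q * b) : x < b :=
  lt_of_mul_lt_mul_left (lt_of_le_of_lt h hab) (Nat.cast_nonneg _)

theorem off_Y (k : Fin X.q) : off (F.shift k (X.S.lp.K.Y.map X.ι)) < (X.m : ℝ) - 1 := by
  have h := F.shift_bound k X.S.lp.K.Y fun y hy hy1 => X.cent_ty_card hy hy1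
  rw [card_map, X.S.lp.card_Y] at h
  have hm := X.m_ge
  have hq := X.q_ge
  have hm' : ((X.m - 1 : ℕ) : ℝ) = (X.m : ℝ) - 1 := by rw [Nat.cast_sub (by omega)]; norm_num
  have hq' : ((X.q - 1 : ℕ) : ℝ) = (X.q : ℝ) - 1 := by rw [Nat.cast_sub (by omega)]; norm_num
  change (X.q : ℝ) * _ ≤ ((X.m - 1 : ℕ) : ℝ) * ((X.q - 1 : ℕ) : ℝ) at h
  rw [hm', hq'] at h
  have h1 : (13 : ℝ) ≤ X.m := by exact_mod_cast hm
  have h2 : (27 : ℝ) ≤ X.q := by exact_mod_cast hq
  nlinarith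

/-- The value at `t` is zero. -/
theorem zero_t (k : Fin X.q) : F.θ k X.t = 0 := by
  obtain ⟨z, hz⟩ := F.exists_int_t k
  have hone : ∀ A : Subgroup G, F.shift k A 1 = (z : ℂ) := fun A => (F.shift_one k A).trans hz
  -- `m ∣ z`
  have hY := dvd_of_small (map_comm _ X.S.lp.K.Y_comm) (F.shift_gen k _ X.S.lp.K.Y_comm) (hone _)
    (by rw [card_map, X.S.lp.card_Y]; exact F.off_Y k)
  rw [card_map, X.S.lp.card_Y] at hY
  obtain ⟨c, hc⟩ := hY
  -- `z² < q²`
  have hb := F.value_bound (g := X.t) (k := k) (fun i => by simpa using F.eq_t 1 i k) (le_of_eq X.card_C)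
  rw [hz, Complex.norm_intCast, sq_abs] at hb
  have hq := X.q_ge
  have hm := X.m_ge
  have hqm := X.q_m
  have hqr := X.q_r
  have hr := X.r_ge
  have hsq : z ^ 2 ≤ (X.q : ℤ) ^ 2 - 1 := by
    have h1 : (((X.q * (X.q ^ 2 - 1) : ℕ)) : ℝ) = (X.q : ℝ) * ((X.q : ℝ) ^ 2 - 1) := by
      push_cast [Nat.cast_sub (Nat.one_le_pow 2 X.q (by omega))]; ring
    rw [h1] at hb
    have h2 : (z : ℝ) ^ 2 ≤ (X.q : ℝ) ^ 2 - 1 := le_of_mul_le_mul_left hb (by exact_mod_cast (show 0 < X.q by omega))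
    exact_mod_cast h2
  have hc2 : -2 ≤ c ∧ c ≤ 2 := by
    change z = (X.m : ℤ) * c at hc
    have h13 : (13 : ℤ) ≤ X.m := by exact_mod_cast hm
    have hq' : (X.q : ℤ) = 2 * X.m + 1 := by exact_mod_cast hqm
    rw [hc, hq'] at hsq
    constructor
    · by_contra h
      have hge : (X.m : ℤ) * c ≤ (X.m : ℤ) * (-3) := mul_le_mul_of_nonneg_left (by omega) (by positivity)
      nlinarith
    · by_contra h
      have hge : (X.m : ℤ) * 3 ≤ (X.m : ℤ) * c := mul_le_mul_of_nonneg_left (by omega) (by positivity)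
      nlinarith
  -- the root subgroup and the other torus
  have hU : ∀ c' s : ℤ, z = X.q * c' + s → (X.q : ℝ) * ((s : ℝ) * (X.q - s)) ≤ ((X.q : ℝ) - 1) * (2 * X.q) := by
    intro c' s hs
    have h := dev_bound (map_comm _ (U_comm (X := X))) (F.shift_gen k _ U_comm) (hone _) (c := c') (s := s)
      (by rw [card_map, X.S.lp.K.card_U]; exact hs)
    have h' := F.shift_bound k X.S.lp.K.U fun y hy hy1 => X.cent_tU_card hy hy1
    rw [card_map, X.S.lp.K.card_U] at h h'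
    rw [show ((X.q - 1 : ℕ) : ℝ) = (X.q : ℝ) - 1 by rw [Nat.cast_sub (by omega)]; norm_num] at h'
    push_cast at h'
    exact (mul_le_mul_of_nonneg_left h (Nat.cast_nonneg _)).trans h'
  have hZ : ∀ c' s : ℤ, z = X.r * c' + s → (X.q : ℝ) * ((s : ℝ) * (X.r - s)) ≤ ((X.r : ℝ) - 1) * (4 * X.r) := by
    intro c' s hs
    have h := dev_bound (map_comm _ (Z_comm (X := X))) (F.shift_gen k _ Z_comm) (hone _) (c := c') (s := s)
      (by rw [card_map, X.S.lp.D.card_Y]; exact hs)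
    have h' := F.shift_bound k X.S.lp.D.Y fun y hy hy1 => X.cent_tz_card hy hy1
    rw [card_map, X.S.lp.D.card_Y] at h h'
    rw [show ((X.r - 1 : ℕ) : ℝ) = (X.r : ℝ) - 1 by rw [Nat.cast_sub (by omega)]; norm_num] at h'
    push_cast at h'
    exact (mul_le_mul_of_nonneg_left h (Nat.cast_nonneg _)).trans h'
  have eq' : (X.q : ℝ) = 2 * X.m + 1 := by exact_mod_cast hqm
  have er' : (X.q : ℝ) + 1 = 4 * X.r := by exact_mod_cast hqr
  have eqz : (X.q : ℤ) = 2 * X.m + 1 := by exact_mod_cast hqm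
  have erz : (X.q : ℤ) + 1 = 4 * X.r := by exact_mod_cast hqr
  have gm : (13 : ℝ) ≤ X.m := by exact_mod_cast hm
  have gr : (7 : ℝ) ≤ X.r := by exact_mod_cast hr
  have c0 : c = 0 := by
    change z = (X.m : ℤ) * c at hc
    obtain ⟨h1, h2⟩ := hc2
    interval_cases c
    · exfalso
      have h := hZ (-4) 2 (by omega)
      push_cast at h
      nlinarith
    · exfalso
      have h := hU (-1) (X.m + 1) (by omega)
      push_cast at h
      rw [eq'] at h
      nlinarith [mul_pos (mul_pos (by linarith : (0 : ℝ) < 2 * X.m + 1) (by linarith : (0 : ℝ) < X.m))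
        (by linarith : (0 : ℝ) < (X.m : ℝ) - 3)]
    · rfl
    · exfalso
      have h := hU 0 X.m (by omega)
      push_cast at h
      rw [eq'] at h
      nlinarith [mul_pos (mul_pos (by linarith : (0 : ℝ) < 2 * X.m + 1) (by linarith : (0 : ℝ) < X.m))
        (by linarith : (0 : ℝ) < (X.m : ℝ) - 3)]
    · exfalso
      have h := hZ 3 (X.r - 2) (by omega)
      push_cast at h
      nlinarith
  rw [hz, hc, c0, mul_zero, Int.cast_zero]

theorem zero_shift (k : Fin X.q) (H : Subgroup P) (hH : ∀ a ∈ H, ∀ b ∈ H, a * b = b * a) {B : ℕ}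
    (hB : ∀ y ∈ H, y ≠ 1 → Nat.card ↥(centralizer ({X.t * X.ι y} : Set G)) ≤ B) (hsmall : B ≤ 2 * X.q)
    {y : P} (hy : y ∈ H) : F.θ k (X.t * X.ι y) = 0 := by
  by_cases hy1 : y = 1
  · rw [hy1, map_one, mul_one]; exact F.zero_t k
  have h := vanish_of_dvd (map_comm H hH) (F.shift_gen k H hH) (v := 0)
    (by rw [F.shift_one, F.zero_t, Int.cast_zero]) (dvd_zero _) ?_ (x := ⟨X.ι y, y, hy, rfl⟩)
    fun e => hy1 (X.S.B.inj ((congrArg Subtype.val e).trans (map_one X.ι).symm))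
  · exact h
  · have h' := F.shift_bound k H hB
    have hpos : 0 < Nat.card ↥(H.map X.ι) := Nat.card_pos
    have hlt : ((Nat.card ↥(H.map X.ι) - 1 : ℕ) : ℝ) < (Nat.card ↥(H.map X.ι) : ℝ) := by
      exact_mod_cast Nat.sub_lt hpos one_pos
    have hq0 : (0 : ℝ) < X.q := by exact_mod_cast (show 0 < X.q by have := X.q_ge; omega)
    have hBle : (B : ℝ) ≤ 2 * X.q := by exact_mod_cast hsmall
    nlinarith [Nat.cast_nonneg (α := ℝ) (Nat.card ↥(H.map X.ι) - 1)]

theorem zero_t_form (k : Fin X.q) {y : P} (hy : Odd (orderOf y)) : F.θ k (X.t * X.ι y) = 0 := by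
  by_cases hy1 : y = 1
  · rw [hy1, map_one, mul_one]; exact F.zero_t k
  obtain ⟨c, hc⟩ := X.odd_class hy hy1
  have e : F.θ k (X.t * X.ι y) = F.θ k (X.t * X.ι (c * y * c⁻¹)) := by
    rw [← F.classFun k (X.t * X.ι y) (X.ι c), map_mul, map_mul, map_inv]
    congr 1
    rw [← mul_assoc (X.ι c) X.t, X.tc]; group
  rw [e]
  rcases hc with hc | hc | hc
  · exact F.zero_shift k _ U_comm (fun z hz h1 => X.cent_tU_card hz h1) le_rfl hc
  · exact F.zero_shift k _ X.S.lp.K.Y_comm (fun z hz h1 => X.cent_ty_card hz h1) (by omega) hc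
  · exact F.zero_shift k _ Z_comm (fun z hz h1 => X.cent_tz_card hz h1)
      (by have := X.q_r; have := X.q_ge; omega) hc

/-- The members vanish on the elements of even order. -/
theorem zero_even (k : Fin X.q) {g : G} (hg : 2 ∣ orderOf g) : F.θ k g = 0 := by
  obtain ⟨c, y, hy, e⟩ := X.even_form hg
  rw [← F.classFun k g c, e]
  exact F.zero_t_form k hy

/-- The degree. -/
theorem exists_deg (k : Fin X.q) : ∃ D : ℕ, 0 < D ∧ F.θ k 1 = D := Char.IsIrr.one_eq_pos (F.irr k)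

theorem res_gen (k : Fin X.q) (A : Subgroup G) : IsGeneralizedCharacter ↥A fun a => F.θ k a :=
  Char.IsGenChar.comp A.subtype (F.genChar k)

theorem even_of_T {y : P} (hy : y ∈ X.S.lp.K.Y) : 2 ∣ orderOf (X.t * X.ι y) := by
  by_contra h
  obtain ⟨d, hd⟩ := Nat.not_even_iff_odd.1 (fun he => h (even_iff_two_dvd.1 he))
  have h1 := pow_orderOf_eq_one (X.t * X.ι y)
  rw [hd, (show Commute X.t (X.ι y) from (X.tc y).symm).mul_pow, pow_succ X.t, pow_mul, pow_two, X.tt, one_pow,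
    one_mul, ← map_pow] at h1
  exact X.S.B.t_not (y ^ (2 * d + 1))⁻¹ (by rw [map_inv, ← eq_inv_of_mul_eq_one_left h1])

theorem T_spec (k : Fin X.q) {D : ℕ} (hD : F.θ k 1 = D) :
    X.q - 1 ∣ D ∧ ∀ x ∈ X.S.T, x ≠ 1 → F.θ k x = 0 := by
  have hbound : (X.q : ℝ) * off (fun a : ↥X.S.T => F.θ k a) ≤ ((X.q - 1 - 1 : ℕ) : ℝ) * ((X.q - 1 : ℕ) : ℝ) := by
    refine off_le _ _ (Finset.univ.erase 1) (fun a ha => ?_)
      (fun a ha hna => absurd (Finset.mem_erase.2 ⟨ha, Finset.mem_univ _⟩) hna)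
      (le_of_eq (by rw [card_erase_one, X.card_T]))
    obtain ⟨y, hy, e⟩ := X.S.mem_T a.2
    have ha1 : (a : G) ≠ 1 := fun h => (Finset.mem_erase.1 ha).1 (Subtype.ext h)
    rcases e with e | e
    · have hy1 : y ≠ 1 := fun h => ha1 (by rw [e, h, map_one])
      refine F.value_bound (fun i => F.eq_off (fun x => ?_) i k) ?_
      · refine not_in_Q (X := X) (n := X.m) ?_ X.S.lp.not_three_dvd_m ha1 x
        rw [e, ← map_pow, X.S.lp.pow_m hy, map_one]
      · rw [e]; exact X.cent_y_card hy hy1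
    · rw [e, F.zero_even k (even_of_T hy), norm_zero]
      simp
  have hq := X.q_ge
  have hsmall : off (fun a : ↥X.S.T => F.θ k a) < ((X.q - 1 : ℕ) : ℝ) - 1 := by
    rw [Nat.cast_sub (by omega), Nat.cast_sub (by omega)] at hbound
    rw [Nat.cast_sub (by omega)]
    push_cast at hbound ⊢
    have h2 : (27 : ℝ) ≤ X.q := by exact_mod_cast hq
    nlinarith
  obtain ⟨h1, h2⟩ := small_vanish (fun a b => Subtype.ext (X.T_comm a.2 b.2)) (F.res_gen k X.S.T)
    (v := (D : ℤ)) (by rw [Int.cast_natCast]; exact hD) (by rw [X.card_T]; exact hsmall)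
  rw [X.card_T] at h1
  exact ⟨by exact_mod_cast h1, fun x hx hx1 => h2 ⟨x, hx⟩ fun e => hx1 (congrArg Subtype.val e)⟩

theorem even_of_form (i j : Bool) (hij : i || j) {z : P} (hz : z ∈ X.S.lp.D.Y) :
    2 ∣ orderOf ((if i then X.t else 1) * X.ι ((if j then X.S.lp.D.u else 1) * z)) := by
  set x := (if i then X.t else 1) * X.ι ((if j then X.S.lp.D.u else 1) * z)
  by_contra h
  have hodd : Odd (orderOf x) := Nat.not_even_iff_odd.1 (fun he => h (even_iff_two_dvd.1 he))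
  obtain ⟨d, hd⟩ := hodd.mul (X.S.lp.D.r_odd)
  have hx1 : x ^ (2 * d + 1) = 1 := by rw [← hd, pow_mul, pow_orderOf_eq_one, one_pow]
  have hz1 : z ^ (2 * d + 1) = 1 := by rw [← hd, mul_comm, pow_mul, X.S.lp.D.pow_r hz, one_pow]
  have hu : Commute X.S.lp.D.u z := X.S.lp.D.u_Y z hz
  have htc : Commute (if i then X.t else 1) (X.ι ((if j then X.S.lp.D.u else 1) * z)) := by
    cases i
    · exact Commute.one_left _
    · exact (X.tc _).symm
  have huc : Commute (if j then X.S.lp.D.u else 1) z := by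
    cases j
    · exact Commute.one_left _
    · exact hu
  have hpow : ∀ (a : G) (b : Bool), a * a = 1 →
      (if b then a else 1) ^ (2 * d + 1) = if b then a else 1 := fun a b ha => by
    cases b
    · simp
    · simp [pow_succ, pow_mul, ha]
  have hpow' : ∀ (a : P) (b : Bool), a * a = 1 →
      (if b then a else 1) ^ (2 * d + 1) = if b then a else 1 := fun a b ha => by
    cases b
    · simp
    · simp [pow_succ, pow_mul, ha]
  rw [htc.mul_pow, ← map_pow, huc.mul_pow, hz1, mul_one, hpow _ _ X.tt, hpow' _ _ X.S.lp.D.u2] at hx1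
  rcases i <;> rcases j <;> simp at hij hx1
  · exact X.S.lp.D.u1 (X.S.B.inj (hx1.trans (map_one X.ι).symm))
  · exact X.t_ne hx1
  · exact X.S.B.ι_ne_tι 1 X.S.lp.D.u (by rw [map_one]; exact hx1.symm)

theorem Cz_spec (k : Fin X.q) {D : ℕ} (hD : F.θ k 1 = D) :
    4 * X.r ∣ D ∧ ∀ x ∈ X.Cz, x ≠ 1 → F.θ k x = 0 := by
  set s := (Finset.univ.filter fun a : ↥X.Cz => ∃ z ∈ X.S.lp.D.Y, (a : G) = X.ι z).erase 1 with hs
  have hscard : s.card ≤ X.r - 1 := by
    rw [hs, Finset.card_erase_of_mem (Finset.mem_filter.2 ⟨Finset.mem_univ _, 1, one_mem _, by simp⟩)]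
    refine Nat.sub_le_sub_right ?_ 1
    rw [← Fintype.card_subtype, ← Nat.card_eq_fintype_card, ← X.card_Zm]
    refine Nat.card_le_card_of_injective (fun a => (⟨((a.1 : ↥X.Cz) : G), ?_⟩ : ↥(X.S.lp.D.Y.map X.ι)))
      fun a b e => Subtype.ext (Subtype.ext (congrArg (fun w : ↥(X.S.lp.D.Y.map X.ι) => (w : G)) e))
    obtain ⟨z, hz, e⟩ := a.2
    exact ⟨z, hz, e.symm⟩
  have hbound : (X.q : ℝ) * off (fun a : ↥X.Cz => F.θ k a) ≤ ((X.r - 1 : ℕ) : ℝ) * ((4 * X.r : ℕ) : ℝ) := by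
    refine off_le _ _ s (fun a ha => ?_) (fun a ha hna => ?_) hscard
    · obtain ⟨ha1, ha'⟩ := Finset.mem_erase.1 ha
      obtain ⟨z, hz, e⟩ := (Finset.mem_filter.1 ha').2
      have hz1 : z ≠ 1 := fun h => ha1 (Subtype.ext (by rw [e, h]; simp))
      refine F.value_bound (fun i => F.eq_off (fun x => ?_) i k) (by rw [e]; exact X.cent_z_card hz hz1)
      refine not_in_Q (X := X) (n := X.r) ?_ X.S.lp.not_three_dvd_r (fun h => ha1 (Subtype.ext h)) x
      rw [e, ← map_pow, X.S.lp.D.pow_r hz, map_one]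
    · obtain ⟨z, hz, i, j, e⟩ := X.Cz_elim a.2
      have hij : (i || j) = true := by
        cases i <;> cases j <;> first | rfl | skip
        exfalso
        exact hna (Finset.mem_erase.2 ⟨ha, Finset.mem_filter.2 ⟨Finset.mem_univ _, z, hz, by simpa using e⟩⟩)
      show F.θ k (a : G) = 0
      rw [e]
      exact F.zero_even k (even_of_form i j hij hz)
  have hq := X.q_ge
  have hr := X.r_ge
  have hqr : (X.q : ℝ) + 1 = 4 * X.r := by exact_mod_cast X.q_r
  have hsmall : off (fun a : ↥X.Cz => F.θ k a) < ((4 * X.r : ℕ) : ℝ) - 1 := by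
    rw [Nat.cast_sub (by omega)] at hbound
    push_cast at hbound ⊢
    have h2 : (7 : ℝ) ≤ X.r := by exact_mod_cast hr
    nlinarith
  obtain ⟨h1, h2⟩ := small_vanish (fun a b => Subtype.ext (X.Cz_comm a.2 b.2)) (F.res_gen k X.Cz)
    (v := (D : ℤ)) (by rw [Int.cast_natCast]; exact hD) (by rw [X.card_Cz]; exact hsmall)
  rw [X.card_Cz] at h1
  exact ⟨by exact_mod_cast h1, fun x hx hx1 => h2 ⟨x, hx⟩ fun e => hx1 (congrArg Subtype.val e)⟩

theorem eight_dvd (k : Fin X.q) {D : ℕ} (hD : F.θ k 1 = D) : 8 ∣ D := by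
  haveI : Fact (Nat.Prime 2) := ⟨Nat.prime_two⟩
  let E : Sylow 2 G := default
  have hsq : ∀ x ∈ (E : Subgroup G), x * x = 1 := fun x hx => by
    obtain ⟨j, hj⟩ := E.isPGroup' ⟨x, hx⟩
    exact X.S.amb.sq2 x ⟨j, congrArg Subtype.val hj⟩
  have hcomm : ∀ a b : ↥(E : Subgroup G), a * b = b * a := fun a b => Subtype.ext (by
    show (a : G) * b = b * a
    calc (a : G) * b = ((a : G) * b)⁻¹ := (inv_eq_of_mul_eq_one_right (hsq _ (mul_mem a.2 b.2))).symm
      _ = (b : G)⁻¹ * (a : G)⁻¹ := _root_.mul_inv_rev _ _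
      _ = _ := by rw [inv_eq_of_mul_eq_one_right (hsq _ a.2), inv_eq_of_mul_eq_one_right (hsq _ b.2)])
  have h0 : off (fun a : ↥(E : Subgroup G) => F.θ k a) = 0 := by
      unfold off
      refine Finset.sum_eq_zero fun a ha => ?_
      show ‖F.θ k (a : G)‖ ^ 2 = 0
      have h1 : (a : G) ≠ 1 := fun h => (by simpa using ha : a ≠ 1) (Subtype.ext h)
      rw [F.zero_even k (orderOf_eq_prime (by rw [pow_two, hsq _ a.2]) h1).symm.dvd, norm_zero]
      norm_num
  have h := dvd_of_small hcomm (F.res_gen k (E : Subgroup G)) (v := (D : ℤ))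
    (by rw [Int.cast_natCast]; exact hD) (by rw [h0, X.S.amb.eight E]; norm_num)
  rw [X.S.amb.eight E] at h
  exact_mod_cast h

/-- `q² - 1` divides the degree. -/
theorem dvd_deg (k : Fin X.q) {D : ℕ} (hD : F.θ k 1 = D) : X.q ^ 2 - 1 ∣ D := by
  have hm : X.m ∣ D := by
    have h := (F.T_spec k hD).1
    rw [show X.q - 1 = 2 * X.m by have := X.q_m; omega] at h
    exact (Dvd.intro_left _ rfl).trans h
  have hr : X.r ∣ D := (Dvd.intro_left _ rfl).trans (F.Cz_spec k hD).1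
  have h8 := F.eight_dvd k hD
  rw [X.sq_sub]
  have c8r : Nat.Coprime 8 X.r := by simpa using Nat.Coprime.pow_left 3 (Nat.coprime_two_left.2 X.r_odd)
  refine Nat.Coprime.mul_dvd_of_dvd_of_dvd (Nat.Coprime.mul_left ?_ ?_) (c8r.mul_dvd_of_dvd_of_dvd h8 hr) hm
  · simpa using Nat.Coprime.pow_left 3 (Nat.coprime_two_left.2 X.m_odd)
  · exact Nat.Coprime.coprime_dvd_left (Dvd.intro_left 2 rfl) X.S.lp.coprime_r_m

/-- The members vanish on elements of order not prime to `q² - 1`. -/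
theorem zero_of_not_coprime (k : Fin X.q) {g : G} {p : ℕ} (hp : p.Prime) (hg : p ∣ orderOf g)
    (hd : p ∣ X.q ^ 2 - 1) : F.θ k g = 0 := by
  obtain ⟨D, -, hD⟩ := F.exists_deg k
  set h := g ^ (orderOf g / p) with hh
  have hho : orderOf h = p := orderOf_pow_orderOf_div (orderOf_pos g).ne' hg
  have hgh : Commute g h := Commute.self_pow _ _
  have hg1 : g ≠ 1 := fun e => Sys.ne_one_of_prime hp hho (by rw [hh, e, one_pow])
  rcases X.prime_cases hp (dvd_mul_of_dvd_right hd _) with rfl | rfl | hm | hr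
  · exact F.zero_even k hg
  · exfalso
    rw [X.sq_sub] at hd
    rcases Nat.prime_three.dvd_mul.1 hd with h' | h'
    · rcases Nat.prime_three.dvd_mul.1 h' with h'' | h''
      · omega
      · exact X.S.lp.not_three_dvd_r h''
    · exact X.S.lp.not_three_dvd_m h'
  · obtain ⟨c, y, hy, hy1, e⟩ := X.class_m hp hm hho
    rw [← F.classFun k g c]
    refine (F.T_spec k hD).2 _ (X.cent_ym hy hy1 ?_) (Sys.conj_ne_one hg1)
    rw [← e, conj_mul, conj_mul, hgh.eq]
  · obtain ⟨c, y, hy, hy1, e⟩ := X.class_r hp hr hho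
    rw [← F.classFun k g c]
    refine (F.Cz_spec k hD).2 _ (X.cent_z_mem hy hy1 ?_) (Sys.conj_ne_one hg1)
    rw [← e, conj_mul, conj_mul, hgh.eq]

end Fam

end Cfsg.Agent.Invol.CycTI.Ree
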